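import Groth.Agent.L10.Shriek.BC
import Groth.Agent.L10.DTen.RelIso
import Groth.Agent.L10.DRing.TensorFinite
import Mathlib.Algebra.Homology.BifunctorShift

/-! Trivial duality along a perfect algebra as a derived tensor product. -/

universe u

open CategoryTheory CategoryTheory.Limits MonoidalCategory

attribute [local instance] HasDerivedCategory.standard

set_option backward.defeqAttrib.useBackward true
set_option backward.isDefEq.respectTransparency false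
set_option backward.isDefEq.respectTransparency.types false
set_option linter.style.haveILetI false

namespace Groth.L10.Shriek

variable {R A : Type u} [CommRing R] [CommRing A]

theorem hasLTenMix (φ : R →+* A) : _root_.DTen.HasLTenMix φ :=
  Groth.L00.LeftDeriv.hasLeftDerivedFunctor (_root_.DTen.mix₂ φ) (_root_.DTen.qisMix R A)
    (_root_.DTen.QMix R A) ((Groth.L10.KFlat.R R).prod (Groth.L10.KFlat.R A))
    ((Groth.L10.KFlat.r R).prod (Groth.L10.KFlat.r A))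
    (fun X => ⟨(HomologicalComplex.mem_quasiIso_iff _).2 (Groth.L10.KFlat.quasiIso_r X.1),
      (HomologicalComplex.mem_quasiIso_iff _).2 (Groth.L10.KFlat.quasiIso_r X.2)⟩)
    (Groth.L10.DTen.invertedMix φ)
    (fun X => Groth.L10.KFlat.isIso_Q_map _ (Groth.L10.DTen.quasiIso_mix φ
      ((Groth.L10.KFlat.r R).app ((Groth.L10.KFlat.R R).obj X.1))
      ((Groth.L10.KFlat.r A).app ((Groth.L10.KFlat.R A).obj X.2))
      (Groth.L10.KFlat.isKFlat_R _) (Groth.L10.KFlat.isKFlat_R _) (Groth.L10.KFlat.isKFlat_R _)))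

/-- the two derived base changes agree -/
theorem nonempty_LBase_iso_lbc (φ : R →+* A) [DRing.HasLBaseChange φ] [_root_.DTen.HasLBase φ] :
    Nonempty (_root_.DTen.LBase φ ≅ DRing.LBaseChange φ) := by
  obtain ⟨adjφ⟩ := exists_adjLBC φ
  exact ⟨(_root_.DTen.baseAdj φ).leftAdjointUniq adjφ⟩

/-- derived base change along a composite -/
theorem nonempty_lbc_comp {C : Type u} [CommRing C] (φ : R →+* A) (ψ : A →+* C) (χ : R →+* C)
    (h : χ = ψ.comp φ) [DRing.HasLBaseChange φ] [DRing.HasLBaseChange ψ] [DRing.HasLBaseChange χ] :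
    Nonempty (DRing.LBaseChange φ ⋙ DRing.LBaseChange ψ ≅ DRing.LBaseChange χ) := by
  obtain ⟨a₁⟩ := exists_adjLBC φ
  obtain ⟨a₂⟩ := exists_adjLBC ψ
  obtain ⟨a₃⟩ := exists_adjLBC χ
  exact ⟨((a₁.comp a₂).ofNatIsoRight (restrictDCompIso φ ψ χ h).symm).leftAdjointUniq a₃⟩

theorem nonempty_lbc_inD (φ : R →+* A) [DRing.HasLBaseChange φ] :
    Nonempty ((DRing.LBaseChange φ).obj (Dual.inD R R) ≅ _root_.DTen.unit A) := by
  haveI := Groth.L29.TrivBC.hasLBase φ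
  haveI := Groth.L10.DTen.hasLTen R
  haveI := Groth.L10.DTen.hasLTen A
  obtain ⟨e⟩ := nonempty_LBase_iso_lbc φ
  obtain ⟨e'⟩ := Groth.L10.DTen.nonempty_LBase_unit φ
  let e₀ : Dual.inD R R ≅ _root_.DTen.unit R :=
    (DerivedCategory.singleFunctorIsoCompQ (ModuleCat.{u} R) 0).app _
  exact ⟨(DRing.LBaseChange φ).mapIso e₀ ≪≫ (e.app _).symm ≪≫ e'⟩

/-- `RHom_R(A, M) ≅ (M ⊗^L A) ⊗^L RHom_R(A, R)` -/
theorem nonempty_rightAdjoint_iso (φ : R →+* A)
    (hA : DRing.IsPerfect R ((DRing.restrictD φ).obj (_root_.DTen.unit A)))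
    {Rφ : Dual.D R ⥤ Dual.D A} (adj : DRing.restrictD φ ⊣ Rφ) [_root_.DTen.HasLTen A]
    [DRing.HasLBaseChange φ] (M : Dual.D R) :
    Nonempty (Rφ.obj M ≅
      (_root_.DTen.LTen₂ A).obj ((DRing.LBaseChange φ).obj M, Rφ.obj (_root_.DTen.unit R))) := by
  haveI := Groth.L29.TrivBC.hasLBase φ
  haveI := Groth.L10.DTen.hasLTen R
  haveI := hasLTenMix φ
  haveI : _root_.DTen.HasRHomRel φ := ⟨adj.isLeftAdjoint⟩
  obtain ⟨e⟩ := Groth.L10.DTen.nonempty_RHomRel_iso φ hA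
  let u := adj.rightAdjointUniq (_root_.DTen.relAdj φ)
  haveI := Groth.L10.DTen.isIso_split φ (M, (_root_.DTen.RHomRel φ).obj (_root_.DTen.unit R))
  obtain ⟨b⟩ := nonempty_LBase_iso_lbc φ
  exact ⟨u.app M ≪≫ e.app M ≪≫
    (asIso ((_root_.DTen.split φ).app (M, (_root_.DTen.RHomRel φ).obj (_root_.DTen.unit R)))).symm ≪≫
    (_root_.DTen.LTen₂ A).mapIso (Iso.prod (b.app M) (u.app (_root_.DTen.unit R)).symm)⟩

/-- tensoring with a shifted complex -/
theorem nonempty_LTensorCx_shift [_root_.DTen.HasLTen A] (W : DRing.Cx A) [DRing.HasLTensorCx A W]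
    (ω : Dual.D A) (n : ℤ) (eW : DRing.toD W ≅ ω⟦n⟧) (X : Dual.D A) :
    Nonempty ((DRing.LTensorCx A W).obj X ≅ ((_root_.DTen.LTen₂ A).obj (X, ω))⟦n⟧) := by
  obtain ⟨P, hP, ⟨a⟩⟩ := Groth.L10.KFlat.exists_rep X
  obtain ⟨N, -, ⟨b⟩⟩ := Groth.L10.KFlat.exists_rep ω
  haveI := Groth.L10.DTen.isIso_ε A P N (Or.inl hP)
  let eQ : DRing.toD (N⟦n⟧) ≅ DRing.toD W :=
    (DerivedCategory.Q.commShiftIso n).app N ≪≫ (shiftFunctor (Dual.D A) n).mapIso b ≪≫ eW.symm
  obtain ⟨e⟩ := Groth.L10.TensorFinite.LTensorCx_iso W hP a eQ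
  let s : P ⊗ N⟦n⟧ ≅ (P ⊗ N)⟦n⟧ :=
    CochainComplex.mapBifunctorShift₂Iso P N (curriedTensor (ModuleCat.{u} A)) n
  exact ⟨e ≪≫ DerivedCategory.Q.mapIso (_root_.DTen.braidCx _ P ≪≫ s) ≪≫
    (DerivedCategory.Q.commShiftIso n).app _ ≪≫
    (shiftFunctor (Dual.D A) n).mapIso ((asIso ((_root_.DTen.ε A).app (P, N))).symm ≪≫
      (_root_.DTen.LTen₂ A).mapIso (Iso.prod a b))⟩

end Groth.L10.Shriek
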