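import Groth.Agent.L10.Shriek.Biduality
import Groth.Agent.L10.DTen.PerfRes
import Groth.Agent.L29.Dual.SurjRes

/-!
The right adjoint of restriction along a perfect finite algebra, evaluated at the ring:
endomorphisms, and perfectness over the source.
-/

universe u

open CategoryTheory CategoryTheory.Limits CategoryTheory.Pretriangulated

attribute [local instance] HasDerivedCategory.standard

set_option backward.defeqAttrib.useBackward true
set_option backward.isDefEq.respectTransparency false
set_option linter.style.haveILetI false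

namespace Groth.L10.Shriek

open Groth.L29.HomD Groth.L29.RestrictAdj

variable {P A : Type u} [CommRing P] [IsNoetherianRing P] [CommRing A]

section Perf

variable (I : DRing.Cx P) [I.IsKInjective] [∀ n, Injective (I.X n)] (hI : DRing.IsPerfect P (DRing.toD I))

include hI in
theorem isPerfect_HM_free (n : ℕ) :
    DRing.IsPerfect P (DRing.toD (HM I (ModuleCat.of P (Fin n → P)))) := by
  induction n with
  | zero =>
    haveI : Subsingleton (ModuleCat.of P (Fin 0 → P)) := inferInstanceAs (Subsingleton (Fin 0 → P))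
    have hz : ∀ i, IsZero ((HM I (ModuleCat.of P (Fin 0 → P))).X i) := fun i => by
      haveI : Subsingleton ((HM I (ModuleCat.of P (Fin 0 → P))).X i) :=
        ⟨fun (f g : ModuleCat.of P (Fin 0 → P) ⟶ I.X i) =>
          (ModuleCat.isZero_of_subsingleton (ModuleCat.of P (Fin 0 → P))).eq_of_src f g⟩
      exact ModuleCat.isZero_of_subsingleton _
    exact ⟨HM I (ModuleCat.of P (Fin 0 → P)), 0, 0, fun i _ => hz i, fun i => by
      haveI := ModuleCat.subsingleton_of_isZero (hz i)
      exact ⟨inferInstance, inferInstance⟩, ⟨Iso.refl _⟩⟩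
  | succ m ih =>
    let f : (Fin m → P) →ₗ[P] (Fin (m + 1) → P) :=
      LinearMap.pi fun j => Fin.cases (0 : (Fin m → P) →ₗ[P] P) (fun k => LinearMap.proj k) j
    have hex : Function.Exact f (LinearMap.proj 0 : (Fin (m + 1) → P) →ₗ[P] P) := by
      intro v
      constructor
      · intro hv
        refine ⟨fun k => v k.succ, funext fun j => ?_⟩
        refine Fin.cases hv.symm (fun k => ?_) j
        rfl
      · rintro ⟨w, rfl⟩
        rfl
    let S := sc f (LinearMap.proj 0 : (Fin (m + 1) → P) →ₗ[P] P) hex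
    have hS : S.ShortExact := sc_shortExact _ _ (fun a b hab => funext fun k => congrFun hab k.succ)
      (fun a => ⟨fun _ => a, rfl⟩) _
    exact Groth.L10.DTen.perfect_second _
      (DerivedCategory.triangleOfSES_distinguished (HMsc_shortExact I S hS))
      (Groth.L10.DTen.perfect_of_iso' (DerivedCategory.Q.mapIso (ringIso I)).symm hI) ih

include hI in
theorem isPerfect_HM : ∀ (d : ℕ) (M : ModuleCat.{u} P), Module.Finite P M →
    DRing.HasTorAmplitudeIn P (-(d : ℤ)) 0 (Dual.inD P M) → DRing.IsPerfect P (DRing.toD (HM I M)) := by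
  intro d
  induction d with
  | zero =>
    intro M hM h
    haveI : Module.Flat P M := Groth.L10.DR.flat_of_amp (by simpa using h)
    haveI : Module.FinitePresentation P M := Module.finitePresentation_of_finite P M
    haveI : Module.Projective P M := Module.Flat.projective_of_finitePresentation
    obtain ⟨n, f, hf⟩ := Module.Finite.exists_fin' P M
    obtain ⟨s, hs⟩ := Module.projective_lifting_property f LinearMap.id hf
    let r : Retract (HM I M) (HM I (ModuleCat.of P (Fin n → P))) :=
      ⟨HMmap I (ModuleCat.ofHom f), HMmap I (ModuleCat.ofHom s), by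
        rw [← HMmap_comp, show (ModuleCat.ofHom s ≫ ModuleCat.ofHom f : M ⟶ M) = 𝟙 M from ModuleCat.hom_ext hs,
          HMmap_id]⟩
    exact Groth.L10.DTen.perfect_retract (r.map DerivedCategory.Q) (isPerfect_HM_free I hI n)
  | succ d ih =>
    intro M hM h
    obtain ⟨n, g, hg⟩ := Module.Finite.exists_fin' P M
    let S := sc (LinearMap.ker g).subtype g g.exact_subtype_ker_map
    have hS : S.ShortExact := sc_shortExact _ _ Subtype.val_injective hg _
    haveI : Module.Finite P S.X₁ := Module.Finite.iff_fg.2 (IsNoetherian.noetherian _)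
    have hamp : DRing.HasTorAmplitudeIn P (-(d : ℤ)) 0 (Dual.inD P S.X₁) := by
      refine amp_shrink (b := 1) ?_
      have hf : DRing.HasTorAmplitudeIn P (-((d + 1 : ℕ) : ℤ) + 1) (0 + 1) (Dual.inD P S.X₂) :=
        Groth.L10.DR.amp_mono (a := 0) (b := 0) (show DRing.HasTorAmplitudeIn P 0 0 (Dual.inD P (Fin n → P)) from by
          simpa using (Groth.L10.DR.hasTorDimLE_iff_amp (A := P) (M := Fin n → P) 0).1
            (Groth.L10.DR.hasTorDimLE_zero_iff.2 inferInstance)) (by omega) (by omega)
      have := Groth.L10.DR.amp_first _ hS.singleTriangle_distinguished hf h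
      simpa [show -((d + 1 : ℕ) : ℤ) + 1 = -(d : ℤ) by omega] using this
    have h1 := ih S.X₁ inferInstance hamp
    have h2 : DRing.IsPerfect P (DRing.toD (HM I S.X₂)) := isPerfect_HM_free I hI n
    exact Groth.L10.DTen.perfect_second _
      (inv_rot_of_distTriang _ (DerivedCategory.triangleOfSES_distinguished (HMsc_shortExact I S hS)))
      (Groth.L10.DTen.perfect_shift' h1 (-1)) h2

end Perf

variable (φ : P →+* A) {Rφ : Dual.D P ⥤ Dual.D A} (adj : DRing.restrictD φ ⊣ Rφ)

include adj in
theorem end_rightAdjoint (hfin : Module.Finite P (ringRes φ)) (d : ℕ)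
    (hamp : DRing.HasTorAmplitudeIn P (-(d : ℤ)) 0 (Dual.inD P (ringRes φ))) :
    Function.Bijective (fun c : A => c • 𝟙 (Rφ.obj (Dual.inD P P))) ∧
      (∀ i : ℤ, i ≠ 0 → Subsingleton (Rφ.obj (Dual.inD P P) ⟶ (Rφ.obj (Dual.inD P P))⟦i⟧)) ∧
      DRing.IsPerfect P ((DRing.restrictD φ).obj (Rφ.obj (Dual.inD P P))) := by
  obtain ⟨I, _, hinj, _, ⟨eI⟩⟩ := exists_injRep (Dual.inD P P) 0
  haveI : ∀ n, Injective (I.X n) := fun n =>
    haveI := hinj n
    Module.injective_object_of_injective_module P (I.X n)
  let e0 : (Dual.inD P P ⟶ Dual.inD P P) ≃ₗ[P] P := evalEquiv (Dual.inD P P) ≪≫ₗ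
    ((DerivedCategory.singleFunctorCompHomologyFunctorIso (ModuleCat.{u} P) 0).app (ModuleCat.of P P)).toLinearEquiv
  have hbijP : Function.Bijective (fun x : P => x • 𝟙 (Dual.inD P P)) := by
    let v := e0.symm 1
    have h1 : ∀ z : Dual.inD P P ⟶ Dual.inD P P, z = e0 z • v := fun z =>
      e0.injective (by rw [map_smul, LinearEquiv.apply_symm_apply, smul_eq_mul, mul_one])
    have hu : IsUnit (e0 (𝟙 (Dual.inD P P))) := by
      refine IsUnit.of_mul_eq_one (e0 (v ≫ v)) ?_
      have h2 : (𝟙 (Dual.inD P P)) ≫ v = v := Category.id_comp v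
      rw [h1 (𝟙 _), Linear.smul_comp] at h2
      simpa [v] using congrArg e0 h2
    refine ⟨fun a b hab => ?_, fun z => ?_⟩
    · have := congrArg e0 hab
      rw [map_smul, map_smul] at this
      exact hu.mul_right_cancel this
    · obtain ⟨c, hc⟩ := hu
      refine ⟨e0 z * ↑c⁻¹, e0.injective ?_⟩
      rw [map_smul, ← hc, smul_eq_mul, mul_assoc, Units.inv_mul, mul_one]
  have hbij : Function.Bijective (fun x : P => x • 𝟙 (DRing.toD I)) := by
    convert (Iso.homCongr eI.symm eI.symm).bijective.comp hbijP using 2 with x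
    simp [Iso.homCongr, Linear.comp_smul, Linear.smul_comp]
  have hself : ∀ i : ℤ, i ≠ 0 → Subsingleton (DRing.toD I ⟶ (DRing.toD I)⟦i⟧) := fun i hi => by
    haveI : Subsingleton (Dual.HD P (Dual.inD P P) i) :=
      ModuleCat.subsingleton_of_isZero (Groth.L10.DR.isZero_HH_single 0 i (ModuleCat.of P P) hi)
    haveI := (evalShiftEquiv (Dual.inD P P) i).toEquiv.subsingleton
    exact (Linear.homCongr P eI ((shiftFunctor (Dual.D P) i).mapIso eI)).toEquiv.subsingleton
  have bid := fun l => biduality_perfect I hbij hself d (ringRes φ) hfin hamp l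
  obtain ⟨e⟩ := nonempty_coind_iso φ adj I
  let e' : DRing.toD (coindCx φ I) ≅ Rφ.obj (Dual.inD P P) := e ≪≫ Rφ.mapIso eI
  let eF : (DRing.restrictD φ).obj (DRing.toD (coindCx φ I)) ≅ DRing.toD (HM I (ringRes φ)) :=
    (ModuleCat.restrictScalars.{u} φ).mapDerivedCategoryFactors.app (coindCx φ I) ≪≫
      DerivedCategory.Q.mapIso (resCoindIso φ I)
  refine ⟨?_, fun i hi => ?_, ?_⟩
  · suffices h : Function.Bijective fun c : A => c • 𝟙 (DRing.toD (coindCx φ I)) by
      convert (Iso.homCongr e' e').bijective.comp h using 2 with c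
      simp [Iso.homCongr, Linear.smul_comp]
    refine ((transpose_bijective φ I _).of_comp_iff' _).1 ?_
    have h2 := ((Iso.homCongr eF.symm ((shiftFunctorZero (Dual.D P) ℤ).app (DRing.toD I))).bijective.comp
      ((bid 0).2 rfl))
    have h3 : (transpose φ I ∘ fun c : A => c • 𝟙 (DRing.toD (coindCx φ I))) =
        fun c : A => (Iso.homCongr eF.symm ((shiftFunctorZero (Dual.D P) ℤ).app (DRing.toD I)))
          (theta I (ringRes φ) c) := funext fun c => by
      simp [transpose_smul_id, Iso.homCongr, theta, eF]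
      erw [Iso.inv_hom_id_app, Category.comp_id]
    rw [h3]
    exact h2
  · haveI : Subsingleton (DRing.toD (HM I (ringRes φ)) ⟶ (DRing.toD I)⟦i⟧) := (bid i).1 hi
    let E : ((DRing.restrictD φ).obj ((shiftFunctor (Dual.D A) (-i)).obj (Rφ.obj (DRing.toD I))) ⟶ DRing.toD I) ≃
        (DRing.toD (HM I (ringRes φ)) ⟶ (DRing.toD I)⟦i⟧) :=
      (Iso.homCongr (((DRing.restrictD φ).commShiftIso (-i)).app _ ≪≫
        (shiftFunctor (Dual.D P) (-i)).mapIso ((DRing.restrictD φ).mapIso e.symm ≪≫ eF))
        (Iso.refl (DRing.toD I))).trans (shiftLeft _ _ i).toEquiv.symm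
    haveI := ((shiftLeft _ _ i).toEquiv.trans ((adj.homEquiv _ _).symm.trans E)).subsingleton
    exact (Iso.homCongr (Rφ.mapIso eI).symm
      ((shiftFunctor (Dual.D A) i).mapIso (Rφ.mapIso eI).symm)).subsingleton
  · refine Groth.L10.DTen.perfect_of_iso' (eF.symm ≪≫ (DRing.restrictD φ).mapIso e')
      (isPerfect_HM I ?_ d _ hfin hamp)
    refine Groth.L10.DTen.perfect_of_iso' eI.symm ⟨(HomologicalComplex.single (ModuleCat.{u} P) (ComplexShape.up ℤ) 0).obj (ModuleCat.of P P),
      0, 0, fun i hi => HomologicalComplex.isZero_single_obj_X _ _ _ _ (by omega), fun i => ?_,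
      ⟨((DerivedCategory.singleFunctorIsoCompQ (ModuleCat.{u} P) 0).app _).symm⟩⟩
    by_cases hi : i = 0
    · subst hi
      have e1 := (HomologicalComplex.singleObjXSelf (ComplexShape.up ℤ) 0 (ModuleCat.of P P)).toLinearEquiv
      exact ⟨Module.Finite.equiv e1.symm, Module.Projective.of_equiv e1.symm⟩
    · haveI := ModuleCat.subsingleton_of_isZero
        (HomologicalComplex.isZero_single_obj_X (ComplexShape.up ℤ) 0 (ModuleCat.of P P) i hi)
      exact ⟨inferInstance, inferInstance⟩

end Groth.L10.Shriek
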