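import Groth.Agent.L10.DRing.TorDim
import Groth.Agent.L20.TorAmpWeaklyEtale
import Mathlib.RingTheory.IsTensorProduct

/-! Tor independence of base change of a flat algebra presented over a flat algebra. -/

universe u

open CategoryTheory CategoryTheory.Limits CategoryTheory.Pretriangulated TensorProduct

attribute [local instance] HasDerivedCategory.standard

set_option backward.defeqAttrib.useBackward true
set_option backward.isDefEq.respectTransparency false
set_option linter.style.haveILetI false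

namespace Groth.L10.Shriek

open Groth.L10.DR

theorem subsingleton_tor_of_flat (R R' P P' : Type u) [CommRing R] [CommRing R'] [CommRing P] [CommRing P'] [Algebra R R'] [Algebra R P]
  [Algebra R' P'] [Algebra P P'] [Algebra R P'] [IsScalarTower R R' P'] [IsScalarTower R P P']
  [Algebra.IsPushout R R' P P']
    [Module.Flat R P] (M : Type u) [AddCommGroup M] [Module P M] [Module R M]
    [IsScalarTower R P M] [Module.Flat R M] (p : ℕ) (hp : 1 ≤ p) : Subsingleton (DRing.Tor P p M P') := by
  obtain ⟨k, rfl⟩ : ∃ k : ℕ, p = k + 1 := ⟨p - 1, by omega⟩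
  let X := projectiveResolution (ModuleCat.of P M)
  let Q := X.cochainComplex
  obtain ⟨e⟩ := res_toD X
  have hQb : DRing.VanishesAbove (Groth.L20.TorAmp.res (A := R) Q) 0 := fun i hi =>
    Functor.map_isZero (ModuleCat.restrictScalars.{u} (algebraMap R P)) (res_vanishesAbove X i hi)
  have hQf : DRing.TermwiseFlat (Groth.L20.TorAmp.res (A := R) Q) := fun i =>
    haveI := res_flat X i
    Groth.L20.TorAmp.flat_restrict (Q.X i)
  let eR : DRing.toD (Groth.L20.TorAmp.res (A := R) Q) ≅ Dual.inD R M :=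
    (Groth.L20.TorAmp.resIso Q).symm ≪≫ (DRing.restrictD (algebraMap R P)).mapIso e ≪≫
      ((ModuleCat.restrictScalars.{u} (algebraMap R P)).mapDerivedCategorySingleFunctor 0).app (ModuleCat.of P M) ≪≫
      (DerivedCategory.singleFunctor (ModuleCat.{u} R) 0).mapIso
        (LinearEquiv.toModuleIso
          (X₁ := (ModuleCat.restrictScalars.{u} (algebraMap R P)).obj (ModuleCat.of P M))
          { AddEquiv.refl M with map_smul' := fun a x => algebraMap_smul P a (show M from x) })
  have hz := ((amp_iff eR hQb hQf 0 0).1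
    (by simpa using (hasTorDimLE_iff_amp (A := R) (M := M) 0).1 (hasTorDimLE_zero_iff.2 inferInstance))).1
    (-((k + 1 : ℕ) : ℤ)) (by omega) (ModuleCat.of R R')
  rw [tensor_exact_iff _ _ (-((k + 1 : ℕ) : ℤ) - 1) (-((k + 1 : ℕ) : ℤ)) (-((k + 1 : ℕ) : ℤ) + 1) (by omega) rfl] at hz
  refine ModuleCat.subsingleton_of_isZero ((isZero_tensor_iff_tor X (ModuleCat.of P P') k).1 ?_)
  rw [tensor_exact_iff _ _ (-((k + 1 : ℕ) : ℤ) - 1) (-((k + 1 : ℕ) : ℤ)) (-((k + 1 : ℕ) : ℤ) + 1) (by omega) rfl]
  letI : ∀ j, Module R (Q.X j) := fun j => Module.compHom (Q.X j) (algebraMap R P)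
  haveI : ∀ j, IsScalarTower R P (Q.X j) := fun j => IsScalarTower.of_algebraMap_smul fun _ _ => rfl
  let g : ∀ j l : ℤ, Q.X j →ₗ[R] Q.X l := fun j l => (Q.d j l).hom.restrictScalars R
  have hz' : Function.Exact ((g (-((k + 1 : ℕ) : ℤ) - 1) (-((k + 1 : ℕ) : ℤ))).rTensor R')
      ((g (-((k + 1 : ℕ) : ℤ)) (-((k + 1 : ℕ) : ℤ) + 1)).rTensor R') := hz
  let E : ∀ j, (Q.X j ⊗[R] R') ≃+ (Q.X j ⊗[P] P') := fun j =>
    (TensorProduct.comm R (Q.X j) R').toAddEquiv.trans
      ((Algebra.IsPushout.cancelBaseChange R R' P P' (Q.X j)).symm.toAddEquiv.trans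
        (TensorProduct.comm P P' (Q.X j)).toAddEquiv)
  have hsq : ∀ j l t, (Q.d j l).hom.rTensor P' (E j t) = E l ((g j l).rTensor R' t) := by
    intro j l t
    induction t using TensorProduct.induction_on with
    | zero => simp
    | tmul x y => simp [E, g]
    | add a b ha hb => simp only [map_add, ha, hb]
  exact (Function.Exact.iff_of_ladder_addEquiv (E _) (E _) (E _)
    (f₁₂ := ((g _ _).rTensor R').toAddMonoidHom) (f₂₃ := ((g _ _).rTensor R').toAddMonoidHom)
    (g₁₂ := ((Q.d _ _).hom.rTensor P').toAddMonoidHom) (g₂₃ := ((Q.d _ _).hom.rTensor P').toAddMonoidHom)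
    (AddMonoidHom.ext fun t => hsq _ _ t) (AddMonoidHom.ext fun t => hsq _ _ t)).2 hz'

end Groth.L10.Shriek
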