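import Groth.Agent.L10.Shriek.BC
import Groth.Agent.L10.Shriek.TorPoly

/-! Base change of the upper shriek. -/

universe u

open CategoryTheory CategoryTheory.Limits TensorProduct

attribute [local instance] HasDerivedCategory.standard MvPolynomial.algebraMvPolynomial

set_option backward.defeqAttrib.useBackward true
set_option backward.isDefEq.respectTransparency false
set_option backward.isDefEq.respectTransparency.types false
set_option linter.style.haveILetI false

namespace Groth.L10.Shriek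

theorem isGE_lbc {R P : Type u} [CommRing R] [CommRing P] (ι : R →+* P) (hfl : ι.Flat) [DRing.HasLBaseChange ι]
    (K : Dual.D R) (c : ℤ) [DerivedCategory.IsGE K c] :
    DerivedCategory.IsGE ((DRing.LBaseChange ι).obj K) c := by
  haveI := preservesFiniteLimits_ext ι hfl
  obtain ⟨e⟩ := nonempty_lbc_iso_ED ι K
  have h : DerivedCategory.TStructure.t.IsGE ((ED ι).obj K) c :=
    Groth.L10.DerivedAdj.isGE_map (w := ModuleCat.extendScalars.{u, u, u} ι) K c
  exact DerivedCategory.TStructure.t.isGE_of_iso e.symm c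

variable (R R' A : Type u) [CommRing R] [CommRing R'] [CommRing A] [Algebra R R'] [Algebra R A]

/-- the shriek commutes with base change once the right adjoint does -/
theorem nonempty_baseChange (n : ℕ) (ψ : MvPolynomial (Fin n) R →ₐ[R] A) (hψ : Function.Surjective ψ)
    [DRing.HasLBaseChange (algebraMap R (MvPolynomial (Fin n) R))]
    {Rψ : Dual.D (MvPolynomial (Fin n) R) ⥤ Dual.D A} (adj : DRing.restrictD ψ.toRingHom ⊣ Rψ)
    (m : ℕ) (ψ' : MvPolynomial (Fin m) R' →ₐ[R'] (R' ⊗[R] A)) (hψ' : Function.Surjective ψ')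
    [DRing.HasLBaseChange (algebraMap R' (MvPolynomial (Fin m) R'))]
    {Rψ' : Dual.D (MvPolynomial (Fin m) R') ⥤ Dual.D (R' ⊗[R] A)} (adj' : DRing.restrictD ψ'.toRingHom ⊣ Rψ')
    [DRing.HasLBaseChange (Algebra.TensorProduct.includeRight : A →ₐ[R] R' ⊗[R] A).toRingHom]
    [DRing.HasLBaseChange (algebraMap R R')] (K : Dual.D R)
    (hbc : letI : Algebra (MvPolynomial (Fin n) R) A := ψ.toRingHom.toAlgebra
      letI : Algebra A (R' ⊗[R] A) := Algebra.TensorProduct.rightAlgebra
      ∀ [Algebra (MvPolynomial (Fin n) R') (R' ⊗[R] A)] [Algebra (MvPolynomial (Fin n) R) (R' ⊗[R] A)]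
        [IsScalarTower (MvPolynomial (Fin n) R) A (R' ⊗[R] A)]
        [IsScalarTower (MvPolynomial (Fin n) R) (MvPolynomial (Fin n) R') (R' ⊗[R] A)]
        [Algebra.IsPushout (MvPolynomial (Fin n) R) A (MvPolynomial (Fin n) R') (R' ⊗[R] A)]
        [DRing.HasLBaseChange (algebraMap (MvPolynomial (Fin n) R) (MvPolynomial (Fin n) R'))]
        [DRing.HasLBaseChange (algebraMap A (R' ⊗[R] A))]
        {S : Dual.D (MvPolynomial (Fin n) R') ⥤ Dual.D (R' ⊗[R] A)},
        (DRing.restrictD (algebraMap (MvPolynomial (Fin n) R') (R' ⊗[R] A)) ⊣ S) →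
        Nonempty ((DRing.LBaseChange (algebraMap A (R' ⊗[R] A))).obj
            (Rψ.obj ((DRing.LBaseChange (algebraMap R (MvPolynomial (Fin n) R))).obj K)) ≅
          S.obj ((DRing.LBaseChange (algebraMap (MvPolynomial (Fin n) R) (MvPolynomial (Fin n) R'))).obj
            ((DRing.LBaseChange (algebraMap R (MvPolynomial (Fin n) R))).obj K)))) :
    Nonempty ((DRing.LBaseChange (Algebra.TensorProduct.includeRight : A →ₐ[R] R' ⊗[R] A).toRingHom).obj
        (Dual2.shriekVia n Rψ K) ≅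
      Dual2.shriekVia m Rψ' ((DRing.LBaseChange (algebraMap R R')).obj K)) := by
  let P := MvPolynomial (Fin n) R
  let P' := MvPolynomial (Fin n) R'
  letI : Algebra P A := ψ.toRingHom.toAlgebra
  letI : Algebra A (R' ⊗[R] A) := Algebra.TensorProduct.rightAlgebra
  haveI : IsScalarTower R P A := IsScalarTower.of_algebraMap_eq fun r => (ψ.commutes r).symm
  let ψ₁ : P' →ₐ[R'] R' ⊗[R] A := MvPolynomial.aeval fun i => (1 : R') ⊗ₜ ψ (MvPolynomial.X i)
  letI : Algebra P' (R' ⊗[R] A) := ψ₁.toRingHom.toAlgebra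
  letI : Algebra P (R' ⊗[R] A) := ((algebraMap A (R' ⊗[R] A)).comp ψ.toRingHom).toAlgebra
  haveI : IsScalarTower P A (R' ⊗[R] A) := IsScalarTower.of_algebraMap_eq fun _ => rfl
  have hsq : ψ₁.toRingHom.comp (algebraMap P P') = (algebraMap A (R' ⊗[R] A)).comp ψ.toRingHom :=
    MvPolynomial.ringHom_ext
      (fun r => by
        show ψ₁ (MvPolynomial.map (algebraMap R R') (MvPolynomial.C r)) = _
        rw [MvPolynomial.map_C]
        exact (ψ₁.commutes _).trans (((IsScalarTower.algebraMap_apply R R' (R' ⊗[R] A) r).symm.trans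
          (IsScalarTower.algebraMap_apply R A (R' ⊗[R] A) r)).trans (congrArg _ (ψ.commutes r).symm)))
      (fun i => by
        show ψ₁ (MvPolynomial.map (algebraMap R R') (MvPolynomial.X i)) = _
        rw [MvPolynomial.map_X]
        exact MvPolynomial.aeval_X _ i)
  haveI : IsScalarTower P P' (R' ⊗[R] A) := IsScalarTower.of_algebraMap_eq fun x => (RingHom.congr_fun hsq x).symm
  haveI : IsScalarTower R P' (R' ⊗[R] A) := IsScalarTower.of_algebraMap_eq fun r => by
    rw [IsScalarTower.algebraMap_apply R R' (R' ⊗[R] A)]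
    exact (ψ₁.commutes _).symm
  haveI : IsScalarTower R' P' (R' ⊗[R] A) := IsScalarTower.of_algebraMap_eq fun r => (ψ₁.commutes r).symm
  haveI : Algebra.IsPushout R P R' P' := inferInstance
  haveI hRA : Algebra.IsPushout R A R' (R' ⊗[R] A) := inferInstance
  haveI : Algebra.IsPushout P A P' (R' ⊗[R] A) := (Algebra.IsPushout.comp_iff R P R' P').1 hRA
  have hψ₁ : Function.Surjective ψ₁ := fun z => by
    induction z using TensorProduct.induction_on with
    | zero => exact ⟨0, map_zero _⟩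
    | add u v hu hv =>
      obtain ⟨p, hp⟩ := hu
      obtain ⟨q, hq⟩ := hv
      exact ⟨p + q, by rw [map_add, hp, hq]⟩
    | tmul a c =>
      obtain ⟨p, rfl⟩ := hψ c
      refine ⟨MvPolynomial.C a * algebraMap P P' p, ?_⟩
      rw [map_mul]
      show ψ₁ (MvPolynomial.C a) * ψ₁.toRingHom.comp (algebraMap P P') p = _
      rw [hsq, ← MvPolynomial.algebraMap_eq, ψ₁.commutes]
      show a ⊗ₜ[R] (1 : A) * (1 : R') ⊗ₜ[R] ψ p = _
      rw [Algebra.TensorProduct.tmul_mul_tmul, mul_one, one_mul]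
  obtain ⟨S, ⟨adjS⟩⟩ := exists_rightAdjoint ψ₁.toRingHom
  haveI := KFlatLBC.hasLBaseChange (algebraMap P P')
  haveI := KFlatLBC.hasLBaseChange (algebraMap R' P')
  haveI := KFlatLBC.hasLBaseChange (algebraMap R P')
  haveI : DRing.HasLBaseChange (algebraMap A (R' ⊗[R] A)) := ‹_›
  obtain ⟨bc⟩ := hbc (S := S) adjS
  obtain ⟨b1⟩ := KFlatLBC.nonempty_comp_iso (algebraMap R P) (algebraMap P P') (algebraMap R P')
    (IsScalarTower.algebraMap_eq R P P') K
  obtain ⟨b2⟩ := KFlatLBC.nonempty_comp_iso (algebraMap R R') (algebraMap R' P') (algebraMap R P')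
    (IsScalarTower.algebraMap_eq R R' P') K
  obtain ⟨ind⟩ := nonempty_indep n m ψ₁ hψ₁ ψ' hψ' adjS adj' ((DRing.LBaseChange (algebraMap R R')).obj K)
  obtain ⟨adjα⟩ := exists_adjLBC (algebraMap A (R' ⊗[R] A))
  letI := adjα.leftAdjointCommShift ℤ
  exact ⟨((DRing.LBaseChange (algebraMap A (R' ⊗[R] A))).commShiftIso (n : ℤ)).app _ ≪≫
    (shiftFunctor (Dual.D (R' ⊗[R] A)) (n : ℤ)).mapIso (bc ≪≫ S.mapIso (b1 ≪≫ b2.symm)) ≪≫ ind⟩

end Groth.L10.Shriek
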