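import Groth.Agent.L10.Shriek.PerfectDual
import Groth.Agent.L29.Dual.LocalInvertible
import Groth.Agent.L29.Dual.GorensteinFlatBC
import Groth.Agent.L29.Dual.Gorenstein
import Groth.Agent.L29.Dual.Unique
import Groth.Agent.S1801
import Mathlib.RingTheory.LocalRing.ResidueField.Fiber

/-!
The relative dualizing complex of a flat map is invertible iff the fibres are Gorenstein.
-/

set_option autoImplicit false

universe u

open CategoryTheory CategoryTheory.Limits TensorProduct

attribute [local instance] HasDerivedCategory.standard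

set_option backward.defeqAttrib.useBackward true
set_option backward.isDefEq.respectTransparency false
set_option backward.isDefEq.respectTransparency.types false
set_option linter.style.haveILetI false

namespace Groth.L10.Shriek.GorFibres

open Groth.L29

/-- a module generated freely by one element after inverting `s` becomes free -/
theorem nonempty_away_equiv {A : Type u} [CommRing A] (H : Type u) [AddCommGroup H] [Module A H] (m : H) (s : A)
    (h1 : ∀ y : H, ∃ a : A, s • y = a • m) (h2 : ∀ a : A, a • m = 0 → s * a = 0) :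
    Nonempty (Localization.Away s ⊗[A] H ≃ₗ[Localization.Away s] Localization.Away s) := by
  choose c hc using h1
  let g : H →ₗ[A] A :=
    { toFun := fun y => s * c y
      map_add' := fun y z => by
        have := h2 (c (y + z) - (c y + c z)) (by rw [sub_smul, add_smul, ← hc, ← hc, ← hc, smul_add, sub_self])
        linear_combination this
      map_smul' := fun a y => by
        have := h2 (c (a • y) - a * c y) (by rw [sub_smul, mul_smul, ← hc, ← hc, smul_comm, sub_self])
        show s * c (a • y) = a * (s * c y)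
        linear_combination this }
  let φ : A →ₗ[A] H := LinearMap.toSpanSingleton A H m
  have hgφ : g ∘ₗ φ = (s * s) • LinearMap.id := LinearMap.ext_ring (by
    have := h2 (c m - s) (by rw [sub_smul, ← hc, sub_self])
    show s * c ((1 : A) • m) = (s * s) • 1
    rw [one_smul, smul_eq_mul, mul_one]
    linear_combination this)
  have hφg : φ ∘ₗ g = (s * s) • LinearMap.id := LinearMap.ext fun y => by
    show (s * c y) • m = (s * s) • y
    rw [mul_smul, ← hc, mul_smul]
  let L := Localization.Away s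
  have hu : IsUnit (algebraMap A L (s * s)) := by
    rw [map_mul]
    exact (IsLocalization.Away.algebraMap_isUnit s).mul (IsLocalization.Away.algebraMap_isUnit s)
  have hb : Function.Bijective (φ.baseChange L) := by
    have key : ∀ (N : Type u) [AddCommGroup N] [Module A N] (x : L ⊗[A] N),
        ((s * s) • (LinearMap.id : N →ₗ[A] N)).baseChange L x = algebraMap A L (s * s) • x := fun N _ _ x => by
      rw [LinearMap.baseChange_smul, LinearMap.baseChange_id]
      exact (algebraMap_smul L (s * s) x).symm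
    constructor
    · refine Function.Injective.of_comp (f := g.baseChange L) fun x y hxy => hu.smul_left_cancel.1 ?_
      have h' : (g ∘ₗ φ).baseChange L x = (g ∘ₗ φ).baseChange L y := by
        rw [LinearMap.baseChange_comp]; exact hxy
      rw [hgφ, key, key] at h'
      exact h'
    · intro y
      refine ⟨g.baseChange L (hu.unit⁻¹.1 • y), ?_⟩
      rw [← LinearMap.comp_apply, ← LinearMap.baseChange_comp, hφg, key, smul_smul, IsUnit.mul_val_inv, one_smul]
  exact ⟨(LinearEquiv.ofBijective (φ.baseChange L) hb).symm.trans (TensorProduct.AlgebraTensorModule.rid A L L)⟩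

/-- derived base change of a shift of the ring -/
theorem nonempty_lbc_inD_shift {A B : Type u} [CommRing A] [CommRing B] (φ : A →+* B) [DRing.HasLBaseChange φ]
    (m : ℤ) : Nonempty ((DRing.LBaseChange φ).obj ((Dual.inD A A)⟦m⟧) ≅ (Dual.inD B B)⟦m⟧) := by
  obtain ⟨a⟩ := exists_adjLBC φ
  letI := a.leftAdjointCommShift ℤ
  obtain ⟨e⟩ := nonempty_lbc_inD φ
  exact ⟨((DRing.LBaseChange φ).commShiftIso m).app _ ≪≫ (shiftFunctor (Dual.D B) m).mapIso
    (e ≪≫ ((DerivedCategory.singleFunctorIsoCompQ (ModuleCat.{u} B) 0).app (ModuleCat.of B B)).symm)⟩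

/-- a pseudo-coherent complex over a local ring whose reduction is one shifted copy of the residue field -/
theorem nonempty_iso_of_residue {A : Type u} [CommRing A] [IsLocalRing A] (K : Dual.D A)
    (hK : DRing.IsPseudoCoherent' A K) [DRing.HasLBaseChange (Ideal.Quotient.mk (IsLocalRing.maximalIdeal A))]
    (m : ℤ) (e : (DRing.LBaseChange (Ideal.Quotient.mk (IsLocalRing.maximalIdeal A))).obj K ≅
      (Dual.inD (A ⧸ IsLocalRing.maximalIdeal A) (A ⧸ IsLocalRing.maximalIdeal A))⟦m⟧) :
    Nonempty (K ≅ (Dual.inD A A)⟦m⟧) := by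
  let κ := A ⧸ IsLocalRing.maximalIdeal A
  letI : Field κ := Ideal.Quotient.field (IsLocalRing.maximalIdeal A)
  obtain ⟨-, -, ⟨P, ⟨b, hb⟩, hf, ⟨eP⟩⟩, -⟩ := Groth.L10.LiftCx.minimal_spec K hK
  let eH : ∀ i : ℤ, Dual.HD κ ((DRing.LBaseChange (Ideal.Quotient.mk (IsLocalRing.maximalIdeal A))).obj K) i ≃ₗ[κ]
      Dual.HD κ (Dual.inD κ κ) (m + i) := fun i =>
    ((DerivedCategory.homologyFunctor (ModuleCat.{u} κ) i).mapIso e ≪≫
      Groth.L10.hShiftIso (A := ModuleCat.{u} κ) (Dual.inD κ κ) m i (m + i) rfl).toLinearEquiv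
  have hz : ∀ i, i ≠ -m → IsZero (P.X i) := fun i hi => by
    haveI : Subsingleton (Dual.HD κ (Dual.inD κ κ) (m + i)) :=
      ModuleCat.subsingleton_of_isZero (Groth.L10.DR.isZero_HH_single 0 (m + i) (ModuleCat.of κ κ) (by omega))
    haveI := (hf i).1
    haveI := (hf i).2.1
    have h0 : Module.finrank A (P.X i) = 0 := by
      rw [(hf i).2.2, (eH i).finrank_eq]
      exact Module.finrank_zero_of_subsingleton
    haveI : Subsingleton (P.X i) := Module.finrank_eq_zero_iff_of_free (R := A) (M := P.X i) |>.1 h0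
    exact ModuleCat.isZero_of_subsingleton _
  haveI := (hf (-m)).1
  haveI := (hf (-m)).2.1
  have h1 : Module.finrank A (P.X (-m)) = Module.finrank A A := by
    rw [(hf (-m)).2.2, (eH (-m)).finrank_eq, show m + -m = (0 : ℤ) by omega, Module.finrank_self]
    refine Eq.trans ?_ (Module.finrank_self κ)
    exact ((DerivedCategory.singleFunctorCompHomologyFunctorIso (ModuleCat.{u} κ) 0).app
      (ModuleCat.of κ κ)).toLinearEquiv.finrank_eq
  obtain ⟨i1⟩ := LocalInvertible.nonempty_iso_single P (-m) hz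
  exact ⟨eP.symm ≪≫ DerivedCategory.Q.mapIso (i1 ≪≫ (HomologicalComplex.single _ _ _).mapIso
      (LinearEquiv.ofFinrankEq (P.X (-m)) A h1).toModuleIso) ≪≫
    (Groth.L10.DR.singleShift (-m) (ModuleCat.of A A)).symm ≪≫
    eqToIso (congrArg (fun k : ℤ => (Dual.inD A A)⟦k⟧) (neg_neg m))⟩

variable {A : Type u} [CommRing A] [IsNoetherianRing A]

/-- near a prime where a bounded coherent complex is a shift of the ring, so it is on a basic open -/
theorem exists_away (K : Dual.D A) (hfin : ∀ i, Module.Finite A (Dual.HD A K i)) (a b : ℤ)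
    (hab : ∀ i, (i < a ∨ b < i) → Subsingleton (Dual.HD A K i)) (q : PrimeSpectrum A) (m : ℤ)
    (e : (FlatBC.L A (Localization.AtPrime q.asIdeal)).obj K ≅
      (Dual.inD (Localization.AtPrime q.asIdeal) (Localization.AtPrime q.asIdeal))⟦m⟧) :
    ∃ (f : A) (_ : f ∉ q.asIdeal), ∀ [DRing.HasLBaseChange (algebraMap A (Localization.Away f))],
      Nonempty ((DRing.LBaseChange (algebraMap A (Localization.Away f))).obj K ≅
        (Dual.inD (Localization.Away f) (Localization.Away f))⟦m⟧) := by
  classical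
  let B := Localization.AtPrime q.asIdeal
  haveI : Module.Flat A B := IsLocalization.flat B q.asIdeal.primeCompl
  let eH : ∀ i : ℤ, LocalizedModule q.asIdeal.primeCompl (Dual.HD A K i) ≃ₗ[B] Dual.HD B (Dual.inD B B) (m + i) :=
    fun i => (LocalizedModule.equivTensorProduct q.asIdeal.primeCompl _).trans ((FlatBC.hEquiv A B K i).symm.trans
      ((DerivedCategory.homologyFunctor (ModuleCat.{u} B) i).mapIso e ≪≫
        Groth.L10.hShiftIso (A := ModuleCat.{u} B) (Dual.inD B B) m i (m + i) rfl).toLinearEquiv)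
  have hann : ∀ (M : Type u) [AddCommGroup M] [Module A M] [Module.Finite A M],
      Subsingleton (LocalizedModule q.asIdeal.primeCompl M) → ∃ s ∉ q.asIdeal, ∀ x : M, s • x = 0 := by
    intro M _ _ _ h
    have : q ∉ Module.support A M := Module.notMem_support_iff.2 h
    rw [Module.support_eq_zeroLocus, PrimeSpectrum.mem_zeroLocus, Set.not_subset] at this
    obtain ⟨s, hs, hsq⟩ := this
    exact ⟨s, hsq, Module.mem_annihilator.1 hs⟩
  have hk : ∀ i : ℤ, ∃ s ∉ q.asIdeal, i ≠ -m → ∀ x : Dual.HD A K i, s • x = 0 := fun i => by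
    by_cases hi : i = -m
    · exact ⟨1, fun h => q.2.ne_top ((Ideal.eq_top_iff_one _).2 h), fun h => absurd hi h⟩
    haveI : Subsingleton (Dual.HD B (Dual.inD B B) (m + i)) :=
      ModuleCat.subsingleton_of_isZero (Groth.L10.DR.isZero_HH_single 0 (m + i) (ModuleCat.of B B) (by omega))
    haveI := hfin i
    obtain ⟨s, hs, hs'⟩ := hann (Dual.HD A K i) (eH i).toEquiv.subsingleton
    exact ⟨s, hs, fun _ => hs'⟩
  choose s hs hs' using hk
  let H := Dual.HD A K (-m)
  let e0 : LocalizedModule q.asIdeal.primeCompl H ≃ₗ[B] B := (eH (-m)).trans (by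
    rw [show m + -m = (0 : ℤ) by omega]
    exact ((DerivedCategory.singleFunctorCompHomologyFunctorIso (ModuleCat.{u} B) 0).app
      (ModuleCat.of B B)).toLinearEquiv)
  let g := LocalizedModule.mkLinearMap q.asIdeal.primeCompl H
  obtain ⟨⟨x, t⟩, hxt⟩ := IsLocalizedModule.surj q.asIdeal.primeCompl g (e0.symm 1)
  have hgx : e0 (g x) = algebraMap A B t.1 := by
    rw [← hxt, Submonoid.smul_def, ← algebraMap_smul B t.1 (e0.symm 1), map_smul, e0.apply_symm_apply,
      smul_eq_mul, mul_one]
  let φ : A →ₗ[A] H := LinearMap.toSpanSingleton A H x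
  haveI := hfin (-m)
  obtain ⟨s1, hs1, hs1'⟩ := hann (H ⧸ LinearMap.range φ) (LocalizedModule.subsingleton_iff.2 fun y => by
    obtain ⟨y, rfl⟩ := Submodule.mkQ_surjective _ y
    obtain ⟨⟨r, u⟩, hru⟩ := IsLocalization.surj q.asIdeal.primeCompl (e0 (g y))
    have h1 : g ((t.1 * u.1) • y) = g (r • x) := by
      apply (e0.restrictScalars A).injective
      rw [map_smul, map_smul, map_smul, map_smul]
      show (t.1 * u.1) • e0 (g y) = r • e0 (g x)
      rw [hgx, Algebra.smul_def, Algebra.smul_def, map_mul, ← hru]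
      ring
    obtain ⟨c, hc⟩ := (IsLocalizedModule.eq_iff_exists q.asIdeal.primeCompl g).1 h1
    refine ⟨c.1 * (t.1 * u.1), q.asIdeal.primeCompl.mul_mem c.2 (q.asIdeal.primeCompl.mul_mem t.2 u.2), ?_⟩
    rw [← map_smul]
    exact (Submodule.Quotient.mk_eq_zero _).2 ⟨c.1 * r, by
      rw [mul_smul c.1 (t.1 * u.1) y, ← Submonoid.smul_def, hc]
      simp [φ, mul_smul, Submonoid.smul_def]⟩)
  obtain ⟨s2, hs2, hs2'⟩ := hann (LinearMap.ker φ) (LocalizedModule.subsingleton_iff.2 fun k => by
    have h0 : algebraMap A B (k.1 * t.1) = 0 := by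
      have h1 : (e0.restrictScalars A) (g (k.1 • x)) = 0 := by
        rw [show k.1 • x = 0 from k.2, map_zero, map_zero]
      rw [map_smul, map_smul] at h1
      rw [map_mul, ← hgx, ← Algebra.smul_def]
      exact h1
    obtain ⟨c, hc⟩ := (IsLocalization.map_eq_zero_iff q.asIdeal.primeCompl B _).1 h0
    refine ⟨c.1 * t.1, q.asIdeal.primeCompl.mul_mem c.2 t.2, Subtype.ext ?_⟩
    show (c.1 * t.1) * k.1 = 0
    linear_combination hc)
  let f := (∏ i ∈ Finset.Icc a b, s i) * (s1 * s2)
  have hf : f ∉ q.asIdeal := by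
    refine fun h => (q.2.mem_or_mem h).elim (fun h => ?_) fun h => (q.2.mem_or_mem h).elim hs1 hs2
    obtain ⟨i, -, hi⟩ := (Ideal.IsPrime.prod_mem_iff).1 h
    exact hs i hi
  refine ⟨f, hf, ?_⟩
  intro _
  let L := Localization.Away f
  haveI : Module.Flat A L := IsLocalization.flat L (Submonoid.powers f)
  let X : Dual.D L := (FlatBC.L A L).obj K
  have hX : ∀ i : ℤ, i ≠ -m → IsZero ((DerivedCategory.homologyFunctor (ModuleCat.{u} L) i).obj X) := fun i hi => by
    haveI : Subsingleton (L ⊗[A] Dual.HD A K i) := by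
      refine subsingleton_of_forall_eq 0 fun z => ?_
      induction z using TensorProduct.induction_on with
      | zero => rfl
      | add u v hu hv => rw [hu, hv, add_zero]
      | tmul c y =>
        have hy : f • y = 0 := by
          by_cases hi' : i ∈ Finset.Icc a b
          · rw [show f = (s1 * s2 * ∏ j ∈ (Finset.Icc a b).erase i, s j) * s i by
              simp only [f]; rw [← Finset.prod_erase_mul _ s hi']; ring, mul_smul, hs' i hi, smul_zero]
          · haveI := hab i (by rw [Finset.mem_Icc] at hi'; omega)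
            exact Subsingleton.elim _ _
        obtain ⟨v, hv⟩ := IsLocalization.Away.algebraMap_isUnit (S := L) f
        rw [show c = f • (c * (↑v⁻¹ : L)) by
          rw [Algebra.smul_def, ← hv, mul_left_comm, Units.mul_inv, mul_one],
          TensorProduct.smul_tmul, hy, TensorProduct.tmul_zero]
    haveI : Subsingleton (Dual.HD L X i) := (FlatBC.hEquiv A L K i).toEquiv.subsingleton
    exact ModuleCat.isZero_of_subsingleton _
  haveI : DerivedCategory.IsGE X (-m) := (DerivedCategory.isGE_iff X (-m)).2 fun j hj => hX j (by lia)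
  haveI : DerivedCategory.IsLE X (-m) := (DerivedCategory.isLE_iff X (-m)).2 fun j hj => hX j (by lia)
  obtain ⟨eL⟩ := nonempty_away_equiv H x f
    (fun y => by
      obtain ⟨a', ha⟩ := (Submodule.Quotient.mk_eq_zero _).1
        ((Submodule.Quotient.mk_smul (LinearMap.range φ) (r := s1) (x := y)).trans (hs1' _))
      refine ⟨(∏ i ∈ Finset.Icc a b, s i) * s2 * a', ?_⟩
      rw [show f = (∏ i ∈ Finset.Icc a b, s i) * s2 * s1 by simp only [f]; ring]
      rw [mul_smul _ s1, ← ha, mul_smul _ a' x]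
      rfl)
    (fun a' ha => by
      have h3 := congrArg Subtype.val (hs2' ⟨a', ha⟩)
      change s2 * a' = 0 at h3
      rw [show f = (∏ i ∈ Finset.Icc a b, s i) * s1 * s2 by simp only [f]; ring, mul_assoc, h3, mul_zero])
  obtain ⟨eX⟩ := Groth.L10.exists_iso_single_H (A := ModuleCat.{u} L) X (-m)
  exact ⟨(FlatBC.lbcIso (A := A) (B := L)).app _ ≪≫ eX ≪≫
      (DerivedCategory.singleFunctor (ModuleCat.{u} L) (-m)).mapIso
        ((FlatBC.hEquiv A L K (-m)).trans eL).toModuleIso ≪≫
      (Groth.L10.DR.singleShift (-m) (ModuleCat.of L L)).symm ≪≫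
      eqToIso (congrArg (fun k : ℤ => (Dual.inD L L)⟦k⟧) (neg_neg m))⟩

omit [IsNoetherianRing A]

variable {R : Type u} [CommRing R] [IsNoetherianRing R] [IsNoetherianRing A] [Algebra R A] [Module.Flat R A] (n : ℕ)
  (ψ : MvPolynomial (Fin n) R →ₐ[R] A) (hψ : Function.Surjective ψ)
  [DRing.HasLBaseChange (algebraMap R (MvPolynomial (Fin n) R))]
  {Rψ : Dual.D (MvPolynomial (Fin n) R) ⥤ Dual.D A} (adj : DRing.restrictD ψ.toRingHom ⊣ Rψ)

include hψ adj in
/-- the localization of the fibre of `ω` is dualizing -/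
theorem isDualizing_fibre_loc (k : Type u) [Field k] [Algebra R k] (Q : Ideal (k ⊗[R] A)) [Q.IsPrime]
    [DRing.HasLBaseChange ((algebraMap (k ⊗[R] A) (Localization.AtPrime Q)).comp
      (Algebra.TensorProduct.includeRight (R := R) (A := k) (B := A)).toRingHom)] :
    Dual.IsDualizing (Localization.AtPrime Q)
      ((DRing.LBaseChange ((algebraMap (k ⊗[R] A) (Localization.AtPrime Q)).comp
        (Algebra.TensorProduct.includeRight (R := R) (A := k) (B := A)).toRingHom)).obj
          (Dual2.shriekVia n Rψ (Dual.inD R R))) := by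
  let F := k ⊗[R] A
  let B := Localization.AtPrime Q
  let ι := (Algebra.TensorProduct.includeRight (R := R) (A := k) (B := A)).toRingHom
  haveI := Groth.L10.KFlatLBC.hasLBaseChange ι
  haveI := Groth.L10.KFlatLBC.hasLBaseChange (algebraMap F B)
  have h := (Groth.Agent.S1801.result R A n ψ hψ Rψ adj).2.2.2.2 k
  haveI := h.isNoetherianRing
  haveI : Module.Flat F B := IsLocalization.flat B Q.primeCompl
  obtain ⟨e⟩ := nonempty_lbc_comp ι (algebraMap F B) _ rfl
  exact HomD.isDualizing_of_iso (((FlatBC.lbcIso (A := F) (B := B)).app _).symm ≪≫ e.app _)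
    (FlatBC.isDualizing_L_localization (B := B) Q.primeCompl h)

include hψ adj in
theorem exists_invertible_of_gorenstein
    (hG : ∀ (p : PrimeSpectrum R), Groth.L21.GorensteinFieldExt.LocGor (p.asIdeal.ResidueField ⊗[R] A))
    (q : PrimeSpectrum A) : ∃ (f : A) (_ : f ∉ q.asIdeal) (m : ℤ),
      ∀ [DRing.HasLBaseChange (algebraMap A (Localization.Away f))],
      Nonempty ((DRing.LBaseChange (algebraMap A (Localization.Away f))).obj
        (Dual2.shriekVia n Rψ (Dual.inD R R)) ≅ (Dual.inD (Localization.Away f) (Localization.Away f))⟦m⟧) := by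
  let ω := Dual2.shriekVia n Rψ (Dual.inD R R)
  obtain ⟨⟨a, b, hab⟩, hfin, -, -, -⟩ := Groth.Agent.S1801.result R A n ψ hψ Rψ adj
  let p := PrimeSpectrum.comap (algebraMap R A) q
  let k := p.asIdeal.ResidueField
  let Aq := Localization.AtPrime q.asIdeal
  let κ := Aq ⧸ IsLocalRing.maximalIdeal Aq
  letI : Field κ := Ideal.Quotient.field _
  let η : A →ₐ[R] κ := (Ideal.Quotient.mkₐ R (IsLocalRing.maximalIdeal Aq)).comp (IsScalarTower.toAlgHom R A Aq)
  have hη : ∀ x : A, η x = 0 ↔ x ∈ q.asIdeal := fun x => by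
    show Ideal.Quotient.mk _ (algebraMap A Aq x) = 0 ↔ _
    rw [Ideal.Quotient.eq_zero_iff_mem, IsLocalization.AtPrime.to_map_mem_maximal_iff Aq q.asIdeal]
  let σ : k →ₐ[R] κ := Ideal.ResidueField.liftₐ p.asIdeal ((η.comp (Algebra.ofId R A)))
    (fun x hx => (hη _).2 hx) (fun x hx => isUnit_iff_ne_zero.2 fun h0 => hx ((hη _).1 h0))
  let τ : k ⊗[R] A →+* κ := (Algebra.TensorProduct.lift σ η fun _ _ => Commute.all _ _).toRingHom
  let Q : Ideal (k ⊗[R] A) := RingHom.ker τ
  haveI : Q.IsPrime := RingHom.ker_isPrime _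
  let B := Localization.AtPrime Q
  let θ : B →+* κ := IsLocalization.lift (M := Q.primeCompl) (g := τ) fun y => isUnit_iff_ne_zero.2 y.2
  let χ : A →+* B :=
    (algebraMap (k ⊗[R] A) B).comp (Algebra.TensorProduct.includeRight (R := R) (A := k) (B := A)).toRingHom
  haveI := Groth.L10.KFlatLBC.hasLBaseChange χ
  have hdual := isDualizing_fibre_loc n ψ hψ adj k Q
  haveI := hdual.isNoetherianRing
  obtain ⟨m, ⟨em⟩⟩ := Unique.exists_shift_iso (Gorenstein.isGorensteinLocalRing_iff_isDualizing.1 (hG p Q)) hdual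
  haveI : Module.Flat A Aq := IsLocalization.flat Aq q.asIdeal.primeCompl
  let ωq : Dual.D Aq := (FlatBC.L A Aq).obj ω
  have hpc : DRing.IsPseudoCoherent' Aq ωq := by
    haveI : IsNoetherianRing Aq := IsLocalization.isNoetherianRing q.asIdeal.primeCompl _ inferInstance
    refine TorInj.pc'_of_finite ωq b (fun i hi => ?_) fun i => ?_
    · haveI := hab i (Or.inr hi)
      exact (FlatBC.hEquiv A Aq ω i).toEquiv.subsingleton
    · haveI := hfin i
      exact Module.Finite.equiv (FlatBC.hEquiv A Aq ω i).symm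
  haveI := Groth.L10.KFlatLBC.hasLBaseChange (Ideal.Quotient.mk (IsLocalRing.maximalIdeal Aq))
  haveI := Groth.L10.KFlatLBC.hasLBaseChange (algebraMap A Aq)
  haveI := Groth.L10.KFlatLBC.hasLBaseChange θ
  have hcomp : (Ideal.Quotient.mk (IsLocalRing.maximalIdeal Aq)).comp (algebraMap A Aq) = θ.comp χ := by
    refine RingHom.ext fun x => ?_
    show η x = θ (algebraMap _ B ((1 : k) ⊗ₜ[R] x))
    rw [IsLocalization.lift_eq]
    simp [τ]
  haveI := Groth.L10.KFlatLBC.hasLBaseChange (θ.comp χ)
  obtain ⟨c1⟩ := nonempty_lbc_comp (algebraMap A Aq) (Ideal.Quotient.mk (IsLocalRing.maximalIdeal Aq))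
    (θ.comp χ) hcomp.symm
  obtain ⟨c2⟩ := nonempty_lbc_comp χ θ (θ.comp χ) rfl
  obtain ⟨e3⟩ := nonempty_lbc_inD_shift θ m
  obtain ⟨eq⟩ := nonempty_iso_of_residue ωq hpc m
    ((DRing.LBaseChange (Ideal.Quotient.mk (IsLocalRing.maximalIdeal Aq))).mapIso
      ((FlatBC.lbcIso (A := A) (B := Aq)).app ω).symm ≪≫ c1.app ω ≪≫ (c2.app ω).symm ≪≫
      (DRing.LBaseChange θ).mapIso em ≪≫ e3)
  obtain ⟨f, hf, hiso⟩ := exists_away ω hfin a b hab q m eq
  exact ⟨f, hf, m, hiso⟩

include hψ adj in
theorem gorenstein_of_invertible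
    (h : ∀ q : PrimeSpectrum A, ∃ (f : A) (_ : f ∉ q.asIdeal) (m : ℤ),
      ∀ [DRing.HasLBaseChange (algebraMap A (Localization.Away f))],
      Nonempty ((DRing.LBaseChange (algebraMap A (Localization.Away f))).obj
        (Dual2.shriekVia n Rψ (Dual.inD R R)) ≅ (Dual.inD (Localization.Away f) (Localization.Away f))⟦m⟧))
    (p : PrimeSpectrum R) : Groth.L21.GorensteinFieldExt.LocGor (p.asIdeal.ResidueField ⊗[R] A) := by
  intro Q _
  let k := p.asIdeal.ResidueField
  let B := Localization.AtPrime Q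
  let χ : A →+* B :=
    (algebraMap (k ⊗[R] A) B).comp (Algebra.TensorProduct.includeRight (R := R) (A := k) (B := A)).toRingHom
  haveI := Groth.L10.KFlatLBC.hasLBaseChange χ
  obtain ⟨f, hf, m, hiso⟩ := h ⟨Q.comap (Algebra.TensorProduct.includeRight (R := R) (A := k) (B := A)).toRingHom,
    inferInstance⟩
  have hu : IsUnit (χ f) := IsLocalization.map_units B (⟨_, hf⟩ : Q.primeCompl)
  let L := Localization.Away f
  let θ : L →+* B := IsLocalization.Away.lift f hu
  haveI := Groth.L10.KFlatLBC.hasLBaseChange (algebraMap A L)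
  haveI := Groth.L10.KFlatLBC.hasLBaseChange θ
  obtain ⟨e1⟩ := hiso
  obtain ⟨c⟩ := nonempty_lbc_comp (algebraMap A L) θ χ (IsLocalization.Away.lift_comp f hu).symm
  obtain ⟨e3⟩ := nonempty_lbc_inD_shift θ m
  have hdual := isDualizing_fibre_loc n ψ hψ adj k Q
  haveI := hdual.isNoetherianRing
  refine Gorenstein.isGorensteinLocalRing_iff_isDualizing.2 ?_
  exact HomD.isDualizing_of_iso ((shiftFunctor (Dual.D B) (-m)).mapIso
      ((c.app _).symm ≪≫ (DRing.LBaseChange θ).mapIso e1 ≪≫ e3) ≪≫
      (shiftEquiv (Dual.D B) m).unitIso.symm.app _)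
    (HomD.isDualizing_shift hdual (-m))

end Groth.L10.Shriek.GorFibres
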