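import Groth.Agent.L10.DerivedAdj
import Groth.Agent.L29.Dual.Coind
import Groth.Prelude.Def_DDual2

/-!
Right adjoints of restriction of scalars on derived categories: existence, composition, shifts.
-/

universe u

open CategoryTheory CategoryTheory.Limits

attribute [local instance] HasDerivedCategory.standard

set_option backward.defeqAttrib.useBackward true
set_option backward.isDefEq.respectTransparency false

namespace Groth.L10.Shriek

variable {A B C : Type u} [CommRing A] [CommRing B] [CommRing C]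

theorem exists_rightAdjoint (φ : A →+* B) :
    ∃ R : Dual.D A ⥤ Dual.D B, Nonempty (DRing.restrictD φ ⊣ R) := by
  let F := (ModuleCat.coextendScalars.{u, u, u} φ).mapHomotopyCategory (ComplexShape.up ℤ) ⋙ DerivedCategory.Qh
  haveI := KInjDerived.hasRightDerivedFunctor F
  exact ⟨_, ⟨DerivedAdj.derived (ModuleCat.restrictCoextendScalarsAdj φ)
    (F.totalRightDerived DerivedCategory.Qh (HomotopyCategory.quasiIso (ModuleCat.{u} A) (ComplexShape.up ℤ)))
    (F.totalRightDerivedUnit DerivedCategory.Qh (HomotopyCategory.quasiIso (ModuleCat.{u} A) (ComplexShape.up ℤ)))⟩⟩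

/-- restriction along a composite, naturally -/
noncomputable def restrictDCompIso (φ : A →+* B) (ψ : B →+* C) (χ : A →+* C) (h : χ = ψ.comp φ) :
    DRing.restrictD χ ≅ DRing.restrictD ψ ⋙ DRing.restrictD φ :=
  letI : Localization.Lifting DerivedCategory.Q (HomologicalComplex.quasiIso (ModuleCat.{u} C) (ComplexShape.up ℤ))
      (((ModuleCat.restrictScalars.{u} ψ).mapHomologicalComplex (ComplexShape.up ℤ) ⋙
        (ModuleCat.restrictScalars.{u} φ).mapHomologicalComplex (ComplexShape.up ℤ)) ⋙ DerivedCategory.Q)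
      (DRing.restrictD ψ ⋙ DRing.restrictD φ) :=
    ⟨(Functor.associator _ _ _).symm ≪≫
      Functor.isoWhiskerRight (ModuleCat.restrictScalars.{u} ψ).mapDerivedCategoryFactors _ ≪≫
      Functor.associator _ _ _ ≪≫
      Functor.isoWhiskerLeft _ (ModuleCat.restrictScalars.{u} φ).mapDerivedCategoryFactors ≪≫
      (Functor.associator _ _ _).symm⟩
  Localization.liftNatIso DerivedCategory.Q (HomologicalComplex.quasiIso (ModuleCat.{u} C) (ComplexShape.up ℤ))
    ((ModuleCat.restrictScalars.{u} χ).mapHomologicalComplex (ComplexShape.up ℤ) ⋙ DerivedCategory.Q)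
    (((ModuleCat.restrictScalars.{u} ψ).mapHomologicalComplex (ComplexShape.up ℤ) ⋙
        (ModuleCat.restrictScalars.{u} φ).mapHomologicalComplex (ComplexShape.up ℤ)) ⋙ DerivedCategory.Q)
    (DRing.restrictD χ) (DRing.restrictD ψ ⋙ DRing.restrictD φ)
    (Functor.isoWhiskerRight (NatIso.ofComponents (fun K => HomologicalComplex.Hom.isoOfComponents
      (fun i => ModuleCat.restrictScalarsComp'App φ ψ χ h (K.X i)) (fun _ _ _ => rfl))
      (fun f => by ext; rfl)) _)

/-- right adjoints compose -/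
theorem nonempty_comp_rightAdjoint {φ : A →+* B} {ψ : B →+* C} {χ : A →+* C} (h : χ = ψ.comp φ)
    {Rφ : Dual.D A ⥤ Dual.D B} (adjφ : DRing.restrictD φ ⊣ Rφ)
    {Rψ : Dual.D B ⥤ Dual.D C} (adjψ : DRing.restrictD ψ ⊣ Rψ)
    {Rχ : Dual.D A ⥤ Dual.D C} (adjχ : DRing.restrictD χ ⊣ Rχ) : Nonempty (Rχ ≅ Rφ ⋙ Rψ) :=
  ⟨(adjχ.ofNatIsoLeft (restrictDCompIso φ ψ χ h)).rightAdjointUniq (adjψ.comp adjφ)⟩

theorem nonempty_shift {φ : A →+* B} {R : Dual.D A ⥤ Dual.D B} (adj : DRing.restrictD φ ⊣ R)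
    (X : Dual.D A) (d : ℤ) : Nonempty (R.obj (X⟦d⟧) ≅ (R.obj X)⟦d⟧) := by
  let := adj.rightAdjointCommShift ℤ
  exact ⟨(R.commShiftIso d).app X⟩

end Groth.L10.Shriek
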