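import Groth.Agent.L10.Shriek.Indep
import Groth.Agent.L29.TrivBC.Concl
import Groth.Agent.L10.DerivedLeftCx
import Groth.Agent.L19.PerfectHom
import Groth.Agent.L10.DRing.Modules
import Mathlib.RingTheory.TensorProduct.MvPolynomial

/-! Base change of the right adjoint of restriction, objectwise. -/

universe u

open CategoryTheory CategoryTheory.Limits TensorProduct

attribute [local instance] HasDerivedCategory.standard

set_option backward.defeqAttrib.useBackward true
set_option backward.isDefEq.respectTransparency false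
set_option backward.isDefEq.respectTransparency.types false
set_option linter.style.haveILetI false

namespace Groth.L10.Shriek

theorem exists_adjLBC {R A : Type u} [CommRing R] [CommRing A] (φ : R →+* A) [DRing.HasLBaseChange φ] :
    Nonempty (DRing.LBaseChange φ ⊣ DRing.restrictD φ) := by
  have : (Groth.L10.DTen.LB φ).IsLeftDerivedFunctor (Groth.L10.DTen.αB φ)
      (HomologicalComplex.quasiIso (ModuleCat.{u} R) (ComplexShape.up ℤ)) :=
    Groth.L00.LeftDeriv.isLeftDerivedFunctor (_root_.DTen.extCx φ ⋙ DerivedCategory.Q) (_root_.DTen.qis R) DerivedCategory.Q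
      (Groth.L10.KFlat.R R) (Groth.L10.KFlat.r R)
      (fun X => (HomologicalComplex.mem_quasiIso_iff _).2 (Groth.L10.KFlat.quasiIso_r X))
      (Groth.L10.DTen.invertedExt φ)
      (fun X => Groth.L10.DTen.isIso_extQ_map φ _ (Groth.L10.KFlat.isKFlat_R _) (Groth.L10.KFlat.isKFlat_R _))
  exact ⟨(Groth.L10.DTen.BaseAdj.adjB φ).ofNatIsoLeft
    (Groth.L10.DerivedLeftCx.isoDerived (ModuleCat.extendScalars φ) (Groth.L10.DTen.αB φ)
      ((DRing.baseChangeKh φ).totalLeftDerivedCounit DerivedCategory.Qh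
        (HomotopyCategory.quasiIso (ModuleCat.{u} R) (ComplexShape.up ℤ))))⟩

variable (R A R' A' : Type u) [CommRing R] [CommRing A] [CommRing R'] [CommRing A']
  [Algebra R A] [Algebra R R'] [Algebra A A'] [Algebra R' A'] [Algebra R A'] [IsScalarTower R A A']
  [IsScalarTower R R' A'] [Algebra.IsPushout R A R' A']

/-- base change for a perfect algebra -/
theorem nonempty_bc_perfect (hperf : DRing.IsPerfectModule R A)
    (htor : ∀ p : ℕ, 1 ≤ p → Subsingleton (DRing.Tor R p A R'))
    [DRing.HasLBaseChange (algebraMap R R')] [DRing.HasLBaseChange (algebraMap A A')]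
    {Rφ : Dual.D R ⥤ Dual.D A} (adj : DRing.restrictD (algebraMap R A) ⊣ Rφ)
    {Rφ' : Dual.D R' ⥤ Dual.D A'} (adj' : DRing.restrictD (algebraMap R' A') ⊣ Rφ') (K : Dual.D R) :
    Nonempty ((DRing.LBaseChange (algebraMap A A')).obj (Rφ.obj K) ≅
      Rφ'.obj ((DRing.LBaseChange (algebraMap R R')).obj K)) := by
  obtain ⟨adjρ⟩ := exists_adjLBC (algebraMap R R')
  obtain ⟨adjα⟩ := exists_adjLBC (algebraMap A A')
  have h : (algebraMap A A').comp (algebraMap R A) = (algebraMap R' A').comp (algebraMap R R') := by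
    rw [← IsScalarTower.algebraMap_eq, ← IsScalarTower.algebraMap_eq]
  have hc := Groth.L29.TrivBC.isIso_cmp R A R' A' htor adjρ adjα h (Rφ.obj K)
  haveI := Groth.L10.DTen.hasLTen R
  haveI := Groth.L10.DTen.hasLTen R'
  haveI := Groth.L29.TrivBC.hasRHom (R := R)
  haveI := Groth.L29.TrivBC.hasRHom (R := R')
  haveI := Groth.L29.TrivBC.hasLBase (algebraMap R R')
  haveI := Groth.L29.TrivBC.hasResTen (algebraMap R R')
  haveI := Groth.L29.TrivBC.resLegIso (algebraMap R R')
  haveI := Groth.L10.DTen.isIso_rhomBC (algebraMap R R')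
    ((DRing.restrictD (algebraMap R A)).obj (_root_.DTen.unit A)) ((_root_.DTen.LBase (algebraMap R R')).obj K)
  obtain ⟨E, a, b, hv, hp, ⟨e⟩⟩ := hperf
  haveI : IsIso (TrivBC.bcMap adjρ adjα h adj adj' K hc) := by
    rw [Groth.L29.TrivBC.isIso_bcMap_iff_bcRHom R A R' A' htor adjρ adjα h adj adj' K hc]
    exact Groth.L10.DTen.isIso_bcRHom_of_bijective _ fun X =>
      Groth.L10.DTen.bijective_Ψ_of_perfect _ X
        ⟨E, a, b, hv, hp, ⟨e ≪≫ (Groth.L29.TrivBC.nonempty_res_unit_iso R A).some⟩⟩ K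
  exact ⟨asIso (TrivBC.bcMap adjρ adjα h adj adj' K hc)⟩

/-- flat base change for a pseudo-coherent algebra -/
theorem nonempty_bc_pc [Module.Flat R R'] (hpc : DRing.IsPseudoCoherentModule' R A)
    [DRing.HasLBaseChange (algebraMap R R')] [DRing.HasLBaseChange (algebraMap A A')]
    {Rφ : Dual.D R ⥤ Dual.D A} (adj : DRing.restrictD (algebraMap R A) ⊣ Rφ)
    {Rφ' : Dual.D R' ⥤ Dual.D A'} (adj' : DRing.restrictD (algebraMap R' A') ⊣ Rφ') (K : Dual.D R)
    (n : ℤ) [DerivedCategory.IsGE K n] :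
    Nonempty ((DRing.LBaseChange (algebraMap A A')).obj (Rφ.obj K) ≅
      Rφ'.obj ((DRing.LBaseChange (algebraMap R R')).obj K)) := by
  have htor : ∀ p : ℕ, 1 ≤ p → Subsingleton (DRing.Tor R p A R') := fun p hp => by
    obtain ⟨k, rfl⟩ : ∃ k : ℕ, p = k + 1 := ⟨p - 1, by omega⟩
    exact ModuleCat.subsingleton_of_isZero
      (Groth.L28.TorFacts.isZero_of_flat_right (ModuleCat.of R A) (ModuleCat.of R R') k)
  obtain ⟨adjρ⟩ := exists_adjLBC (algebraMap R R')
  obtain ⟨adjα⟩ := exists_adjLBC (algebraMap A A')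
  have h : (algebraMap A A').comp (algebraMap R A) = (algebraMap R' A').comp (algebraMap R R') := by
    rw [← IsScalarTower.algebraMap_eq, ← IsScalarTower.algebraMap_eq]
  have hc := Groth.L29.TrivBC.isIso_cmp R A R' A' htor adjρ adjα h (Rφ.obj K)
  haveI := Groth.L10.DTen.hasLTen R
  haveI := Groth.L10.DTen.hasLTen R'
  haveI := Groth.L29.TrivBC.hasRHom (R := R)
  haveI := Groth.L29.TrivBC.hasRHom (R := R')
  haveI := Groth.L29.TrivBC.hasLBase (algebraMap R R')
  haveI := Groth.L29.TrivBC.hasResTen (algebraMap R R')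
  haveI := Groth.L29.TrivBC.resLegIso (algebraMap R R')
  haveI := Groth.L10.DTen.isIso_rhomBC (algebraMap R R')
    ((DRing.restrictD (algebraMap R A)).obj (_root_.DTen.unit A)) ((_root_.DTen.LBase (algebraMap R R')).obj K)
  haveI : IsIso (TrivBC.bcMap adjρ adjα h adj adj' K hc) := by
    rw [Groth.L29.TrivBC.isIso_bcMap_iff_bcRHom R A R' A' htor adjρ adjα h adj adj' K hc]
    exact Groth.L10.DTen.isIso_bcRHom_of_pc _
      (Groth.L10.DTen.Bounds.amp_res_unit (Groth.L10.DR.hasTorDimLE_zero_iff.2 inferInstance))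
      (Groth.L29.TrivBC.isPseudoCoherent_res_unit R A hpc) n inferInstance
  exact ⟨asIso (TrivBC.bcMap adjρ adjα h adj adj' K hc)⟩

end Groth.L10.Shriek
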