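import Groth.Agent.L10.Shriek.BaseChange

/-! The upper shriek of a composite. -/

universe u

open CategoryTheory CategoryTheory.Limits TensorProduct

attribute [local instance] HasDerivedCategory.standard MvPolynomial.algebraMvPolynomial

set_option backward.defeqAttrib.useBackward true
set_option backward.isDefEq.respectTransparency false
set_option backward.isDefEq.respectTransparency.types false
set_option linter.style.haveILetI false

namespace Groth.L10.Shriek

variable (A B C : Type u) [CommRing A] [CommRing B] [CommRing C] [IsNoetherianRing A]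
  [Algebra A B] [Algebra B C] [Algebra A C] [IsScalarTower A B C]

/-- the shriek of a composite -/
theorem nonempty_comp (n : ℕ) (ψ : MvPolynomial (Fin n) A →ₐ[A] B) (hψ : Function.Surjective ψ)
    [DRing.HasLBaseChange (algebraMap A (MvPolynomial (Fin n) A))]
    {Rψ : Dual.D (MvPolynomial (Fin n) A) ⥤ Dual.D B} (adj : DRing.restrictD ψ.toRingHom ⊣ Rψ)
    (m : ℕ) (χ : MvPolynomial (Fin m) B →ₐ[B] C) (hχ : Function.Surjective χ)
    [DRing.HasLBaseChange (algebraMap B (MvPolynomial (Fin m) B))]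
    {Rχ : Dual.D (MvPolynomial (Fin m) B) ⥤ Dual.D C} (adjχ : DRing.restrictD χ.toRingHom ⊣ Rχ)
    (k : ℕ) (θ : MvPolynomial (Fin k) A →ₐ[A] C) (hθ : Function.Surjective θ)
    [DRing.HasLBaseChange (algebraMap A (MvPolynomial (Fin k) A))]
    {Rθ : Dual.D (MvPolynomial (Fin k) A) ⥤ Dual.D C} (adjθ : DRing.restrictD θ.toRingHom ⊣ Rθ)
    (K : Dual.D A) (c : ℤ) [DerivedCategory.IsGE K c] :
    Nonempty (Dual2.shriekVia k Rθ K ≅ Dual2.shriekVia m Rχ (Dual2.shriekVia n Rψ K)) := by
  let P := MvPolynomial (Fin n) A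
  let J := MvPolynomial (Fin m) P
  let By := MvPolynomial (Fin m) B
  letI : Algebra P B := ψ.toRingHom.toAlgebra
  letI : Algebra J By := MvPolynomial.algebraMvPolynomial
  haveI : Module.Finite P B := RingHom.Finite.of_surjective ψ.toRingHom hψ
  haveI : Algebra.IsPushout P B J By := inferInstance
  let θJ : J →+* C := χ.toRingHom.comp (algebraMap J By)
  obtain ⟨R2, ⟨adj2⟩⟩ := exists_rightAdjoint (algebraMap J By)
  obtain ⟨RJ, ⟨adjJ⟩⟩ := exists_rightAdjoint θJ
  obtain ⟨c1⟩ := nonempty_comp_rightAdjoint (φ := algebraMap J By) (ψ := χ.toRingHom) rfl adj2 adjχ adjJ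
  haveI := KFlatLBC.hasLBaseChange (algebraMap P J)
  haveI := KFlatLBC.hasLBaseChange (algebraMap A J)
  haveI : DRing.HasLBaseChange (algebraMap B By) := ‹_›
  haveI := isGE_lbc (algebraMap A P) (RingHom.flat_algebraMap_iff.2 inferInstance) K c
  obtain ⟨bc⟩ := nonempty_bc_pc P B J By (Groth.L10.DR.pcModule'_noetherian B) adj adj2
    ((DRing.LBaseChange (algebraMap A P)).obj K) c
  obtain ⟨b1⟩ := KFlatLBC.nonempty_comp_iso (algebraMap A P) (algebraMap P J) (algebraMap A J)
    (IsScalarTower.algebraMap_eq A P J) K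
  -- the presentation in a single polynomial ring
  let e : MvPolynomial (Fin (n + m)) A ≃ₐ[A] J :=
    (MvPolynomial.renameEquiv A ((finSumFinEquiv (m := n) (n := m)).symm.trans (Equiv.sumComm (Fin n) (Fin m)))).trans
      (MvPolynomial.sumAlgEquiv A (Fin m) (Fin n))
  have hJ : ∀ r : A, θJ (algebraMap A J r) = algebraMap A C r := fun r => by
    show χ (MvPolynomial.map (algebraMap P B) (MvPolynomial.C (MvPolynomial.C r))) = _
    rw [MvPolynomial.map_C, ← MvPolynomial.algebraMap_eq, χ.commutes]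
    show algebraMap B C (ψ (MvPolynomial.C r)) = _
    rw [← MvPolynomial.algebraMap_eq, ψ.commutes, ← IsScalarTower.algebraMap_apply]
  let θ' : MvPolynomial (Fin (n + m)) A →ₐ[A] C :=
    { θJ.comp e.toRingEquiv.toRingHom with commutes' := fun r => (congrArg θJ (e.commutes r)).trans (hJ r) }
  have hθ' : Function.Surjective θ' := by
    refine Function.Surjective.comp (g := θJ) (hχ.comp ?_) e.surjective
    exact MvPolynomial.map_surjective _ hψ
  obtain ⟨R', ⟨adj'⟩⟩ := exists_rightAdjoint θ'.toRingHom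
  haveI := KFlatLBC.hasLBaseChange (algebraMap A (MvPolynomial (Fin (n + m)) A))
  haveI := KFlatLBC.hasLBaseChange (e.toRingEquiv.toRingHom.comp (algebraMap A (MvPolynomial (Fin (n + m)) A)))
  have heq : SecShift e.toRingEquiv.toRingHom e.symm.toRingEquiv.toRingHom 0 :=
    SecShift.of_bijective _ _ (RingHom.Flat.of_bijective e.bijective) e.symm_apply_apply e.apply_symm_apply
  have hθJ : θ'.toRingHom.comp e.symm.toRingEquiv.toRingHom = θJ :=
    RingHom.ext fun x => congrArg θJ (e.apply_symm_apply x)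
  obtain ⟨l⟩ := nonempty_enlarge heq (algebraMap A (MvPolynomial (Fin (n + m)) A)) adj'
    (show DRing.restrictD (θ'.toRingHom.comp e.symm.toRingEquiv.toRingHom) ⊣ RJ from hθJ ▸ adjJ) K ((n : ℤ) + m)
  obtain ⟨ind⟩ := nonempty_indep (n + m) k θ' hθ' θ hθ adj' adjθ K
  have hk : ∀ (x y : A →+* J) [DRing.HasLBaseChange x] [DRing.HasLBaseChange y], x = y →
      Nonempty ((DRing.LBaseChange x).obj K ≅ (DRing.LBaseChange y).obj K) := by
    rintro x y _ _ rfl
    exact ⟨Iso.refl _⟩
  obtain ⟨k'⟩ := hk (e.toRingEquiv.toRingHom.comp (algebraMap A (MvPolynomial (Fin (n + m)) A))) (algebraMap A J)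
    (RingHom.ext fun r => e.commutes r)
  obtain ⟨adjα⟩ := exists_adjLBC (algebraMap B By)
  letI := adjα.leftAdjointCommShift ℤ
  obtain ⟨s⟩ := nonempty_shift adjχ ((DRing.LBaseChange (algebraMap B By)).obj
    (Rψ.obj ((DRing.LBaseChange (algebraMap A P)).obj K))) n
  exact ⟨ind.symm ≪≫ eqToIso (by rw [Dual2.shriekVia]; push_cast; rfl) ≪≫ l ≪≫
    (shiftFunctor (Dual.D C) (0 + ((n : ℤ) + m))).mapIso (RJ.mapIso (k' ≪≫ b1.symm) ≪≫ c1.app _ ≪≫ Rχ.mapIso bc.symm) ≪≫
    (shiftFunctorAdd' (Dual.D C) (n : ℤ) (m : ℤ) (0 + ((n : ℤ) + m)) (zero_add _).symm).app _ ≪≫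
    (shiftFunctor (Dual.D C) (m : ℤ)).mapIso
      (s.symm ≪≫ Rχ.mapIso (((DRing.LBaseChange (algebraMap B By)).commShiftIso (n : ℤ)).app _).symm)⟩

end Groth.L10.Shriek
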