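import Groth.Agent.L29.Dual.NormLoc
import Groth.Agent.L29.Dual.SurjRes
import Groth.Agent.L06.DiffCotBase
import Groth.Agent.S1782
import Groth.Prelude.Def_DualSh
import Mathlib.RingTheory.Polynomial.Quotient
import Mathlib.RingTheory.TensorProduct.Quotient
import Mathlib.Order.KrullDimension

/-!
The shriek of a normalized dualizing complex is normalized at maximal ideals over the maximal ideal.
-/

set_option autoImplicit false

universe u

open CategoryTheory CategoryTheory.Limits TensorProduct

attribute [local instance] HasDerivedCategory.standard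

set_option backward.defeqAttrib.useBackward true
set_option backward.isDefEq.respectTransparency false
set_option backward.isDefEq.respectTransparency.types false
set_option linter.style.haveILetI false

namespace Groth.L10.Shriek.Normalized

open Groth.L29 Groth.L29.HomD

/-- a function dropping by one along covers is determined by the height -/
theorem eq_sub_height {α : Type*} [PartialOrder α] (b : α) (hb : ∀ x, b ≤ x) (f : α → ℤ)
    (hf : ∀ x y : α, x ⋖ y → f x = f y + 1) : ∀ (n : ℕ) (x : α), Order.height x = n → f x = f b - n := by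
  intro n
  induction n with
  | zero =>
    intro x hx
    have hx' : x = b := ((Order.height_eq_zero.1 (by simpa using hx)).eq_of_le (hb x)).symm
    simp [hx']
  | succ n ih =>
    intro x hx
    obtain ⟨l, hl, hlen⟩ := Order.exists_series_of_height_eq_coe x hx
    have hlast := Order.height_eq_index_of_length_eq_height_last (p := l) (by rw [hl, hx, hlen])
    let y := l ⟨n, by omega⟩
    have hy : Order.height y = n := hlast ⟨n, by omega⟩
    have hlt : y < x := by
      rw [← hl]
      exact l.strictMono (show (⟨n, by omega⟩ : Fin (l.length + 1)) < Fin.last _ by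
        simp [Fin.lt_def, hlen])
    have hcov : y ⋖ x := ⟨hlt, fun z hyz hzx => by
      have h1 := Order.height_add_one_le hyz
      have h2 := Order.height_add_one_le hzx
      have h3 := (add_le_add h1 (le_refl (1 : ℕ∞))).trans h2
      rw [hy, hx] at h3
      have : n + 1 + 1 ≤ n + 1 := by exact_mod_cast h3
      omega⟩
    have := hf y x hcov
    have := ih y hy
    push_cast
    omega

variable {R : Type u} [CommRing R] [IsNoetherianRing R] [IsLocalRing R] {n : ℕ}

/-- the fibre over the closed point sits in degree zero -/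
theorem dimFun_maximal (ω : Dual.D R) (hω : Dual.IsDualizing R ω) (hn : Dual.IsNormalized R ω)
    (hK : Dual.IsDualizing (MvPolynomial (Fin n) R) ((FlatBC.L R (MvPolynomial (Fin n) R)).obj ω))
    (M : PrimeSpectrum (MvPolynomial (Fin n) R)) (hM : M.asIdeal.IsMaximal)
    (hMR : (IsLocalRing.maximalIdeal R).map (algebraMap R (MvPolynomial (Fin n) R)) ≤ M.asIdeal) :
    dimFun hK M = -(n : ℤ) := by
  let P := MvPolynomial (Fin n) R
  let I : Ideal P := (IsLocalRing.maximalIdeal R).map (algebraMap R P)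
  let k := R ⧸ IsLocalRing.maximalIdeal R
  letI : Field k := Ideal.Quotient.field _
  let e : MvPolynomial (Fin n) k ≃+* P ⧸ I :=
    ((MvPolynomial.quotientEquivQuotientMvPolynomial (IsLocalRing.maximalIdeal R)).toRingEquiv.trans
      (Ideal.quotEquivOfEq (show _ = I from rfl)))
  haveI : IsDomain (P ⧸ I) := e.symm.toMulEquiv.isDomain _
  haveI hI : I.IsPrime := (Ideal.Quotient.isDomain_iff_prime I).1 inferInstance
  let Q₀ : PrimeSpectrum P := ⟨I, hI⟩
  have h0 : dimFun hK Q₀ = 0 := by
    by_contra hne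
    obtain ⟨a, b, hab⟩ := hω.finite_injective_dimension
    haveI := isGE_of_lower a fun N _ _ i hi => hab N i (Or.inl hi)
    haveI : Subsingleton (Dual.inD R (R ⧸ IsLocalRing.maximalIdeal R) ⟶ ω⟦-dimFun hK Q₀⟧) := hn _ (by omega)
    haveI : Module.Flat R P := Module.Flat.of_free
    haveI := (FlatBC.homEquiv (B := P) (W := ω) a (R ⧸ IsLocalRing.maximalIdeal R) (-dimFun hK Q₀)).symm.toEquiv.subsingleton
    haveI := (HomD.preEquiv ((FlatBC.L R P).obj ω)
      (Algebra.TensorProduct.quotIdealMapEquivTensorQuot P (IsLocalRing.maximalIdeal R)).toLinearEquiv.symm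
      (-dimFun hK Q₀)).toEquiv.subsingleton
    exact (not_lz_iff_eq hK Q₀ _).2 rfl LZ.of_subsingleton
  let c : PrimeSpectrum (P ⧸ I) → PrimeSpectrum P := PrimeSpectrum.comap (Ideal.Quotient.mk I)
  have hc : ∀ z, I ≤ (c z).asIdeal := fun z x hx => by
    show Ideal.Quotient.mk I x ∈ z.asIdeal
    rw [Ideal.Quotient.eq_zero_iff_mem.2 hx]
    exact zero_mem _
  have hcle : ∀ z w, c z ≤ c w ↔ z ≤ w := fun z w =>
    Ideal.comap_le_comap_iff_of_surjective (Ideal.Quotient.mk I) Ideal.Quotient.mk_surjective _ _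
  have hsurj : ∀ r : PrimeSpectrum P, I ≤ r.asIdeal → ∃ z, c z = r := fun r hr =>
    ⟨⟨r.asIdeal.map (Ideal.Quotient.mk I), Ideal.map_isPrime_of_surjective Ideal.Quotient.mk_surjective
      (by rwa [Ideal.mk_ker])⟩, PrimeSpectrum.ext (by
        show (r.asIdeal.map (Ideal.Quotient.mk I)).comap (Ideal.Quotient.mk I) = r.asIdeal
        rw [Ideal.comap_map_of_surjective _ Ideal.Quotient.mk_surjective, ← RingHom.ker_eq_comap_bot,
          Ideal.mk_ker, sup_eq_left.2 hr])⟩
  have hcov : ∀ z w, z ⋖ w → c z ⋖ c w := fun z w h =>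
    ⟨lt_of_le_not_ge ((hcle z w).2 h.1.le) fun h' => h.1.not_ge ((hcle w z).1 h'), fun r hzr hrw => by
      obtain ⟨v, rfl⟩ := hsurj r ((hc z).trans hzr.le)
      exact h.2 (lt_of_le_not_ge ((hcle z v).1 hzr.le) fun h' => hzr.not_ge ((hcle v z).2 h'))
        (lt_of_le_not_ge ((hcle v w).1 hrw.le) fun h' => hrw.not_ge ((hcle w v).2 h'))⟩
  obtain ⟨z, hz⟩ := hsurj M hMR
  let b : PrimeSpectrum (P ⧸ I) := ⟨⊥, Ideal.bot_prime⟩
  have hb : c b = Q₀ := PrimeSpectrum.ext (by
    show (⊥ : Ideal (P ⧸ I)).comap (Ideal.Quotient.mk I) = I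
    rw [← RingHom.ker_eq_comap_bot, Ideal.mk_ker])
  haveI : z.asIdeal.IsMaximal := by
    have : z.asIdeal = M.asIdeal.map (Ideal.Quotient.mk I) := by
      rw [← hz]
      exact (Ideal.map_comap_of_surjective _ Ideal.Quotient.mk_surjective _).symm
    rw [this]
    exact (Ideal.map_eq_top_or_isMaximal_of_surjective _ Ideal.Quotient.mk_surjective hM).resolve_left
      (by rw [← this]; exact z.2.ne_top)
  have hh : Order.height z = (n : ℕ∞) := by
    haveI : (z.asIdeal.map e.symm).IsMaximal := Ideal.map_isMaximal_of_equiv e.symm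
    have h1 : z.asIdeal.height = Order.height z := PrimeSpectrum.height_eq_orderHeight z
    rw [← h1, ← e.symm.height_map z.asIdeal]
    exact Groth.L06.DiffCot.height_mvPolynomial k n _
  have := eq_sub_height b (fun x => bot_le (α := Ideal (P ⧸ I))) (fun z => dimFun hK (c z))
    (fun x y h => dimFun_covBy hK _ _ (hcov x y h)) n z hh
  rw [hz, hb, h0] at this
  simpa using this

variable {A : Type u} [CommRing A] [IsNoetherianRing A] [Algebra R A]

/-- the shriek of a normalized dualizing complex at a maximal ideal over the maximal ideal -/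
theorem isDualizing_and_isNormalized (ψ : MvPolynomial (Fin n) R →ₐ[R] A) (hψ : Function.Surjective ψ)
    [DRing.HasLBaseChange (algebraMap R (MvPolynomial (Fin n) R))]
    {Rψ : Dual.D (MvPolynomial (Fin n) R) ⥤ Dual.D A} (adj : DRing.restrictD ψ.toRingHom ⊣ Rψ)
    (m : Ideal A) [m.IsMaximal] (hm : m.comap (algebraMap R A) = IsLocalRing.maximalIdeal R)
    (ω : Dual.D R) (hω : Dual.IsDualizing R ω) (hn : Dual.IsNormalized R ω)
    [DRing.HasLBaseChange (algebraMap A (Localization.AtPrime m))] :
    Dual.IsDualizing (Localization.AtPrime m)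
        ((DRing.LBaseChange (algebraMap A (Localization.AtPrime m))).obj (Dual2.shriekVia n Rψ ω)) ∧
      Dual.IsNormalized (Localization.AtPrime m)
        ((DRing.LBaseChange (algebraMap A (Localization.AtPrime m))).obj (Dual2.shriekVia n Rψ ω)) := by
  let P := MvPolynomial (Fin n) R
  let B := Localization.AtPrime m
  haveI : Module.Flat A B := IsLocalization.flat B m.primeCompl
  haveI : Module.Flat R P := Module.Flat.of_free
  haveI : Algebra.Smooth R P := { }
  let ω' := Dual2.shriekVia n Rψ ω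
  have hω' : Dual.IsDualizing A ω' := Groth.Agent.S1782.result R A n ψ hψ Rψ adj ω hω
  let eB := (FlatBC.lbcIso (A := A) (B := B)).app ω'
  refine ⟨isDualizing_of_iso eB.symm (FlatBC.isDualizing_L_localization (B := B) m.primeCompl hω'), fun i hi => ?_⟩
  let K : Dual.D P := (DRing.LBaseChange (algebraMap R P)).obj ω
  have hK : Dual.IsDualizing P ((FlatBC.L R P).obj ω) :=
    isDualizing_of_iso ((FlatBC.lbcIso (A := R) (B := P)).app ω) (Groth.Agent.S11177.result R P ω hω)
  let Mp : PrimeSpectrum P := ⟨m.comap ψ.toRingHom, inferInstance⟩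
  haveI hMp : Mp.asIdeal.IsMaximal := Ideal.comap_isMaximal_of_surjective ψ.toRingHom hψ
  have hMR : (IsLocalRing.maximalIdeal R).map (algebraMap R P) ≤ Mp.asIdeal := by
    rw [Ideal.map_le_iff_le_comap, ← hm]
    intro r hr
    show ψ (algebraMap R P r) ∈ m
    rw [ψ.commutes]
    exact hr
  have hdim := dimFun_maximal ω hω hn hK Mp hMp hMR
  -- vanishing upstairs
  haveI : Subsingleton (Dual.inD P (P ⧸ Mp.asIdeal) ⟶ K⟦(n : ℤ) + i⟧) := by
    have h1 := lz_of_ne hK Mp (i := (n : ℤ) + i) (by rw [hdim]; omega)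
    haveI : Subsingleton (Dual.inD P (P ⧸ Mp.asIdeal) ⟶ ((FlatBC.L R P).obj ω)⟦(n : ℤ) + i⟧) :=
      subsingleton_of_forall_eq 0 fun φ => by
        obtain ⟨s, hs, hsφ⟩ := h1 φ
        obtain ⟨t, ht⟩ := Ideal.Quotient.exists_inv (I := Mp.asIdeal)
          (a := Ideal.Quotient.mk Mp.asIdeal s) (fun h => hs (Ideal.Quotient.eq_zero_iff_mem.1 h))
        obtain ⟨t, rfl⟩ := Ideal.Quotient.mk_surjective t
        have hid : (s * t) • (LinearMap.id : (P ⧸ Mp.asIdeal) →ₗ[P] P ⧸ Mp.asIdeal) = LinearMap.id :=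
          LinearMap.ext fun y => by
            obtain ⟨y, rfl⟩ := Ideal.Quotient.mk_surjective y
            show (s * t) • Ideal.Quotient.mk Mp.asIdeal y = Ideal.Quotient.mk Mp.asIdeal y
            rw [Algebra.smul_def, Ideal.Quotient.algebraMap_eq, map_mul, ht, one_mul]
        have := congrArg (fun g => HomD.pre ((FlatBC.L R P).obj ω) g ((n : ℤ) + i) φ) hid
        simp only [pre_smul, pre_id] at this
        rw [show φ = (s * t) • φ from this.symm, mul_comm, mul_smul, hsφ, smul_zero]
    exact (Iso.homCongr (Iso.refl _) ((shiftFunctor (Dual.D P) _).mapIso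
      ((FlatBC.lbcIso (A := R) (B := P)).app ω))).subsingleton
  -- transfer along the right adjoint
  haveI : Subsingleton (Dual.inD A (A ⧸ m) ⟶ ω'⟦i⟧) := by
    let N : ModuleCat.{u} A := ModuleCat.of A (A ⧸ m)
    let g : P →ₗ[P] (ModuleCat.restrictScalars.{u} ψ.toRingHom).obj N :=
      { toFun := fun x => (Ideal.Quotient.mk m (ψ x) : A ⧸ m)
        map_add' := fun x y => by rw [map_add]; rfl
        map_smul' := fun a x => by
          show Ideal.Quotient.mk m (ψ (a * x)) = ψ a • Ideal.Quotient.mk m (ψ x)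
          rw [map_mul, map_mul]
          rfl }
    let eA : (P ⧸ Mp.asIdeal) ≃ₗ[P] (ModuleCat.restrictScalars.{u} ψ.toRingHom).obj N :=
      LinearEquiv.ofBijective (Submodule.liftQ Mp.asIdeal g fun x hx => Ideal.Quotient.eq_zero_iff_mem.2 hx)
        ⟨fun x y h => by
          obtain ⟨x, rfl⟩ := Submodule.Quotient.mk_surjective _ x
          obtain ⟨y, rfl⟩ := Submodule.Quotient.mk_surjective _ y
          refine (Submodule.Quotient.eq _).2 ?_
          show ψ (x - y) ∈ m
          rw [map_sub]
          exact Ideal.Quotient.eq.1 h,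
        fun z => by
          obtain ⟨a, ha⟩ := Ideal.Quotient.mk_surjective (show A ⧸ m from z)
          obtain ⟨x, rfl⟩ := hψ a
          exact ⟨Submodule.Quotient.mk x, ha⟩⟩
    let E : (Dual.inD A N ⟶ (Rψ.obj K)⟦(n : ℤ) + i⟧) ≃ (Dual.inD P (P ⧸ Mp.asIdeal) ⟶ K⟦(n : ℤ) + i⟧) :=
      (RestrictAdj.shiftLeft (Dual.inD A N) (Rψ.obj K) ((n : ℤ) + i)).toEquiv.trans
        ((adj.homEquiv _ _).symm.trans ((Iso.homCongr
          (((DRing.restrictD ψ.toRingHom).commShiftIso (-((n : ℤ) + i))).app _ ≪≫
            (shiftFunctor (Dual.D P) (-((n : ℤ) + i))).mapIso (RestrictAdj.restrictSingle ψ.toRingHom N ≪≫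
              (DerivedCategory.singleFunctor (ModuleCat.{u} P) 0).mapIso eA.symm.toModuleIso))
          (Iso.refl K)).trans (RestrictAdj.shiftLeft (Dual.inD P (P ⧸ Mp.asIdeal)) K ((n : ℤ) + i)).toEquiv.symm))
    haveI := E.subsingleton
    exact (Iso.homCongr (Iso.refl _) ((shiftFunctorAdd' (Dual.D A) (n : ℤ) i ((n : ℤ) + i) rfl).app (Rψ.obj K))).symm.subsingleton
  -- localize
  obtain ⟨a, b, hab⟩ := hω'.finite_injective_dimension
  haveI := isGE_of_lower a fun N _ _ i hi => hab N i (Or.inl hi)
  haveI := (FlatBC.homEquiv (B := B) (W := ω') a (A ⧸ m) i).symm.toEquiv.subsingleton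
  let e1 : (B ⊗[A] (A ⧸ m)) ≃ₗ[B] IsLocalRing.ResidueField B :=
    (Algebra.TensorProduct.quotIdealMapEquivTensorQuot B m).toLinearEquiv.symm.trans
      (Submodule.quotEquivOfEq _ _ (IsLocalization.AtPrime.map_eq_maximalIdeal m B))
  haveI := ((HomD.preEquiv ((FlatBC.L A B).obj ω') e1 i)).toEquiv.subsingleton
  exact (Iso.homCongr (Iso.refl _) ((shiftFunctor (Dual.D B) i).mapIso eB)).subsingleton

end Groth.L10.Shriek.Normalized
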