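import Groth.Agent.L10.Shriek.FibreVanish
import Groth.Agent.L10.Shriek.PerfectDual
import Groth.Agent.L10.DRing.FlatFibre
import Groth.Agent.L10.DRing.TorDim
import Groth.Agent.L19.PerfectHom
import Groth.Agent.L03.TorResidue
import Groth.Agent.L29.Dual.TorInj
import Groth.Agent.L23.FibreDimBC
import Groth.Agent.S1801
import Groth.Agent.S1807

/-!
The range of cohomological degrees and the tor amplitude of `ω` for a flat map.
-/

set_option autoImplicit false

universe u

open CategoryTheory CategoryTheory.Limits TensorProduct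

attribute [local instance] HasDerivedCategory.standard

set_option backward.defeqAttrib.useBackward true
set_option backward.isDefEq.respectTransparency false
set_option backward.isDefEq.respectTransparency.types false
set_option linter.style.haveILetI false

namespace Groth.L10.Shriek.FlatRange

open Groth.L29 Groth.L10.DR CategoryTheory.Abelian Groth.L02.PC

/-- a finite module of tor amplitude in `[-d, 0]` over a Noetherian ring has projective dimension `≤ d` -/
theorem hasPD_of_amp {A : Type u} [CommRing A] [IsNoetherianRing A] : ∀ (d : ℕ) (M : ModuleCat.{u} A),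
    Module.Finite A M → DRing.HasTorAmplitudeIn A (-(d : ℤ)) 0 (Dual.inD A M) →
      HasProjectiveDimensionLT M (d + 1) := by
  intro d
  induction d with
  | zero =>
    intro M hM h
    haveI : Module.Flat A M := Groth.L10.DR.flat_of_amp (by simpa using h)
    haveI : Module.FinitePresentation A M := Module.finitePresentation_of_finite A M
    haveI : Module.Projective A M := Module.Flat.projective_of_finitePresentation
    haveI : CategoryTheory.Projective M := (IsProjective.iff_projective _).mp inferInstance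
    exact (projective_iff_hasProjectiveDimensionLT_one (X := M)).1 inferInstance
  | succ d ih =>
    intro M hM h
    obtain ⟨n, g, hg⟩ := Module.Finite.exists_fin' A M
    let S : ShortComplex (ModuleCat.{u} A) := ShortComplex.mk (ModuleCat.ofHom (LinearMap.ker g).subtype)
      (ModuleCat.ofHom g) (ModuleCat.hom_ext (LinearMap.ext fun x => x.2))
    have hS : S.ShortExact :=
      { exact := (ShortComplex.ShortExact.moduleCat_exact_iff_function_exact _).2 g.exact_subtype_ker_map
        mono_f := (ModuleCat.mono_iff_injective _).2 Subtype.val_injective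
        epi_g := (ModuleCat.epi_iff_surjective _).2 hg }
    haveI : Module.Finite A S.X₁ := Module.Finite.iff_fg.2 (IsNoetherian.noetherian _)
    have hamp : DRing.HasTorAmplitudeIn A (-(d : ℤ)) 0 (Dual.inD A S.X₁) := by
      refine amp_shrink (b := 1) ?_
      have hf : DRing.HasTorAmplitudeIn A (-((d + 1 : ℕ) : ℤ) + 1) (0 + 1) (Dual.inD A S.X₂) :=
        Groth.L10.DR.amp_mono (a := 0) (b := 0) (show DRing.HasTorAmplitudeIn A 0 0 (Dual.inD A (Fin n → A)) from by
          simpa using (Groth.L10.DR.hasTorDimLE_iff_amp (A := A) (M := Fin n → A) 0).1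
            (Groth.L10.DR.hasTorDimLE_zero_iff.2 inferInstance)) (by omega) (by omega)
      have := Groth.L10.DR.amp_first _ hS.singleTriangle_distinguished hf h
      simpa [show -((d + 1 : ℕ) : ℤ) + 1 = -(d : ℤ) by omega] using this
    haveI := ih S.X₁ inferInstance hamp
    haveI : Module.Projective A S.X₂ := inferInstanceAs (Module.Projective A (Fin n → A))
    haveI : CategoryTheory.Projective S.X₂ := (IsProjective.iff_projective _).mp inferInstance
    exact hS.hasProjectiveDimensionLT_X₃ (d + 1) inferInstance inferInstance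

variable {R A : Type u} [CommRing R] [CommRing A] [IsNoetherianRing R] [IsNoetherianRing A] [Algebra R A]
  [Module.Flat R A] (n : ℕ) (ψ : MvPolynomial (Fin n) R →ₐ[R] A) (hψ : Function.Surjective ψ)
  [DRing.HasLBaseChange (algebraMap R (MvPolynomial (Fin n) R))]
  {Rψ : Dual.D (MvPolynomial (Fin n) R) ⥤ Dual.D A} (adj : DRing.restrictD ψ.toRingHom ⊣ Rψ)

include hψ adj in
theorem subsingleton_pos (i : ℤ) (hi : 0 < i) :
    Subsingleton (Dual.HD A (Dual2.shriekVia n Rψ (Dual.inD R R)) i) := by
  let P := MvPolynomial (Fin n) R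
  let Ares := RestrictAdj.ringRes ψ.toRingHom
  letI : Algebra P A := ψ.toRingHom.toAlgebra
  haveI : IsScalarTower R P A := IsScalarTower.of_algebraMap_eq fun r => (ψ.commutes r).symm
  have hfinres : Module.Finite P Ares := RestrictAdj.finite_ringRes _ hψ
  letI : Module R Ares := (inferInstance : Module R A)
  haveI : IsScalarTower R P Ares := ⟨fun r x (m : A) => by
    show ψ (r • x) * m = r • (ψ x * m)
    rw [map_smul, smul_mul_assoc]⟩
  have hamp : DRing.HasTorAmplitudeIn P (-(n : ℤ)) 0 (Dual.inD P Ares) := by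
    have h0 : DRing.HasTorAmplitudeIn R (-((0 : ℕ) : ℤ)) 0 (Dual.inD R Ares) :=
      (hasTorDimLE_iff_amp 0).1 (hasTorDimLE_zero_iff.2 (inferInstanceAs (Module.Flat R A)))
    simpa using Groth.L19.PerfectHom.amp_mvPolynomial n Ares 0 h0
  haveI := hasPD_of_amp n (ModuleCat.of P Ares) hfinres hamp
  haveI : Module.Flat R P := Module.Flat.of_free
  let K : Dual.D P := (DRing.LBaseChange (algebraMap R P)).obj (Dual.inD R R)
  let eK : K ≅ Dual.inD P P := (FlatBC.lbcIso (A := R) (B := P)).app _ ≪≫ FlatBC.singleL P R ≪≫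
    (DerivedCategory.singleFunctor (ModuleCat.{u} P) 0).mapIso (TensorProduct.AlgebraTensorModule.rid R P P).toModuleIso
  obtain ⟨j, hj⟩ := Int.eq_ofNat_of_zero_le (show 0 ≤ i + n by omega)
  obtain ⟨ρ, hρ⟩ := FibreVanish.exists_semilinear ψ.toRingHom adj K (i + n)
  let N : ModuleCat.{u} P := (ModuleCat.restrictScalars.{u} ψ.toRingHom).obj (ModuleCat.of A A)
  haveI : HasProjectiveDimensionLT N (n + 1) := ‹HasProjectiveDimensionLT (ModuleCat.of P Ares) (n + 1)›
  haveI : Subsingleton (Ext N (ModuleCat.of P P) j) :=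
    HasProjectiveDimensionLT.subsingleton (X := N) (n := n + 1) (i := j) (by omega) _
  haveI : Subsingleton (Dual.inD P N ⟶ K⟦i + (n : ℤ)⟧) := by
    haveI : Subsingleton (Dual.inD P N ⟶ (Dual.inD P P)⟦(j : ℤ)⟧) :=
      (Ext.homEquiv (X := N) (Y := ModuleCat.of P P) (n := j)).symm.subsingleton
    rw [hj]
    exact (Iso.homCongr (Iso.refl (Dual.inD P N)) ((shiftFunctor (Dual.D P) (j : ℤ)).mapIso eK)).subsingleton
  haveI : Subsingleton (Dual.HD A (Rψ.obj K) (i + n)) := hρ.surjective.subsingleton
  let eS : Dual.HD A (Dual2.shriekVia n Rψ (Dual.inD R R)) i ≃ₗ[A] Dual.HD A (Rψ.obj K) (i + n) :=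
    (((DerivedCategory.homologyFunctor (ModuleCat.{u} A) 0).shiftIso (n : ℤ) i (i + n) (by lia)).app
      (Rψ.obj K)).toLinearEquiv
  exact eS.toEquiv.subsingleton

include hψ adj in
theorem range (q : PrimeSpectrum A) (d : ℕ)
    (hd : FlatMor.fibreDimAt
      (AlgebraicGeometry.Spec.map (CommRingCat.ofHom (algebraMap R A))) q ≤ (d : WithBot ℕ∞)) (i : ℤ)
    (h : Nontrivial (LocalizedModule q.asIdeal.primeCompl
      (Dual.HD A (Dual2.shriekVia n Rψ (Dual.inD R R)) i))) : -(d : ℤ) ≤ i ∧ i ≤ 0 := by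
  refine ⟨FibreVanish.neg_fibreDim_le n ψ hψ adj q d hd i h, ?_⟩
  by_contra hi
  haveI := subsingleton_pos n ψ hψ adj i (by omega)
  exact false_of_nontrivial_of_subsingleton
    (LocalizedModule q.asIdeal.primeCompl (Dual.HD A (Dual2.shriekVia n Rψ (Dual.inD R R)) i))

/-- tensoring over the base is base change to the fibre -/
theorem isZero_tensor_of_bcCx {A B : Type u} [CommRing A] [CommRing B] [Algebra A B] {C : Type u} [CommRing C]
    (φ : B →+* C) (k : ModuleCat.{u} A) (e : letI := φ.toAlgebra; C ≃ₗ[B] B ⊗[A] k) (P : DRing.Cx B) (i : ℤ)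
    (h : IsZero (((bcCx φ).obj P).homology i)) :
    IsZero ((DRing.tensorCx (Groth.L20.TorAmp.res (A := A) P) k).homology i) := by
  let := φ.toAlgebra
  letI : ∀ j, Module A (P.X j) := fun j => Module.compHom (P.X j) (algebraMap A B)
  haveI : ∀ j, IsScalarTower A B (P.X j) := fun j => IsScalarTower.of_algebraMap_smul fun _ _ => rfl
  let g : ∀ j l : ℤ, P.X j →ₗ[A] P.X l := fun j l => (P.d j l).hom.restrictScalars A
  let E : ∀ j, (C ⊗[B] P.X j) ≃+ ((P.X j) ⊗[A] k) := fun j =>
    (TensorProduct.comm B C (P.X j)).toAddEquiv.trans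
      ((LinearEquiv.lTensor (P.X j) e).toAddEquiv.trans
        (TensorProduct.AlgebraTensorModule.cancelBaseChange A B B (P.X j) k).toAddEquiv)
  have hsq : ∀ (j l : ℤ) t, (g j l).rTensor k (E j t) = E l ((P.d j l).hom.lTensor C t) := by
    intro j l t
    induction t using TensorProduct.induction_on with
    | zero => simp
    | add u v hu hv => simp only [map_add, hu, hv]
    | tmul c x =>
      obtain ⟨w, rfl⟩ := e.symm.surjective c
      induction w using TensorProduct.induction_on with
      | zero => simp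
      | add u v hu hv => simp only [map_add, TensorProduct.add_tmul, hu, hv]
      | tmul b y => simp [E, g]
  have h1 : Function.Exact ((P.d (i - 1) i).hom.lTensor C) ((P.d i (i + 1)).hom.lTensor C) := fun x =>
    (isZero_homology_iff_exact ((bcCx φ).obj P) (i - 1) i (i + 1) (by omega) rfl).1 h x
  refine (tensor_exact_iff (Groth.L20.TorAmp.res (A := A) P) k (i - 1) i (i + 1) (by omega) rfl).2 ?_
  exact (Function.Exact.iff_of_ladder_addEquiv (E (i - 1)) (E i) (E (i + 1))
    (f₁₂ := ((P.d (i - 1) i).hom.lTensor C).toAddMonoidHom)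
    (f₂₃ := ((P.d i (i + 1)).hom.lTensor C).toAddMonoidHom)
    (g₁₂ := ((g (i - 1) i).rTensor k).toAddMonoidHom) (g₂₃ := ((g i (i + 1)).rTensor k).toAddMonoidHom)
    (AddMonoidHom.ext (hsq (i - 1) i)) (AddMonoidHom.ext (hsq i (i + 1)))).2 h1

/-- vanishing after tensoring with every residue field gives vanishing after tensoring with every module -/
theorem tz_of_residue {R : Type u} [CommRing R] [IsNoetherianRing R] (Z : DRing.Cx R) (hZ : DRing.TermwiseFlat Z)
    (a : ℤ) (h : ∀ (p : PrimeSpectrum R) (i : ℤ), i < a →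
      IsZero ((DRing.tensorCx Z (ModuleCat.of R p.asIdeal.ResidueField)).homology i)) :
    ∀ i : ℤ, i < a → TZ Z i := by
  intro i hi N
  let C : ℕ → ModuleCat.{u} R := fun j => Z.X (a - (j : ℤ))
  let d : ∀ j, C (j + 1) →ₗ[R] C j := fun j => (Z.d (a - ((j + 1 : ℕ) : ℤ)) (a - (j : ℤ))).hom
  haveI : ∀ j, Module.Flat R (C j) := fun j => hZ _
  have hd : ∀ j, d j ∘ₗ d (j + 1) = 0 := fun j => congrArg ModuleCat.Hom.hom (Z.d_comp_d _ _ _)
  have hex : ∀ (M : Type u) [AddCommGroup M] [Module R M] (j : ℕ),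
      IsZero ((DRing.tensorCx Z (ModuleCat.of R M)).homology (a - ((j + 1 : ℕ) : ℤ))) ↔
        ∀ z : M ⊗[R] C (j + 1), (d j).lTensor M z = 0 → ∃ w, (d (j + 1)).lTensor M w = z := by
    intro M _ _ j
    rw [tensor_exact_iff Z (ModuleCat.of R M) (a - ((j + 1 + 1 : ℕ) : ℤ)) (a - ((j + 1 : ℕ) : ℤ)) (a - (j : ℤ))
      (by push_cast; omega) (by push_cast; omega)]
    refine (Function.Exact.iff_of_ladder_linearEquiv (e₁ := TensorProduct.comm R (C (j + 1 + 1)) M)
      (e₂ := TensorProduct.comm R (C (j + 1)) M) (e₃ := TensorProduct.comm R (C j) M)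
      (g₁₂ := (d (j + 1)).lTensor M) (g₂₃ := (d j).lTensor M) ?_ ?_).symm.trans ⟨fun h z hz => (h z).1 hz,
        fun h z => ⟨h z, ?_⟩⟩
    · exact TensorProduct.ext' fun x y => rfl
    · exact TensorProduct.ext' fun x y => rfl
    · rintro ⟨w, rfl⟩
      exact Groth.L03.TorResidue.dd d hd j w
  have hE := Groth.L03.TorResidue.ex_of_residue d hd (n := 0) (fun p _ j _ =>
    (hex p.ResidueField j).1 (h ⟨p, inferInstance⟩ _ (by push_cast; omega))) N
  obtain ⟨j, hj⟩ : ∃ j : ℕ, i = a - ((j + 1 : ℕ) : ℤ) := ⟨(a - i - 1).toNat, by omega⟩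
  subst hj
  exact (hex N j).2 (hE j (Nat.zero_le _))

include hψ adj in
theorem amp (d : ℕ) (hdim : ∀ q : PrimeSpectrum A, FlatMor.fibreDimAt
      (AlgebraicGeometry.Spec.map (CommRingCat.ofHom (algebraMap R A))) q ≤ (d : WithBot ℕ∞)) :
    DRing.HasTorAmplitudeIn R (-(d : ℤ)) 0
      ((DRing.restrictD (algebraMap R A)).obj (Dual2.shriekVia n Rψ (Dual.inD R R))) := by
  let ω := Dual2.shriekVia n Rψ (Dual.inD R R)
  haveI hRA : Algebra.FiniteType R A := Algebra.FiniteType.of_surjective ψ hψ
  obtain ⟨Z, N, hZb, hZf, ⟨e⟩⟩ := Groth.L29.TorInj.pc'_of_finite ω 0 (fun i hi => subsingleton_pos n ψ hψ adj i hi)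
    (Groth.Agent.S1801.result R A n ψ hψ Rψ adj).2.1
  have hfree : ∀ i, Module.Free A (Z.X i) := fun i => (hZf i).2
  let eR : DRing.toD (Groth.L20.TorAmp.res (A := R) Z) ≅ (DRing.restrictD (algebraMap R A)).obj ω :=
    (Groth.L20.TorAmp.resIso (A := R) Z).symm ≪≫ (DRing.restrictD (algebraMap R A)).mapIso e
  have hresb : DRing.VanishesAbove (Groth.L20.TorAmp.res (A := R) Z) N := fun i hi =>
    Functor.map_isZero (ModuleCat.restrictScalars.{u} (algebraMap R A)) (hZb i hi)
  have hresf : DRing.TermwiseFlat (Groth.L20.TorAmp.res (A := R) Z) := fun i =>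
    haveI := hfree i; Groth.L20.TorAmp.flat_restrict (Z.X i)
  refine (amp_iff eR hresb hresf _ _).2 ⟨tz_of_residue _ hresf _ fun p i hi => ?_, fun i hi => ?_⟩
  · let k := p.asIdeal.ResidueField
    let A' := k ⊗[R] A
    let φ : A →+* A' := (Algebra.TensorProduct.includeRight (R := R) (A := k) (B := A)).toRingHom
    letI := φ.toAlgebra
    refine isZero_tensor_of_bcCx φ (ModuleCat.of R k) ?_ Z i ?_
    · refine (TensorProduct.comm R k A).toAddEquiv.toLinearEquiv fun c x => ?_
      show TensorProduct.comm R _ _ (φ c * x) = c • TensorProduct.comm R _ _ x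
      induction x using TensorProduct.induction_on with
      | zero => simp
      | add u v hu hv => simp_all [mul_add]
      | tmul y z =>
        show TensorProduct.comm R k A (((1 : k) ⊗ₜ[R] c) * (y ⊗ₜ[R] z)) = _
        rw [Algebra.TensorProduct.tmul_mul_tmul, one_mul]
        simp [TensorProduct.smul_tmul']
    haveI : IsNoetherianRing A' := Algebra.FiniteType.isNoetherianRing k A'
    obtain ⟨m, ψ', hψ'⟩ := Algebra.FiniteType.iff_quotient_mvPolynomial''.1
      (show Algebra.FiniteType k A' from inferInstance)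
    haveI := Groth.L10.KFlatLBC.hasLBaseChange (algebraMap k (MvPolynomial (Fin m) k))
    haveI := Groth.L10.KFlatLBC.hasLBaseChange (algebraMap R k)
    haveI := Groth.L10.KFlatLBC.hasLBaseChange φ
    obtain ⟨Rψ', ⟨adj'⟩⟩ := Groth.L10.Shriek.exists_rightAdjoint ψ'.toRingHom
    obtain ⟨e₁⟩ := Groth.Agent.S1807.result R k A n ψ hψ Rψ adj m ψ' hψ' Rψ' adj' (Dual.inD R R)
    obtain ⟨e₂⟩ := Groth.L10.Shriek.nonempty_lbc_inD (algebraMap R k)
    let e₃ : (DRing.LBaseChange (algebraMap R k)).obj (Dual.inD R R) ≅ Dual.inD k k :=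
      e₂ ≪≫ ((DerivedCategory.singleFunctorIsoCompQ (ModuleCat.{u} k) 0).app (ModuleCat.of k k)).symm
    let e₄ : DRing.toD ((bcCx φ).obj Z) ≅ Dual2.shriekVia m Rψ' (Dual.inD k k) :=
      (Groth.L10.KFlatLBC.lbcKF φ Z (Groth.L10.KFlat.of_bounded _ N hZb fun j => haveI := hfree j; inferInstance)).symm ≪≫
        (DRing.LBaseChange φ).mapIso e ≪≫ e₁ ≪≫
        (shiftFunctor (Dual.D A') (m : ℤ)).mapIso
          (Rψ'.mapIso ((DRing.LBaseChange (algebraMap k (MvPolynomial (Fin m) k))).mapIso e₃))
    haveI : Subsingleton (Dual.HD A' (Dual2.shriekVia m Rψ' (Dual.inD k k)) i) := by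
      by_contra hne
      obtain ⟨q, hq⟩ := (Module.nonempty_support_iff (R := A')
        (M := Dual.HD A' (Dual2.shriekVia m Rψ' (Dual.inD k k)) i)).2 (not_subsingleton_iff_nontrivial.1 hne)
      have hq' : FlatMor.fibreDimAt
          (AlgebraicGeometry.Spec.map (CommRingCat.ofHom (algebraMap k A'))) q ≤ (d : WithBot ℕ∞) := by
        haveI : AlgebraicGeometry.LocallyOfFiniteType
            (AlgebraicGeometry.Spec.map (CommRingCat.ofHom (algebraMap R A))) :=
          (AlgebraicGeometry.HasRingHomProperty.Spec_iff (P := @AlgebraicGeometry.LocallyOfFiniteType)).2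
            (RingHom.finiteType_algebraMap.2 hRA)
        have sq := (AlgebraicGeometry.isPullback_SpecMap_of_isPushout _ _ _ _
          (CommRingCat.isPushout_tensorProduct R k A)).flip
        exact (Groth.L23.fibreDimAt_of_isPullback sq q).le.trans (hdim _)
      have := FibreVanish.neg_fibreDim_le m ψ' hψ' adj' q d hq' i (Module.mem_support_iff.1 hq)
      omega
    refine (Groth.L02.PC.isZero_HH_Q_iff ((bcCx φ).obj Z) i).1 (IsZero.of_iso ?_ ((Groth.L02.PC.HH i).mapIso e₄))
    exact ModuleCat.isZero_of_subsingleton _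
  · haveI := subsingleton_pos n ψ hψ adj i hi
    exact ((ModuleCat.restrictScalars.{u} (algebraMap R A)).map_isZero (ModuleCat.isZero_of_subsingleton
      (ModuleCat.of A (Dual.HD A ω i)))).of_iso ((Groth.L29.ExactHomology.hIso
        (ModuleCat.restrictScalars.{u} (algebraMap R A)) i).app ω)

end Groth.L10.Shriek.FlatRange
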