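import Groth.Agent.L10.Shriek.FibreDepth
import Groth.Agent.L04.Depth
import Groth.Agent.L29.Dual.DualBC
import Groth.Agent.L29.Dual.SurjRes
import Groth.Prelude.Def_DualSh
import Mathlib.RingTheory.TensorProduct.Quotient
import Mathlib.Algebra.Homology.DerivedCategory.Ext.Linear

/-!
The relative dualizing complex vanishes below minus the fibre dimension.
-/

set_option autoImplicit false

universe u

open CategoryTheory CategoryTheory.Limits TensorProduct

attribute [local instance] HasDerivedCategory.standard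

set_option backward.defeqAttrib.useBackward true
set_option backward.isDefEq.respectTransparency false
set_option backward.isDefEq.respectTransparency.types false
set_option linter.style.haveILetI false

namespace Groth.L10.Shriek.FibreVanish

open Groth.L29 CategoryTheory.Abelian

/-- the semilinear bijection between the cohomology of a right adjoint and morphisms upstairs -/
theorem exists_semilinear {P A : Type u} [CommRing P] [CommRing A] (ψ : P →+* A)
    {F : Dual.D P ⥤ Dual.D A} (adj : DRing.restrictD ψ ⊣ F) (K : Dual.D P) (i : ℤ) :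
    ∃ ρ : (Dual.inD P ((ModuleCat.restrictScalars.{u} ψ).obj (ModuleCat.of A A)) ⟶ K⟦i⟧) →ₛₗ[ψ]
      Dual.HD A (F.obj K) i, Function.Bijective ρ := by
  let M : ModuleCat.{u} A := ModuleCat.of A A
  let e1 := (RestrictAdj.shiftLeft (Dual.inD P ((ModuleCat.restrictScalars.{u} ψ).obj M)) K i).trans
    (Linear.homCongr P (((DRing.restrictD ψ).commShiftIso (-i)).app _ ≪≫
      (shiftFunctor (Dual.D P) (-i)).mapIso (RestrictAdj.restrictSingle ψ M)).symm (Iso.refl K))
  let e2 := (RestrictAdj.shiftLeft (Dual.inD A M) (F.obj K) i).symm.trans (HomD.evalShiftEquiv (F.obj K) i)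
  refine ⟨{ toFun := fun x => e2 (adj.homEquiv _ _ (e1 x))
            map_add' := fun x y => by rw [map_add, RestrictAdj.homEquiv_add ψ adj, map_add]
            map_smul' := fun a x => by rw [map_smul, RestrictAdj.homEquiv_smul ψ adj, map_smul] }, ?_⟩
  exact e2.bijective.comp ((adj.homEquiv _ _).bijective.comp e1.bijective)

/-- maps out of a quotient into a free module of rank one vanish in degrees below the grade, after localizing -/
theorem exists_smul_hom_eq_zero {P : Type u} [CommRing P] [IsNoetherianRing P] (I : Ideal P) (Q : Ideal P) [Q.IsPrime]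
    (m : ℕ) (hm : (m : ℕ∞) ≤ LocCoh.idealDepth (I.map (algebraMap P (Localization.AtPrime Q))) (Localization.AtPrime Q))
    (i : ℤ) (hi : i < m) (x : Dual.inD P (P ⧸ I) ⟶ (Dual.inD P P)⟦i⟧) : ∃ s ∉ Q, s • x = 0 := by
  let B := Localization.AtPrime Q
  haveI : IsNoetherianRing B := IsLocalization.isNoetherianRing Q.primeCompl B inferInstance
  haveI : Module.Flat P B := IsLocalization.flat B Q.primeCompl
  let eI : B ⊗[P] (P ⧸ I) ≃ₗ[B] B ⧸ I.map (algebraMap P B) :=
    (Algebra.TensorProduct.quotIdealMapEquivTensorQuot B I).symm.toLinearEquiv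
  let eP : (FlatBC.L P B).obj (Dual.inD P P) ≅ Dual.inD B B :=
    FlatBC.singleL B P ≪≫ (DerivedCategory.singleFunctor (ModuleCat.{u} B) 0).mapIso
      (TensorProduct.AlgebraTensorModule.rid P B B).toModuleIso
  let eH : B ⊗[P] (Dual.inD P (P ⧸ I) ⟶ (Dual.inD P P)⟦i⟧) ≃ₗ[B]
      (Dual.inD B (B ⧸ I.map (algebraMap P B)) ⟶ (Dual.inD B B)⟦i⟧) :=
    (FlatBC.homEquiv (B := B) (W := Dual.inD P P) 0 (P ⧸ I) i).trans
      (Linear.homCongr B ((DerivedCategory.singleFunctor (ModuleCat.{u} B) 0).mapIso eI.toModuleIso)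
        ((shiftFunctor (Dual.D B) i).mapIso eP))
  haveI : Subsingleton (Dual.inD B (B ⧸ I.map (algebraMap P B)) ⟶ (Dual.inD B B)⟦i⟧) := by
    rcases lt_or_ge i 0 with hneg | hpos
    · haveI : DerivedCategory.IsGE ((Dual.inD B B)⟦i⟧) (-i) :=
        DerivedCategory.TStructure.t.isGE_shift (Dual.inD B B) 0 i (-i) (by lia)
      exact ⟨fun f g => by
        rw [DerivedCategory.TStructure.t.zero f 0 (-i) (by lia), DerivedCategory.TStructure.t.zero g 0 (-i) (by lia)]⟩
    · obtain ⟨j, rfl⟩ := Int.eq_ofNat_of_zero_le hpos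
      haveI : Subsingleton (Ext (ModuleCat.of B (B ⧸ I.map (algebraMap P B))) (ModuleCat.of B B) j) :=
        (Groth.L04.le_idealDepth_iff_extVanish m).1 hm j (by exact_mod_cast hi)
      exact (Ext.homEquiv (X := ModuleCat.of B (B ⧸ I.map (algebraMap P B))) (Y := ModuleCat.of B B)
        (n := j)).symm.subsingleton
  haveI : Subsingleton (B ⊗[P] (Dual.inD P (P ⧸ I) ⟶ (Dual.inD P P)⟦i⟧)) := eH.toEquiv.subsingleton
  haveI : IsLocalizedModule Q.primeCompl
      (TensorProduct.mk P B (Dual.inD P (P ⧸ I) ⟶ (Dual.inD P P)⟦i⟧) 1) :=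
    (isLocalizedModule_iff_isBaseChange Q.primeCompl B _).2 (TensorProduct.isBaseChange P _ B)
  obtain ⟨s, hs⟩ := (IsLocalizedModule.eq_zero_iff Q.primeCompl
    (TensorProduct.mk P B (Dual.inD P (P ⧸ I) ⟶ (Dual.inD P P)⟦i⟧) 1)).1
      (Subsingleton.elim _ (0 : B ⊗[P] (Dual.inD P (P ⧸ I) ⟶ (Dual.inD P P)⟦i⟧)))
  exact ⟨s.1, s.2, hs⟩

/-- the cohomology of `ω` below minus the fibre dimension vanishes near `q` -/
theorem neg_fibreDim_le {R A : Type u} [CommRing R] [CommRing A] [IsNoetherianRing R] [Algebra R A] (n : ℕ)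
    (ψ : MvPolynomial (Fin n) R →ₐ[R] A) (hψ : Function.Surjective ψ)
    [DRing.HasLBaseChange (algebraMap R (MvPolynomial (Fin n) R))]
    {Rψ : Dual.D (MvPolynomial (Fin n) R) ⥤ Dual.D A} (adj : DRing.restrictD ψ.toRingHom ⊣ Rψ)
    (q : PrimeSpectrum A) (d : ℕ)
    (hd : FlatMor.fibreDimAt
      (AlgebraicGeometry.Spec.map (CommRingCat.ofHom (algebraMap R A))) q ≤ (d : WithBot ℕ∞)) (i : ℤ)
    (h : Nontrivial (LocalizedModule q.asIdeal.primeCompl
      (Dual.HD A (Dual2.shriekVia n Rψ (Dual.inD R R)) i))) : -(d : ℤ) ≤ i := by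
  by_contra hlt
  obtain ⟨q', hqq, hdep⟩ := FibreDepth.exists_prime_idealDepth ψ hψ q d hd
  let P := MvPolynomial (Fin n) R
  let I : Ideal P := RingHom.ker ψ.toRingHom
  haveI : Module.Flat R P := Module.Flat.of_free
  let K : Dual.D P := (DRing.LBaseChange (algebraMap R P)).obj (Dual.inD R R)
  let eK : K ≅ Dual.inD P P := (FlatBC.lbcIso (A := R) (B := P)).app _ ≪≫ FlatBC.singleL P R ≪≫
    (DerivedCategory.singleFunctor (ModuleCat.{u} P) 0).mapIso (TensorProduct.AlgebraTensorModule.rid R P P).toModuleIso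
  have hker : ∀ x, x ∈ I ↔ ψ x = 0 := fun x => RingHom.mem_ker
  let eA : (P ⧸ I) ≃ₗ[P] (ModuleCat.restrictScalars.{u} ψ.toRingHom).obj (ModuleCat.of A A) :=
    LinearEquiv.ofBijective
      (Submodule.liftQ I
        ({ toFun := fun x => (ψ x : A), map_add' := map_add ψ, map_smul' := fun a x => map_mul ψ a x } :
          P →ₗ[P] (ModuleCat.restrictScalars.{u} ψ.toRingHom).obj (ModuleCat.of A A))
        fun x hx => (hker x).1 hx)
      ⟨fun x y h => by
        obtain ⟨x, rfl⟩ := Submodule.Quotient.mk_surjective _ x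
        obtain ⟨y, rfl⟩ := Submodule.Quotient.mk_surjective _ y
        exact (Submodule.Quotient.eq _).2 ((hker _).2 (by
          rw [map_sub, sub_eq_zero]
          exact h)),
      fun a => (hψ a).elim fun x hx => ⟨Submodule.Quotient.mk x, hx⟩⟩
  obtain ⟨ρ, hρ⟩ := exists_semilinear ψ.toRingHom adj K (i + n)
  let e := Linear.homCongr P ((DerivedCategory.singleFunctor (ModuleCat.{u} P) 0).mapIso eA.toModuleIso)
    ((shiftFunctor (Dual.D P) (i + n)).mapIso eK.symm)
  let eS : Dual.HD A (Dual2.shriekVia n Rψ (Dual.inD R R)) i ≃ₗ[A] Dual.HD A (Rψ.obj K) (i + n) :=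
    (((DerivedCategory.homologyFunctor (ModuleCat.{u} A) 0).shiftIso (n : ℤ) i (i + n) (by lia)).app
      (Rψ.obj K)).toLinearEquiv
  haveI := h
  refine not_subsingleton _ (LocalizedModule.subsingleton_iff.2 fun y => ?_ :
    Subsingleton (LocalizedModule q.asIdeal.primeCompl (Dual.HD A (Dual2.shriekVia n Rψ (Dual.inD R R)) i)))
  obtain ⟨z, hz⟩ := hρ.2 (eS y)
  obtain ⟨s, hs, hsx⟩ := exists_smul_hom_eq_zero I (q'.asIdeal.comap ψ.toRingHom) (n - d) hdep (i + n)
    (by omega) (e.symm z)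
  refine ⟨ψ s, fun h => hs (hqq h), eS.injective ?_⟩
  rw [map_smul, map_zero, ← hz]
  show ψ.toRingHom s • ρ z = 0
  rw [← LinearMap.map_smulₛₗ]
  have : s • z = 0 := e.symm.injective (by rw [map_smul, hsx, map_zero])
  rw [this, map_zero]

end Groth.L10.Shriek.FibreVanish
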