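import Groth.Agent.L03.HomDepth
import Groth.Agent.L04.CMBasic
import Mathlib.Algebra.Homology.DerivedCategory.Ext.Linear
import Mathlib.RingTheory.Regular.RegularSequence

/-!
The first non-vanishing Ext group at the grade, as a Hom into the quotient by a regular sequence.
-/

set_option autoImplicit false

universe u

open CategoryTheory RingTheory.Sequence Abelian
open scoped Pointwise

set_option backward.isDefEq.respectTransparency false

namespace Groth.L10.Shriek.GradeHom

variable {R : Type u} [CommRing R]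

/-- `Ext^c(N, M) = Hom(N, M/fM)` for a regular sequence of length `c` killing `N` -/
theorem nonempty_ext_equiv_hom (N : ModuleCat.{u} R) :
    ∀ (rs : List R) (M : ModuleCat.{u} R), IsWeaklyRegular M rs → (∀ a ∈ rs, a ∈ Module.annihilator R N) →
      Nonempty (Ext N M rs.length ≃ₗ[R] (N →ₗ[R] (M ⧸ Ideal.ofList rs • (⊤ : Submodule R M)))) := by
  intro rs
  induction rs with
  | nil =>
    intro M _ _
    refine ⟨Ext.linearEquiv₀ ≪≫ₗ ModuleCat.homLinearEquiv ≪≫ₗ LinearEquiv.congrRight ?_⟩
    exact (Submodule.quotEquivOfEqBot _ (by rw [Ideal.ofList_nil, Submodule.bot_smul])).symm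
  | cons a rs ih =>
    intro M hM hann
    rw [isWeaklyRegular_cons_iff] at hM
    rw [List.forall_mem_cons] at hann
    obtain ⟨e⟩ := ih (ModuleCat.of R (QuotSMulTop a M)) hM.2 hann.2
    have hS := hM.1.smulShortComplex_shortExact
    let δ : Ext N (ModuleCat.of R (QuotSMulTop a M)) rs.length →ₗ[R] Ext N M (rs.length + 1) :=
      Ext.postcompOfLinear hS.extClass R N rfl
    have hz : ∀ (i : ℕ) (x : Ext N M i), a • x = 0 := fun i x => by
      have h0 : a • (𝟙 N) = 0 := ModuleCat.hom_ext (LinearMap.ext fun y =>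
        (Module.mem_annihilator.1 hann.1 y : a • y = 0))
      rw [← Ext.mk₀_id_comp x, ← Ext.smul_comp, ← Ext.mk₀_smul, h0, Ext.mk₀_zero, Ext.zero_comp]
    have hvan : Subsingleton (Ext N M rs.length) := by
      refine Groth.L04.subsingleton_ext_of_weaklyRegular (I := Ideal.ofList (a :: rs)) N (k := 1) ?_
        (a :: rs) M ((isWeaklyRegular_cons_iff M a rs).2 hM) (fun r hr => Ideal.subset_span hr) rs.length (by simp)
      rw [pow_one, eq_bot_iff, Submodule.smul_le]
      intro r hr y _
      have : Ideal.ofList (a :: rs) ≤ Module.annihilator R N :=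
        Ideal.span_le.2 fun b hb => by
          rcases List.mem_cons.1 hb with rfl | hb
          · exact hann.1
          · exact hann.2 b hb
      exact (Submodule.mem_bot R).2 (Module.mem_annihilator.1 (this hr) y)
    have hinj : Function.Injective δ := fun x y hxy => by
      have h := (ShortComplex.ab_exact_iff _).1 (Ext.covariant_sequence_exact₃' N hS rs.length (rs.length + 1) rfl)
        (x - y) (by show δ (x - y) = 0; rw [map_sub, hxy, sub_self])
      obtain ⟨z, hz'⟩ := h
      rw [Subsingleton.elim (α := Ext N M rs.length) z 0, map_zero] at hz'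
      exact sub_eq_zero.1 hz'.symm
    have hsurj : Function.Surjective δ := fun x => by
      refine (ShortComplex.ab_exact_iff _).1 (Ext.covariant_sequence_exact₁' N hS rs.length (rs.length + 1) rfl) x ?_
      show x.comp (Ext.mk₀ (ModuleCat.smulShortComplex M a).f) (add_zero _) = 0
      rw [ModuleCat.smulShortComplex_f_eq_smul_id, ← Ext.smul_eq_comp_mk₀]
      exact hz _ x
    exact ⟨(LinearEquiv.ofBijective δ ⟨hinj, hsurj⟩).symm ≪≫ₗ e ≪≫ₗ
      LinearEquiv.congrRight (Submodule.quotOfListConsSMulTopEquivQuotSMulTopInner M a rs).symm⟩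

variable [IsNoetherianRing R] [IsLocalRing R]

/-- `Hom(N, C)` into a Cohen–Macaulay module satisfies `min(2, dim) ≤ depth` -/
theorem min_two_le_depth_hom (N C : Type u) [AddCommGroup N] [Module R N] [Module.Finite R N]
    [AddCommGroup C] [Module R C] [Module.Finite R C] (hC : LocCoh.IsCohenMacaulayModule R C) :
    min (2 : WithBot ℕ∞) (Module.supportDim R (N →ₗ[R] C)) ≤
      ((LocCoh.depth R (N →ₗ[R] C) : ℕ∞) : WithBot ℕ∞) := by
  obtain ⟨h1, h2⟩ := Groth.L03.HomDepth.depth_hom (R := R) C N
  obtain ⟨m, f, hf⟩ := Module.Finite.exists_fin' R N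
  have hsub : Module.support R (N →ₗ[R] C) ⊆ Module.support R C := fun P hP => by
    obtain ⟨φ, hφ⟩ := Module.mem_support_iff'.1 hP
    rw [Module.mem_support_iff']
    by_contra hne
    push Not at hne
    choose s hs using hne
    refine hφ (∏ i, s (φ (f (Pi.single i 1)))) (fun hmem => ?_) (LinearMap.ext fun y => ?_)
    · obtain ⟨i, -, hi⟩ := (Ideal.IsPrime.prod_mem_iff (p := P.asIdeal)).1 hmem
      exact (hs (φ (f (Pi.single i 1)))).1 hi
    · obtain ⟨c, rfl⟩ := hf y
      rw [pi_eq_sum_univ' c, map_sum, map_sum, LinearMap.zero_apply]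
      refine Finset.sum_eq_zero fun i _ => ?_
      rw [map_smul, map_smul, LinearMap.smul_apply]
      obtain ⟨t, ht⟩ : s (φ (f (Pi.single i 1))) ∣ ∏ i, s (φ (f (Pi.single i 1))) :=
        Finset.dvd_prod_of_mem _ (Finset.mem_univ i)
      rw [ht, mul_comm _ t, mul_smul, (hs _).2, smul_zero, smul_zero]
  have hd : Module.supportDim R (N →ₗ[R] C) ≤ ((LocCoh.depth R C : ℕ∞) : WithBot ℕ∞) :=
    (Order.krullDim_le_of_strictMono (fun x => ⟨x.1, hsub x.2⟩) fun a b h => h :
      Module.supportDim R (N →ₗ[R] C) ≤ Module.supportDim R C).trans hC.le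
  rcases le_or_gt 2 (LocCoh.depth R C) with hc | hc
  · exact (min_le_left _ _).trans (WithBot.coe_le_coe.2 (h2 hc))
  rcases eq_or_ne (LocCoh.depth R C) 0 with h0 | h0
  · refine ((min_le_right _ _).trans hd).trans ?_
    rw [h0]
    simp
  · have he : LocCoh.depth R C ≤ 1 := Order.le_of_lt_add_one (by rwa [one_add_one_eq_two])
    exact ((min_le_right _ _).trans hd).trans (WithBot.coe_le_coe.2
      (he.trans (h1 (Order.one_le_iff_ne_zero.2 h0))))

end Groth.L10.Shriek.GradeHom
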