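import Groth.Agent.L10.Shriek.CMHeight
import Groth.Agent.L10.Shriek.GradeHom
import Groth.Agent.L10.Shriek.FibreVanish
import Groth.Agent.L12.FiltReesPunct
import Mathlib.RingTheory.Localization.Ideal

/-!
The relative dualizing complex over a Cohen–Macaulay base: lowest degree and (S₂).
-/

set_option autoImplicit false

universe u

open CategoryTheory CategoryTheory.Limits TensorProduct AlgebraicGeometry

attribute [local instance] HasDerivedCategory.standard

set_option backward.defeqAttrib.useBackward true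
set_option backward.isDefEq.respectTransparency false
set_option backward.isDefEq.respectTransparency.types false
set_option linter.style.haveILetI false

namespace Groth.L10.Shriek.CMShriek

open Groth.L29 CategoryTheory.Abelian RingTheory.Sequence

/-- maps out of `P/I` into a shift of `P` -/
abbrev Hom' (P : Type u) [CommRing P] (I : Ideal P) (m : ℤ) : Type (u + 1) :=
  Dual.inD P (P ⧸ I) ⟶ (Dual.inD P P)⟦m⟧

/-- the cohomology of `ω` as maps out of `P/I` -/
theorem exists_hom_semilinear {R A : Type u} [CommRing R] [CommRing A] [Algebra R A] (n : ℕ)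
    (ψ : MvPolynomial (Fin n) R →ₐ[R] A) (hψ : Function.Surjective ψ)
    [DRing.HasLBaseChange (algebraMap R (MvPolynomial (Fin n) R))]
    {Rψ : Dual.D (MvPolynomial (Fin n) R) ⥤ Dual.D A} (adj : DRing.restrictD ψ.toRingHom ⊣ Rψ) (i : ℤ) :
    ∃ σ : Hom' (MvPolynomial (Fin n) R) (RingHom.ker ψ.toRingHom) (i + n) →ₛₗ[ψ.toRingHom]
      Dual.HD A (Dual2.shriekVia n Rψ (Dual.inD R R)) i, Function.Bijective σ := by
  let P := MvPolynomial (Fin n) R
  let I : Ideal P := RingHom.ker ψ.toRingHom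
  haveI : Module.Flat R P := Module.Flat.of_free
  let K : Dual.D P := (DRing.LBaseChange (algebraMap R P)).obj (Dual.inD R R)
  let eK : K ≅ Dual.inD P P := (FlatBC.lbcIso (A := R) (B := P)).app _ ≪≫ FlatBC.singleL P R ≪≫
    (DerivedCategory.singleFunctor (ModuleCat.{u} P) 0).mapIso (TensorProduct.AlgebraTensorModule.rid R P P).toModuleIso
  have hker : ∀ x, x ∈ I ↔ ψ x = 0 := fun x => RingHom.mem_ker
  let eA : (P ⧸ I) ≃ₗ[P] (ModuleCat.restrictScalars.{u} ψ.toRingHom).obj (ModuleCat.of A A) :=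
    LinearEquiv.ofBijective
      (Submodule.liftQ I
        ({ toFun := fun x => (ψ x : A), map_add' := map_add ψ, map_smul' := fun a x => map_mul ψ a x } :
          P →ₗ[P] (ModuleCat.restrictScalars.{u} ψ.toRingHom).obj (ModuleCat.of A A))
        fun x hx => (hker x).1 hx)
      ⟨fun x y h => by
        obtain ⟨x, rfl⟩ := Submodule.Quotient.mk_surjective _ x
        obtain ⟨y, rfl⟩ := Submodule.Quotient.mk_surjective _ y
        exact (Submodule.Quotient.eq _).2 ((hker _).2 (by
          rw [map_sub, sub_eq_zero]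
          exact h)),
      fun a => (hψ a).elim fun x hx => ⟨Submodule.Quotient.mk x, hx⟩⟩
  obtain ⟨ρ, hρ⟩ := FibreVanish.exists_semilinear ψ.toRingHom adj K (i + n)
  let e := Linear.homCongr P ((DerivedCategory.singleFunctor (ModuleCat.{u} P) 0).mapIso eA.toModuleIso)
    ((shiftFunctor (Dual.D P) (i + n)).mapIso eK.symm)
  let eS : Dual.HD A (Dual2.shriekVia n Rψ (Dual.inD R R)) i ≃ₗ[A] Dual.HD A (Rψ.obj K) (i + n) :=
    (((DerivedCategory.homologyFunctor (ModuleCat.{u} A) 0).shiftIso (n : ℤ) i (i + n) (by lia)).app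
      (Rψ.obj K)).toLinearEquiv
  exact ⟨{ toFun := fun x => eS.symm (ρ (e x))
           map_add' := fun x y => by rw [map_add, map_add, map_add]
           map_smul' := fun a x => by rw [map_smul, LinearMap.map_smulₛₗ, map_smul] },
    eS.symm.bijective.comp (hρ.comp e.bijective)⟩

variable {R : Type u} [CommRing R] (n : ℕ)

/-- polynomial rings are Cohen–Macaulay over a Cohen–Macaulay point -/
theorem cm_at (p : Ideal R) [p.IsPrime] [LocCoh.IsCohenMacaulayLocalRing (Localization.AtPrime p)]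
    (Q : Ideal (MvPolynomial (Fin n) R)) [Q.IsPrime] (hQ : Q.comap (algebraMap R _) ≤ p) :
    LocCoh.IsCohenMacaulayLocalRing (Localization.AtPrime Q) := by
  let B := Localization.AtPrime p
  haveI := Groth.L04.isCohenMacaulayRing_of_local B
  haveI := Groth.Agent.S2092.result (R := B) n
  let M := p.primeCompl.map (MvPolynomial.C (σ := Fin n))
  letI : Algebra (MvPolynomial (Fin n) R) (MvPolynomial (Fin n) B) := MvPolynomial.algebraMvPolynomial
  haveI : IsLocalization M (MvPolynomial (Fin n) B) := MvPolynomial.isLocalization p.primeCompl B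
  have disj : Disjoint (M : Set (MvPolynomial (Fin n) R)) (Q : Set (MvPolynomial (Fin n) R)) := by
    refine Set.disjoint_left.2 ?_
    rintro _ ⟨a, ha, rfl⟩ haQ
    exact ha (hQ haQ)
  let Q' := Q.map (algebraMap (MvPolynomial (Fin n) R) (MvPolynomial (Fin n) B))
  haveI : Q'.IsPrime := IsLocalization.isPrime_of_isPrime_disjoint M _ _ ‹_› disj
  have hcomap : Q'.comap (algebraMap (MvPolynomial (Fin n) R) (MvPolynomial (Fin n) B)) = Q :=
    IsLocalization.comap_map_of_isPrime_disjoint M _ ‹Q.IsPrime› disj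
  have key : ∀ (J : Ideal (MvPolynomial (Fin n) R)) (hJp : J.IsPrime), J = Q →
      LocCoh.IsCohenMacaulayLocalRing (@Localization.AtPrime _ _ J hJp) →
      LocCoh.IsCohenMacaulayLocalRing (Localization.AtPrime Q) := by
    rintro J hJp rfl hJ
    exact hJ
  exact key _ _ hcomap ((Groth.L12.FiltReesExt.cm_loc_iff M Q').2
    (LocCoh.IsCohenMacaulayRing.isCohenMacaulayLocalRing_localization Q'))

variable [IsNoetherianRing R] {A : Type u} [CommRing A] [Algebra R A]

/-- the grade of the kernel near a prime over a Cohen–Macaulay point -/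
theorem grade_ge (ψ : MvPolynomial (Fin n) R →ₐ[R] A) (hψ : Function.Surjective ψ) (p : Ideal R) [p.IsPrime]
    [LocCoh.IsCohenMacaulayLocalRing (Localization.AtPrime p)] (r : ℕ)
    (hr : ∀ q : PrimeSpectrum A, q.asIdeal ∈ minimalPrimes A →
      Dual3.resTrdeg (Spec.map (CommRingCat.ofHom (algebraMap R A))) q ≤ (r : Cardinal.{u}))
    (Q : Ideal (MvPolynomial (Fin n) R)) [Q.IsPrime] (hI : RingHom.ker ψ.toRingHom ≤ Q)
    (hQ : Q.comap (algebraMap R _) ≤ p) :
    ((n - r : ℕ) : ℕ∞) ≤ LocCoh.idealDepth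
      ((RingHom.ker ψ.toRingHom).map (algebraMap _ (Localization.AtPrime Q))) (Localization.AtPrime Q) := by
  let B := Localization.AtPrime Q
  let J := (RingHom.ker ψ.toRingHom).map (algebraMap (MvPolynomial (Fin n) R) B)
  haveI := cm_at n p Q hQ
  haveI := Groth.L04.isCohenMacaulayRing_of_local B
  have hJ : J ≠ ⊤ := by
    refine ne_top_of_le_ne_top (IsLocalRing.maximalIdeal.isMaximal B).ne_top ?_
    rw [← IsLocalization.AtPrime.map_eq_maximalIdeal Q B]
    exact Ideal.map_mono hI
  show _ ≤ LocCoh.idealDepth J B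
  rw [Groth.L04.isCohenMacaulayRing_iff_height.1 inferInstance J hJ]
  refine (CMHeight.height_ge_of_minimal ψ hψ r hr).trans ?_
  rw [J.height_eq_inf_minimalPrimes]
  refine le_iInf₂ fun Z hZ => ?_
  haveI := hZ.isPrime
  rw [← IsLocalization.height_comap Q.primeCompl Z]
  exact Ideal.height_mono (Ideal.map_le_iff_le_comap.1 hZ.1.2)

/-- vanishing below minus `r` -/
theorem subsingleton_below (ψ : MvPolynomial (Fin n) R →ₐ[R] A) (hψ : Function.Surjective ψ)
    [DRing.HasLBaseChange (algebraMap R (MvPolynomial (Fin n) R))]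
    {Rψ : Dual.D (MvPolynomial (Fin n) R) ⥤ Dual.D A} (adj : DRing.restrictD ψ.toRingHom ⊣ Rψ)
    (p : Ideal R) [p.IsPrime] [LocCoh.IsCohenMacaulayLocalRing (Localization.AtPrime p)] (r : ℕ)
    (hr : ∀ q : PrimeSpectrum A, q.asIdeal ∈ minimalPrimes A →
      Dual3.resTrdeg (Spec.map (CommRingCat.ofHom (algebraMap R A))) q ≤ (r : Cardinal.{u}))
    (i : ℤ) (hi : i < -(r : ℤ)) :
    Subsingleton (LocalizedModule (Algebra.algebraMapSubmonoid A p.primeCompl)
      (Dual.HD A (Dual2.shriekVia n Rψ (Dual.inD R R)) i)) := by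
  let S := Algebra.algebraMapSubmonoid A p.primeCompl
  refine LocalizedModule.subsingleton_iff.2 fun y => ?_
  by_contra hno
  push Not at hno
  let ann : Ideal A := LinearMap.ker (LinearMap.toSpanSingleton A _ y)
  obtain ⟨q, hq, hle, hdisj⟩ := Ideal.exists_le_prime_disjoint ann S
    (Set.disjoint_left.2 fun s hs hsS => hno s hsS hs)
  haveI := hq
  let Q := q.comap ψ.toRingHom
  have hQ : Q.comap (algebraMap R (MvPolynomial (Fin n) R)) ≤ p := fun a ha => by
    by_contra hap
    refine Set.disjoint_left.1 hdisj (show algebraMap R A a ∈ q from ?_) ⟨a, hap, rfl⟩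
    rw [← ψ.commutes a]
    exact ha
  obtain ⟨σ, hσ⟩ := exists_hom_semilinear n ψ hψ adj i
  obtain ⟨z, rfl⟩ := hσ.2 y
  obtain ⟨s, hs, hsz⟩ := FibreVanish.exists_smul_hom_eq_zero (RingHom.ker ψ.toRingHom) Q (n - r)
    (grade_ge n ψ hψ p r hr Q (Ideal.comap_mono bot_le) hQ) (i + n) (by omega) z
  refine hs (hle ?_)
  show ψ.toRingHom s • σ z = 0
  rw [← LinearMap.map_smulₛₗ, hsz, map_zero]

/-- `min(2, dim) ≤ depth` for the base changed first non-vanishing Ext -/
theorem min_two_le_depth_hom' {P : Type u} [CommRing P] [IsNoetherianRing P] (I : Ideal P) (Q : Ideal P)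
    [Q.IsPrime] (hI : I ≤ Q) [LocCoh.IsCohenMacaulayLocalRing (Localization.AtPrime Q)] (c : ℕ)
    (hc : (c : ℕ∞) ≤ LocCoh.idealDepth (I.map (algebraMap P (Localization.AtPrime Q))) (Localization.AtPrime Q))
    (m : ℤ) (hm : m ≤ c) (hm' : 0 ≤ m → m = c) :
    ∃ (H : Type u) (_ : AddCommGroup H) (_ : Module (Localization.AtPrime Q) H),
      Module.Finite (Localization.AtPrime Q) H ∧
      Nonempty ((Localization.AtPrime Q) ⊗[P] Hom' P I m ≃ₗ[Localization.AtPrime Q] H) ∧
      min (2 : WithBot ℕ∞) (Module.supportDim (Localization.AtPrime Q) H) ≤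
        ((LocCoh.depth (Localization.AtPrime Q) H : ℕ∞) : WithBot ℕ∞) := by
  let B := Localization.AtPrime Q
  haveI : IsNoetherianRing B := IsLocalization.isNoetherianRing Q.primeCompl B inferInstance
  haveI : Module.Flat P B := IsLocalization.flat B Q.primeCompl
  let J := I.map (algebraMap P B)
  let eI : B ⊗[P] (P ⧸ I) ≃ₗ[B] B ⧸ J :=
    (Algebra.TensorProduct.quotIdealMapEquivTensorQuot B I).symm.toLinearEquiv
  let eP : (FlatBC.L P B).obj (Dual.inD P P) ≅ Dual.inD B B :=
    FlatBC.singleL B P ≪≫ (DerivedCategory.singleFunctor (ModuleCat.{u} B) 0).mapIso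
      (TensorProduct.AlgebraTensorModule.rid P B B).toModuleIso
  let eH : B ⊗[P] Hom' P I m ≃ₗ[B] (Dual.inD B (B ⧸ J) ⟶ (Dual.inD B B)⟦m⟧) :=
    (FlatBC.homEquiv (B := B) (W := Dual.inD P P) 0 (P ⧸ I) m).trans
      (Linear.homCongr B ((DerivedCategory.singleFunctor (ModuleCat.{u} B) 0).mapIso eI.toModuleIso)
        ((shiftFunctor (Dual.D B) m).mapIso eP))
  rcases lt_or_ge m 0 with hneg | hpos
  · haveI : DerivedCategory.IsGE ((Dual.inD B B)⟦m⟧) (-m) :=
      DerivedCategory.TStructure.t.isGE_shift (Dual.inD B B) 0 m (-m) (by lia)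
    haveI : Subsingleton (Dual.inD B (B ⧸ J) ⟶ (Dual.inD B B)⟦m⟧) := ⟨fun f g => by
      rw [DerivedCategory.TStructure.t.zero f 0 (-m) (by lia), DerivedCategory.TStructure.t.zero g 0 (-m) (by lia)]⟩
    refine ⟨PUnit, inferInstance, inferInstance, inferInstance,
      ⟨eH ≪≫ₗ (0 : (Dual.inD B (B ⧸ J) ⟶ (Dual.inD B B)⟦m⟧) ≃ₗ[B] PUnit)⟩, ?_⟩
    rw [(Module.supportDim_eq_bot_iff_subsingleton _ _).2 inferInstance]
    simp
  · obtain rfl := hm' hpos
    have hJm : J ≤ IsLocalRing.maximalIdeal B := by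
      rw [← IsLocalization.AtPrime.map_eq_maximalIdeal Q B]
      exact Ideal.map_mono hI
    obtain ⟨rs, rfl, hrs, hmem⟩ := Groth.L04.exists_of_le_idealDepth
      (M := B) (I := J) (by
        rw [smul_eq_mul, Ideal.mul_top]
        exact ne_top_of_le_ne_top (IsLocalRing.maximalIdeal.isMaximal B).ne_top hJm) hc
    obtain ⟨e⟩ := GradeHom.nonempty_ext_equiv_hom (ModuleCat.of B (B ⧸ J)) rs (ModuleCat.of B B) hrs
      (fun a ha => by
        show a ∈ Module.annihilator B (B ⧸ J)
        rw [Ideal.annihilator_quotient]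
        exact hmem a ha)
    refine ⟨(B ⧸ J) →ₗ[B] (B ⧸ Ideal.ofList rs • (⊤ : Submodule B B)), inferInstance, inferInstance, inferInstance,
      ⟨eH ≪≫ₗ (Ext.homLinearEquiv (R := B) (X := ModuleCat.of B (B ⧸ J)) (Y := ModuleCat.of B B)
        (n := rs.length)).symm ≪≫ₗ e⟩, ?_⟩
    exact GradeHom.min_two_le_depth_hom (B ⧸ J) _ (Groth.L04.isCohenMacaulayModule_quotient_ofList
      (M := B) (LocCoh.IsCohenMacaulayLocalRing.supportDim_eq_depth (R := B)) hrs fun a ha => hJm (hmem a ha))

/-- support dimension and depth along a surjection -/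
theorem transfer {B T : Type u} [CommRing B] [IsLocalRing B] [IsNoetherianRing B] [CommRing T] [IsLocalRing T]
    [Algebra B T] (hsurj : Function.Surjective (algebraMap B T)) (X : Type u) [AddCommGroup X] [Module B X]
    [Module T X] [IsScalarTower B T X] [Module.Finite B X] :
    Module.supportDim T X = Module.supportDim B X ∧ LocCoh.depth T X = LocCoh.depth B X := by
  haveI : Module.Finite T X := Module.Finite.of_restrictScalars_finite B T X
  haveI : Module.Finite B T := Module.Finite.of_surjective (Algebra.linearMap B T) hsurj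
  constructor
  · rw [Module.supportDim_eq_ringKrullDim_quotient_annihilator,
      Module.supportDim_eq_ringKrullDim_quotient_annihilator]
    let g : B →+* T ⧸ Module.annihilator T X := (Ideal.Quotient.mk _).comp (algebraMap B T)
    have hg : RingHom.ker g = Module.annihilator B X := by
      ext b
      rw [RingHom.mem_ker, Module.mem_annihilator]
      show Ideal.Quotient.mk _ (algebraMap B T b) = 0 ↔ _
      rw [Ideal.Quotient.eq_zero_iff_mem, Module.mem_annihilator]
      simp only [algebraMap_smul]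
    exact (ringKrullDim_eq_of_ringEquiv ((Ideal.quotEquivOfEq hg.symm).trans
      (RingHom.quotientKerEquivOfSurjective (Ideal.Quotient.mk_surjective.comp hsurj)))).symm
  · show LocCoh.idealDepth (IsLocalRing.maximalIdeal T) X = LocCoh.idealDepth (IsLocalRing.maximalIdeal B) X
    rw [Groth.L04.idealDepth_eq_idealDepth_map_of_finite (B := T) (IsLocalRing.maximalIdeal B) X,
      IsLocalRing.map_maximalIdeal_of_surjective _ hsurj]

/-- (S₂) in degree `-r` -/
theorem hasSk_two (ψ : MvPolynomial (Fin n) R →ₐ[R] A) (hψ : Function.Surjective ψ)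
    [DRing.HasLBaseChange (algebraMap R (MvPolynomial (Fin n) R))]
    {Rψ : Dual.D (MvPolynomial (Fin n) R) ⥤ Dual.D A} (adj : DRing.restrictD ψ.toRingHom ⊣ Rψ)
    (p : Ideal R) [p.IsPrime] [LocCoh.IsCohenMacaulayLocalRing (Localization.AtPrime p)] (r : ℕ)
    (hr : ∀ q : PrimeSpectrum A, q.asIdeal ∈ minimalPrimes A →
      Dual3.resTrdeg (Spec.map (CommRingCat.ofHom (algebraMap R A))) q ≤ (r : Cardinal.{u})) :
    LocCoh.HasSk 2 (Localization (Algebra.algebraMapSubmonoid A p.primeCompl))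
      (LocalizedModule (Algebra.algebraMapSubmonoid A p.primeCompl)
        (Dual.HD A (Dual2.shriekVia n Rψ (Dual.inD R R)) (-(r : ℤ)))) := by
  let P := MvPolynomial (Fin n) R
  let I : Ideal P := RingHom.ker ψ.toRingHom
  let S := Algebra.algebraMapSubmonoid A p.primeCompl
  let T := Localization S
  let M := Dual.HD A (Dual2.shriekVia n Rψ (Dual.inD R R)) (-(r : ℤ))
  intro w _
  let Tw := Localization.AtPrime w
  let X := LocalizedModule w.primeCompl (LocalizedModule S M)
  let q : Ideal A := w.comap (algebraMap A T)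
  let Q : Ideal P := q.comap ψ.toRingHom
  let B := Localization.AtPrime Q
  haveI : IsLocalization.AtPrime Tw q :=
    IsLocalization.isLocalization_isLocalization_atPrime_isLocalization S Tw w
  have hQ : Q.comap (algebraMap R P) ≤ p := fun a ha => by
    by_contra hap
    refine (Ideal.IsPrime.ne_top ‹w.IsPrime›) (Ideal.eq_top_of_isUnit_mem w (x := algebraMap A T (algebraMap R A a))
      ?_ (IsLocalization.map_units T (⟨_, ⟨a, hap, rfl⟩⟩ : S)))
    rw [← ψ.commutes a]
    exact ha
  haveI := cm_at n p Q hQ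
  -- the ring map `P_Q → T_w`
  let χ : P →+* Tw := (algebraMap A Tw).comp ψ.toRingHom
  have hunit : ∀ y : Q.primeCompl, IsUnit (χ y) := fun y =>
    IsLocalization.map_units Tw (⟨ψ.toRingHom y.1, y.2⟩ : q.primeCompl)
  let θ : B →+* Tw := IsLocalization.lift hunit
  have hθ : ∀ x : P, θ (algebraMap P B x) = χ x := fun x => IsLocalization.lift_eq _ x
  have hθs : Function.Surjective θ := fun t => by
    obtain ⟨⟨a, s⟩, rfl⟩ := IsLocalization.mk'_surjective q.primeCompl t
    obtain ⟨a, rfl⟩ := hψ a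
    obtain ⟨s', hs'⟩ := hψ s.1
    have hs'' : s' ∈ Q.primeCompl := fun h => s.2 (show s.1 ∈ q from hs' ▸ h)
    refine ⟨IsLocalization.mk' B a ⟨s', hs''⟩, ?_⟩
    rw [IsLocalization.lift_mk'_spec]
    show algebraMap A Tw (ψ a) = algebraMap A Tw (ψ s') * IsLocalization.mk' Tw (ψ a) s
    rw [hs', IsLocalization.mk'_spec']
  letI : Algebra P Tw := χ.toAlgebra
  letI : Algebra B Tw := θ.toAlgebra
  haveI : IsScalarTower P B Tw := IsScalarTower.of_algebraMap_eq fun x => (hθ x).symm
  letI : Module P X := Module.compHom X χ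
  haveI : IsScalarTower P Tw X := ⟨fun a t x => mul_smul (χ a) t x⟩
  letI : Module B X := Module.compHom X θ
  haveI : IsScalarTower B Tw X := ⟨fun a t x => mul_smul (θ a) t x⟩
  haveI : IsScalarTower P B X := ⟨fun a b x => by
    show θ (a • b) • x = χ a • θ b • x
    rw [Algebra.smul_def, map_mul, hθ, mul_smul]⟩
  -- `X` is the localisation at `Q` of maps out of `P/I`
  obtain ⟨σ, hσ⟩ := exists_hom_semilinear n ψ hψ adj (-(r : ℤ))
  let f₁ : M →ₗ[A] LocalizedModule S M := LocalizedModule.mkLinearMap S M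
  let f₂ : LocalizedModule S M →ₗ[T] X := LocalizedModule.mkLinearMap w.primeCompl (LocalizedModule S M)
  have hA : ∀ (a : A) (m : M), f₂ (f₁ (a • m)) = algebraMap A Tw a • f₂ (f₁ m) := fun a m => by
    rw [map_smul f₁, ← algebraMap_smul T a (f₁ m), map_smul f₂, ← algebraMap_smul Tw (algebraMap A T a)
      (f₂ (f₁ m)), ← IsScalarTower.algebraMap_apply]
  let g : Hom' P I (-(r : ℤ) + n) →ₗ[P] X :=
    { toFun := fun z => f₂ (f₁ (σ z))
      map_add' := fun a b => by rw [map_add, map_add, map_add]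
      map_smul' := fun a z => by rw [LinearMap.map_smulₛₗ, hA]; rfl }
  have hsurj : ∀ x : X, ∃ (z : Hom' P I (-(r : ℤ) + n)) (s : Q.primeCompl), (s : P) • x = g z := fun x => by
    obtain ⟨⟨y, t⟩, hx⟩ := IsLocalizedModule.surj w.primeCompl f₂ x
    obtain ⟨⟨m, s⟩, hy⟩ := IsLocalizedModule.surj S f₁ y
    obtain ⟨z, rfl⟩ := hσ.2 m
    obtain ⟨⟨a, s₁⟩, ht⟩ := IsLocalization.surj S (t : T)
    obtain ⟨u, hu⟩ := hψ (a * s)
    obtain ⟨v, hv⟩ := hψ s₁.1
    have ha : a ∉ q := fun h => t.2 <| by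
      have : (t : T) * algebraMap A T s₁ ∈ w := by rw [ht]; exact h
      exact (Ideal.IsPrime.mem_or_mem ‹w.IsPrime› this).resolve_right
        fun h' => (Ideal.IsPrime.ne_top ‹w.IsPrime›) (Ideal.eq_top_of_isUnit_mem w h' (IsLocalization.map_units T s₁))
    have hs : (s : A) ∉ q := fun h =>
      (Ideal.IsPrime.ne_top ‹w.IsPrime›) (Ideal.eq_top_of_isUnit_mem w h (IsLocalization.map_units T s))
    refine ⟨v • z, ⟨u, fun h => ?_⟩, ?_⟩
    · exact ((Ideal.IsPrime.mem_or_mem (I := q) inferInstance (hu ▸ h : a * s ∈ q)).elim ha hs)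
    · have hx' : algebraMap T Tw t • x = f₂ y := by rw [algebraMap_smul]; exact hx
      have hy' : algebraMap A Tw s • f₂ y = f₂ (f₁ (σ z)) := by
        rw [IsScalarTower.algebraMap_apply A T Tw, algebraMap_smul Tw, ← map_smul f₂, algebraMap_smul T]
        exact congrArg f₂ hy
      show χ u • x = g (v • z)
      rw [map_smul g]
      show χ u • x = χ v • f₂ (f₁ (σ z))
      rw [← hy', ← hx', smul_smul, smul_smul]
      congr 1
      show algebraMap A Tw (ψ u) = algebraMap A Tw (ψ v) * algebraMap A Tw s * algebraMap T Tw t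
      rw [hu, hv, map_mul, IsScalarTower.algebraMap_apply A T Tw a, ← ht, map_mul,
        ← IsScalarTower.algebraMap_apply A T Tw s₁.1]
      ring
  haveI : IsLocalizedModule Q.primeCompl g := by
    refine ⟨fun s => ?_, fun x => ?_, fun {a b} hab => ?_⟩
    · refine (Module.End.isUnit_iff _).2 ?_
      obtain ⟨u, hu⟩ := hunit s
      constructor
      · intro x y hxy
        have : (χ s : Tw) • x = χ s • y := hxy
        rwa [← hu, ← Units.smul_def, ← Units.smul_def, smul_left_cancel_iff] at this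
      · intro x
        exact ⟨u⁻¹ • x, by show χ s • (u⁻¹ • x) = x; rw [← hu, ← Units.smul_def, smul_inv_smul]⟩
    · obtain ⟨z, s, h⟩ := hsurj x
      exact ⟨⟨z, s⟩, h⟩
    · obtain ⟨t, ht⟩ := IsLocalizedModule.exists_of_eq (S := w.primeCompl) (f := f₂) hab
      obtain ⟨⟨c, s₁⟩, hc⟩ := IsLocalization.surj S (t : T)
      have h1 : f₁ (c • σ a) = f₁ (c • σ b) := by
        rw [map_smul, map_smul, ← algebraMap_smul T c, ← algebraMap_smul T c, ← hc, mul_comm, mul_smul, mul_smul]
        exact congrArg _ ht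
      obtain ⟨s, hs⟩ := IsLocalizedModule.exists_of_eq (S := S) h1
      obtain ⟨u, hu⟩ := hψ (s * c)
      refine ⟨⟨u, fun h => ?_⟩, hσ.1 ?_⟩
      · rcases Ideal.IsPrime.mem_or_mem (I := q) inferInstance (hu ▸ h : (s : A) * c ∈ q) with h' | h'
        · exact (Ideal.IsPrime.ne_top ‹w.IsPrime›) (Ideal.eq_top_of_isUnit_mem w h' (IsLocalization.map_units T s))
        · refine t.2 ((Ideal.IsPrime.mem_or_mem ‹w.IsPrime› (?_ : (t : T) * algebraMap A T s₁ ∈ w)).resolve_right
            fun h'' => (Ideal.IsPrime.ne_top ‹w.IsPrime›) (Ideal.eq_top_of_isUnit_mem w h'' (IsLocalization.map_units T s₁)))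
          rw [hc]; exact h'
      · show σ (u • a) = σ (u • b)
        rw [LinearMap.map_smulₛₗ, LinearMap.map_smulₛₗ]
        show ψ u • σ a = ψ u • σ b
        rw [hu, mul_smul, mul_smul]
        exact hs
  let eX : B ⊗[P] Hom' P I (-(r : ℤ) + n) ≃ₗ[B] X :=
    ((isLocalizedModule_iff_isBaseChange Q.primeCompl B g).1 inferInstance).equiv
  obtain ⟨H, iH, jH, hfin, ⟨eH⟩, hH⟩ := min_two_le_depth_hom' I Q (Ideal.comap_mono bot_le) (n - r)
    (grade_ge n ψ hψ p r hr Q (Ideal.comap_mono bot_le) hQ) (-(r : ℤ) + n) (by omega) (by omega)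
  let e : H ≃ₗ[B] X := eH.symm ≪≫ₗ eX
  haveI : Module.Finite B X := Module.Finite.equiv e
  haveI : IsNoetherianRing B := IsLocalization.isNoetherianRing Q.primeCompl B inferInstance
  obtain ⟨t1, t2⟩ := transfer (B := B) (T := Tw) hθs X
  show min ((2 : ℕ) : WithBot ℕ∞) (Module.supportDim Tw X) ≤ ((LocCoh.depth Tw X : ℕ∞) : WithBot ℕ∞)
  rw [t1, t2, ← Module.supportDim_eq_of_equiv e]
  refine hH.trans (le_of_eq ?_)
  rw [LocCoh.depth, LocCoh.depth, Groth.L04.idealDepth_congr e]

end Groth.L10.Shriek.CMShriek
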