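import Groth.Agent.L10.Shriek.Poly
import Groth.Prelude.Def_DualSh
import Mathlib.Algebra.MvPolynomial.Equiv

/-! Independence of the upper shriek of the presentation. -/

universe u

open CategoryTheory CategoryTheory.Limits

attribute [local instance] HasDerivedCategory.standard

set_option backward.defeqAttrib.useBackward true
set_option backward.isDefEq.respectTransparency false
set_option linter.style.haveILetI false

namespace Groth.L10.Shriek

variable {R A : Type u} [CommRing R] [CommRing A]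

/-- enlarging a presentation -/
theorem nonempty_enlarge {P J : Type u} [CommRing P] [CommRing J] {ι : P →+* J} {σ : J →+* P} {d : ℤ}
    (h : SecShift ι σ d) (a : R →+* P) [DRing.HasLBaseChange a] [DRing.HasLBaseChange (ι.comp a)]
    {ψ : P →+* A} {Rψ : Dual.D P ⥤ Dual.D A} (adj : DRing.restrictD ψ ⊣ Rψ)
    {Rχ : Dual.D J ⥤ Dual.D A} (adjχ : DRing.restrictD (ψ.comp σ) ⊣ Rχ) (K : Dual.D R) (n : ℤ) :
    Nonempty ((Rψ.obj ((DRing.LBaseChange a).obj K))⟦n⟧ ≅
      (Rχ.obj ((DRing.LBaseChange (ι.comp a)).obj K))⟦d + n⟧) := by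
  obtain ⟨Rσ, ⟨adjσ⟩⟩ := exists_rightAdjoint σ
  haveI := KFlatLBC.hasLBaseChange ι
  obtain ⟨c⟩ := nonempty_comp_rightAdjoint (φ := σ) (ψ := ψ) rfl adjσ adj adjχ
  obtain ⟨b⟩ := KFlatLBC.nonempty_comp_iso a ι (ι.comp a) rfl K
  obtain ⟨e⟩ := h Rσ adjσ ((DRing.LBaseChange a).obj K)
  obtain ⟨s⟩ := nonempty_shift adjχ ((DRing.LBaseChange (ι.comp a)).obj K) d
  exact ⟨(shiftFunctor (Dual.D A) n).mapIso (Rψ.mapIso e.symm ≪≫ (c.app _).symm ≪≫
      Rχ.mapIso ((shiftFunctor (Dual.D J) d).mapIso b) ≪≫ s) ≪≫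
    ((shiftFunctorAdd' (Dual.D A) d n (d + n) rfl).app _).symm⟩

/-- two presentations with a common refinement -/
theorem nonempty_indep_aux {P P' J : Type u} [CommRing P] [CommRing P'] [CommRing J]
    {ι : P →+* J} {σ : J →+* P} {d : ℤ} (h : SecShift ι σ d)
    {ι' : P' →+* J} {σ' : J →+* P'} {d' : ℤ} (h' : SecShift ι' σ' d')
    (a : R →+* P) (a' : R →+* P') (ha : ι'.comp a' = ι.comp a)
    [DRing.HasLBaseChange a] [DRing.HasLBaseChange a']
    {ψ : P →+* A} {ψ' : P' →+* A} (hψ : ψ'.comp σ' = ψ.comp σ)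
    {Rψ : Dual.D P ⥤ Dual.D A} (adj : DRing.restrictD ψ ⊣ Rψ)
    {Rψ' : Dual.D P' ⥤ Dual.D A} (adj' : DRing.restrictD ψ' ⊣ Rψ') (K : Dual.D R) (n n' : ℤ)
    (hn : d + n = d' + n') :
    Nonempty ((Rψ.obj ((DRing.LBaseChange a).obj K))⟦n⟧ ≅ (Rψ'.obj ((DRing.LBaseChange a').obj K))⟦n'⟧) := by
  obtain ⟨Rχ, ⟨adjχ⟩⟩ := exists_rightAdjoint (ψ.comp σ)
  haveI := KFlatLBC.hasLBaseChange (ι.comp a)
  haveI : DRing.HasLBaseChange (ι'.comp a') := ha ▸ inferInstance
  obtain ⟨e⟩ := nonempty_enlarge h a adj adjχ K n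
  obtain ⟨e'⟩ := nonempty_enlarge h' a' adj'
    (show DRing.restrictD (ψ'.comp σ') ⊣ Rχ from hψ ▸ adjχ) K n'
  have hk : ∀ (x y : R →+* J) [DRing.HasLBaseChange x] [DRing.HasLBaseChange y], x = y →
      Nonempty ((DRing.LBaseChange x).obj K ≅ (DRing.LBaseChange y).obj K) := by
    rintro x y _ _ rfl
    exact ⟨Iso.refl _⟩
  obtain ⟨k⟩ := hk (ι.comp a) (ι'.comp a') ha.symm
  exact ⟨e ≪≫ (shiftFunctor (Dual.D A) (d + n)).mapIso (Rχ.mapIso k) ≪≫ eqToIso (by rw [hn]) ≪≫ e'.symm⟩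

/-- the upper shriek does not depend on the presentation -/
theorem nonempty_indep [Algebra R A] (n m : ℕ) (ψ : MvPolynomial (Fin n) R →ₐ[R] A) (hψ : Function.Surjective ψ)
    (ψ' : MvPolynomial (Fin m) R →ₐ[R] A) (hψ' : Function.Surjective ψ')
    [DRing.HasLBaseChange (algebraMap R (MvPolynomial (Fin n) R))]
    [DRing.HasLBaseChange (algebraMap R (MvPolynomial (Fin m) R))]
    {Rψ : Dual.D (MvPolynomial (Fin n) R) ⥤ Dual.D A} (adj : DRing.restrictD ψ.toRingHom ⊣ Rψ)
    {Rψ' : Dual.D (MvPolynomial (Fin m) R) ⥤ Dual.D A} (adj' : DRing.restrictD ψ'.toRingHom ⊣ Rψ')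
    (K : Dual.D R) :
    Nonempty (Dual2.shriekVia n Rψ K ≅ Dual2.shriekVia m Rψ' K) := by
  let J := MvPolynomial (Fin m) (MvPolynomial (Fin n) R)
  choose f hf using fun j : Fin m => hψ (ψ' (MvPolynomial.X j))
  choose g hg using fun i : Fin n => hψ' (ψ (MvPolynomial.X i))
  let e : MvPolynomial (Fin n) (MvPolynomial (Fin m) R) ≃ₐ[R] J :=
    ((MvPolynomial.sumAlgEquiv R (Fin n) (Fin m)).symm.trans
      (MvPolynomial.renameEquiv R (Equiv.sumComm (Fin n) (Fin m)))).trans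
      (MvPolynomial.sumAlgEquiv R (Fin m) (Fin n))
  let ι' : MvPolynomial (Fin m) R →+* J := e.toRingEquiv.toRingHom.comp MvPolynomial.C
  let σ' : J →+* MvPolynomial (Fin m) R := (MvPolynomial.eval g).comp e.symm.toRingEquiv.toRingHom
  have heq : SecShift e.toRingEquiv.toRingHom e.symm.toRingEquiv.toRingHom 0 :=
    SecShift.of_bijective _ _ (RingHom.Flat.of_bijective e.bijective) e.symm_apply_apply e.apply_symm_apply
  have h' : SecShift ι' σ' ((n : ℤ) + 0) := SecShift.comp (secShift_eval _ n g) heq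
  have hC : ∀ r : R, e (MvPolynomial.C (MvPolynomial.C r)) = MvPolynomial.C (MvPolynomial.C r) := fun r =>
    e.commutes r
  have ha : ι'.comp (algebraMap R (MvPolynomial (Fin m) R)) =
      (MvPolynomial.C : MvPolynomial (Fin n) R →+* J).comp (algebraMap R (MvPolynomial (Fin n) R)) :=
    RingHom.ext fun r => hC r
  refine nonempty_indep_aux (secShift_eval _ m f) h' _ _ ha ?_ adj adj' K n m (by omega)
  refine RingHom.ext fun z => ?_
  obtain ⟨z, rfl⟩ := e.surjective z
  show ψ' (MvPolynomial.eval g (e.symm (e z))) = ψ (MvPolynomial.eval f (e z))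
  rw [e.symm_apply_apply]
  have hX1 : ∀ i : Fin n, e (MvPolynomial.X i) = MvPolynomial.C (MvPolynomial.X i) := fun i => by
    simp [e]
    first | done | exact MvPolynomial.sumAlgEquiv_X_inr ..
  have hX2 : ∀ j : Fin m, e (MvPolynomial.C (MvPolynomial.X j)) = MvPolynomial.X j := fun j => by
    simp [e]
    first | done | exact MvPolynomial.sumAlgEquiv_X_inl ..
  induction z using MvPolynomial.induction_on with
  | C p =>
    induction p using MvPolynomial.induction_on with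
    | C r =>
      rw [hC]
      simp [← MvPolynomial.algebraMap_eq]
    | add p q hp hq => simp only [map_add, hp, hq]
    | mul_X p i hp =>
      rw [MvPolynomial.eval_C] at hp
      simp only [map_mul, hX2, MvPolynomial.eval_C, MvPolynomial.eval_X, hf, ← hp]
  | add p q hp hq => simp only [map_add, hp, hq]
  | mul_X p i hp => simp only [map_mul, hp, hX1, MvPolynomial.eval_C, MvPolynomial.eval_X, hg]

end Groth.L10.Shriek
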