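import Groth.Agent.L10.Shriek.Section
import Groth.Agent.L10.Shriek.Adjoint
import Groth.Agent.L10.DRing.KFlatLBC
import Mathlib.Algebra.Category.ModuleCat.Descent
import Mathlib.Algebra.MvPolynomial.Equiv
import Mathlib.RingTheory.Polynomial.Basic

/-!
Polynomial rings: the right adjoint of restriction along an evaluation, on extended objects.
-/

universe u

open CategoryTheory CategoryTheory.Limits TensorProduct

attribute [local instance] HasDerivedCategory.standard

set_option backward.defeqAttrib.useBackward true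
set_option backward.isDefEq.respectTransparency false
set_option linter.style.haveILetI false

namespace Groth.L10.Shriek

/-- a right adjoint of restriction along `σ` shifts extended objects back by `d` -/
def SecShift {R P : Type u} [CommRing R] [CommRing P] (ι : R →+* P) (σ : P →+* R) (d : ℤ) : Prop :=
  ∀ [DRing.HasLBaseChange ι] (Rσ : Dual.D P ⥤ Dual.D R), (DRing.restrictD σ ⊣ Rσ) → ∀ Y : Dual.D R,
    Nonempty (Rσ.obj (((DRing.LBaseChange ι).obj Y)⟦d⟧) ≅ Y)

variable {R P Q : Type u} [CommRing R] [CommRing P] [CommRing Q]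

theorem preservesFiniteLimits_ext (ι : R →+* P) (hfl : ι.Flat) :
    PreservesFiniteLimits (ModuleCat.extendScalars.{u, u, u} ι) :=
  ModuleCat.preservesFiniteLimits_extendScalars_of_flat hfl

theorem nonempty_lbc_iso_ED (ι : R →+* P) [PreservesFiniteLimits (ModuleCat.extendScalars.{u, u, u} ι)]
    [DRing.HasLBaseChange ι] (Y : Dual.D R) : Nonempty ((DRing.LBaseChange ι).obj Y ≅ (ED ι).obj Y) := by
  obtain ⟨K, hK, -, ⟨e⟩⟩ := KFlatLBC.exists_rep_flat Y
  exact ⟨(DRing.LBaseChange ι).mapIso e.symm ≪≫ KFlatLBC.lbcKF ι K hK ≪≫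
    ((ModuleCat.extendScalars.{u, u, u} ι).mapDerivedCategoryFactors.app K).symm ≪≫ (ED ι).mapIso e⟩

theorem SecShift.of_bijective (ι : R →+* P) (σ : P →+* R) (hfl : ι.Flat) (hσι : ∀ r, σ (ι r) = r)
    (hισ : ∀ p, ι (σ p) = p) : SecShift ι σ 0 := by
  intro _ Rσ adj Y
  haveI := preservesFiniteLimits_ext ι hfl
  haveI : ∀ M, IsIso ((πM ι σ hσι).app M) := fun M => by
    letI := ι.toAlgebra
    refine (ConcreteCategory.isIso_iff_bijective _).2 ⟨?_, fun m => ⟨(1 : P) ⊗ₜ[R] (show M from m), ?_⟩⟩
    · have hs : ∀ x : (ModuleCat.extendScalars.{u, u, u} ι).obj M, ∃ m : M, x = (1 : P) ⊗ₜ[R] m := fun x => by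
        induction x using TensorProduct.induction_on with
        | zero => exact ⟨0, (TensorProduct.tmul_zero M (1 : P)).symm⟩
        | tmul p m =>
          refine ⟨σ p • m, ?_⟩
          rw [TensorProduct.tmul_smul, TensorProduct.smul_tmul']
          congr 1
          show p = ι (σ p) * 1
          rw [mul_one, hισ]
        | add a b ha hb =>
          obtain ⟨x, rfl⟩ := ha
          obtain ⟨y, rfl⟩ := hb
          exact ⟨x + y, (TensorProduct.tmul_add _ _ _).symm⟩
      intro x y hxy
      obtain ⟨x, rfl⟩ := hs x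
      obtain ⟨y, rfl⟩ := hs y
      have : x = y := by
        have hx := fun m : M => congrArg (fun f => f.hom m) (unit_πM ι σ hσι M)
        exact (hx x).symm.trans (hxy.trans (hx y))
      rw [this]
    · exact congrArg (fun f => f.hom m) (unit_πM ι σ hσι M)
  obtain ⟨e⟩ := nonempty_iso_rightAdjoint_of_isIso ι σ hσι adj Y
  obtain ⟨l⟩ := nonempty_lbc_iso_ED ι Y
  exact ⟨Rσ.mapIso ((shiftFunctorZero (Dual.D P) ℤ).app _ ≪≫ l) ≪≫ e⟩

theorem SecShift.of_element (ι : R →+* P) (σ : P →+* R) (hfl : ι.Flat) (hσι : ∀ r, σ (ι r) = r) (t : P)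
    (ht : σ t = 0) (hker : ∀ p, ∃ q, t * q = p - ι (σ p)) (hreg : ∀ a b : P, t * a = t * b → a = b) :
    SecShift ι σ 1 := by
  intro _ Rσ adj Y
  haveI := preservesFiniteLimits_ext ι hfl
  obtain ⟨e⟩ := nonempty_iso_rightAdjoint ι σ hσι t (fun M w => by
    letI := ι.toAlgebra
    choose g hg using hker
    let r : P →ₗ[R] P :=
      { toFun := g
        map_add' := fun a b => hreg _ _ (by rw [hg, mul_add, hg, hg, map_add, map_add]; ring)
        map_smul' := fun c a => hreg _ _ (by
          show t * g (ι c * a) = t * (ι c * g a)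
          rw [hg, mul_left_comm, hg, map_mul, hσι, map_mul]
          ring) }
    let lt : P →ₗ[R] P := LinearMap.mulLeft R t
    let ls : P →ₗ[R] R :=
      { toFun := σ
        map_add' := map_add σ
        map_smul' := fun c a => by
          show σ (ι c * a) = c * σ a
          rw [map_mul, hσι] }
    have hex : Function.Exact lt ls := fun p => ⟨fun hp => ⟨g p, by
        show t * g p = p
        rw [hg, show σ p = 0 from hp, map_zero, sub_zero]⟩, by
      rintro ⟨q, rfl⟩
      show σ (t * q) = 0
      rw [map_mul, ht, zero_mul]⟩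
    have hs : Function.Surjective ls := fun c => ⟨ι c, hσι c⟩
    have hr : r ∘ₗ lt = LinearMap.id := LinearMap.ext fun q => hreg _ _ (by
      show t * g (t * q) = t * q
      rw [hg, map_mul σ, ht, zero_mul, map_zero, sub_zero])
    have h1 : Function.Injective (lt.rTensor M) := by
      refine Function.LeftInverse.injective (g := r.rTensor M) fun x => ?_
      rw [← LinearMap.rTensor_comp_apply, hr, LinearMap.rTensor_id, LinearMap.id_apply]
    have h2 := rTensor_exact M hex hs
    have h3 := LinearMap.rTensor_surjective M hs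
    have hlt : ∀ x : (ModuleCat.extendScalars.{u, u, u} ι).obj M,
        (t • 𝟙 ((ModuleCat.extendScalars.{u, u, u} ι).obj M)).hom x = lt.rTensor M x := fun x => by
      show t • x = lt.rTensor M x
      induction x using TensorProduct.induction_on with
      | zero => rw [smul_zero, map_zero]
      | tmul p m => rfl
      | add a b ha hb => rw [smul_add, map_add, ha, hb]
    have hπ : ∀ x : (ModuleCat.extendScalars.{u, u, u} ι).obj M,
        ((πM ι σ hσι).app M).hom x = TensorProduct.lid R M (ls.rTensor M x) := fun x => by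
      induction x using TensorProduct.induction_on with
      | zero => erw [map_zero]
      | tmul p m =>
        rw [LinearMap.rTensor_tmul, TensorProduct.lid_tmul]
        let z : (ModuleCat.extendScalars.{u, u, u} ι).obj M := (1 : P) ⊗ₜ[R] m
        have hp : (p ⊗ₜ[R] m : (ModuleCat.extendScalars.{u, u, u} ι).obj M) = p • z :=
          (congrArg (fun q : P => q ⊗ₜ[R] m) (mul_one (show P from p)).symm)
        refine (congrArg ((πM ι σ hσι).app M).hom hp).trans ?_
        refine (map_smul ((πM ι σ hσι).app M).hom p z).trans ?_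
        exact congrArg (fun z : M => σ p • z) (congrArg (fun f => f.hom m) (unit_πM ι σ hσι M))
      | add a b ha hb => erw [map_add, map_add, map_add, ha, hb]
    exact
      { exact := (ShortComplex.ShortExact.moduleCat_exact_iff_function_exact _).2 fun x => by
          show ((πM ι σ hσι).app M).hom x = 0 ↔ x ∈ Set.range fun y => _
          simp only [hπ, hlt]
          exact (TensorProduct.lid R M).map_eq_zero_iff.trans (h2 x)
        mono_f := ConcreteCategory.mono_of_injective _ fun x y hxy => h1 (by rw [← hlt, ← hlt]; exact hxy)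
        epi_g := ConcreteCategory.epi_of_surjective _ fun m => by
          obtain ⟨x, hx⟩ := h3 ((TensorProduct.lid R M).symm m)
          exact ⟨x, by rw [hπ, hx, LinearEquiv.apply_symm_apply]⟩ }) ht adj Y
  obtain ⟨l⟩ := nonempty_lbc_iso_ED ι Y
  exact ⟨Rσ.mapIso ((shiftFunctor (Dual.D P) (1 : ℤ)).mapIso l) ≪≫ e⟩

theorem SecShift.comp {ι : R →+* P} {σ : P →+* R} {ι' : P →+* Q} {σ' : Q →+* P} {d d' : ℤ}
    (h : SecShift ι σ d) (h' : SecShift ι' σ' d') : SecShift (ι'.comp ι) (σ.comp σ') (d + d') := by
  intro _ Rc adjc Y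
  obtain ⟨Rσ, ⟨adj⟩⟩ := exists_rightAdjoint σ
  obtain ⟨Rσ', ⟨adj'⟩⟩ := exists_rightAdjoint σ'
  haveI := KFlatLBC.hasLBaseChange ι
  haveI := KFlatLBC.hasLBaseChange ι'
  obtain ⟨c⟩ := nonempty_comp_rightAdjoint (φ := σ') (ψ := σ) rfl adj' adj adjc
  obtain ⟨b⟩ := KFlatLBC.nonempty_comp_iso ι ι' (ι'.comp ι) rfl Y
  obtain ⟨e₁⟩ := h Rσ adj Y
  obtain ⟨e₂⟩ := h' Rσ' adj' ((DRing.LBaseChange ι).obj Y)
  obtain ⟨s⟩ := nonempty_shift adj' (((DRing.LBaseChange ι').obj ((DRing.LBaseChange ι).obj Y))⟦d'⟧) d
  exact ⟨c.app _ ≪≫ Rσ.mapIso (Rσ'.mapIso ((shiftFunctor (Dual.D Q) (d + d')).mapIso b.symm ≪≫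
      (shiftFunctorAdd' (Dual.D Q) d' d (d + d') (add_comm d' d)).app _) ≪≫ s ≪≫
    (shiftFunctor (Dual.D P) d).mapIso e₂) ≪≫ e₁⟩

/-- evaluation at `a` -/
theorem secShift_eval (R : Type u) [CommRing R] : ∀ (m : ℕ) (a : Fin m → R),
    SecShift (MvPolynomial.C : R →+* MvPolynomial (Fin m) R) (MvPolynomial.eval a) m := by
  intro m
  induction m with
  | zero =>
    intro a
    refine SecShift.of_bijective _ _ ?_ (fun r => MvPolynomial.eval_C r) fun p => ?_
    · rw [← MvPolynomial.algebraMap_eq, RingHom.flat_algebraMap_iff]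
      infer_instance
    · exact (MvPolynomial.eq_C_of_isEmpty p).trans (by rw [MvPolynomial.eq_C_of_isEmpty p]; simp) |>.symm
  | succ m ih =>
    intro a
    let e := MvPolynomial.finSuccEquiv R m
    let ι' : MvPolynomial (Fin m) R →+* MvPolynomial (Fin (m + 1)) R := (MvPolynomial.rename Fin.succ).toRingHom
    let σ' : MvPolynomial (Fin (m + 1)) R →+* MvPolynomial (Fin m) R :=
      (MvPolynomial.aeval (Fin.cons (MvPolynomial.C (a 0)) MvPolynomial.X)).toRingHom
    let t : MvPolynomial (Fin (m + 1)) R := MvPolynomial.X 0 - MvPolynomial.C (a 0)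
    have hσι : ∀ p, σ' (ι' p) = p := fun p => by
      show MvPolynomial.aeval _ (MvPolynomial.rename Fin.succ p) = p
      rw [MvPolynomial.aeval_rename]
      exact MvPolynomial.aeval_X_left_apply p
    have hι : ∀ p, e (ι' p) = Polynomial.C p := fun p => by
      induction p using MvPolynomial.induction_on with
      | C r => simp [e, ι', MvPolynomial.finSuccEquiv_apply]
      | add p q hp hq => rw [map_add, map_add, hp, hq, map_add]
      | mul_X p i hp => rw [map_mul, map_mul, hp, map_mul]; simp [e, ι', MvPolynomial.finSuccEquiv_apply]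
    have het : e t = Polynomial.X - Polynomial.C (MvPolynomial.C (a 0)) := by
      simp [e, t, MvPolynomial.finSuccEquiv_apply]
    have h1 : SecShift ι' σ' 1 := by
      refine SecShift.of_element ι' σ' ?_ hσι t ?_ (fun p => ?_) fun b c h => ?_
      · have he : ι' = (e.symm.toRingEquiv : _ →+* MvPolynomial (Fin (m + 1)) R).comp Polynomial.C :=
          RingHom.ext fun p => ((AlgEquiv.symm_apply_eq e).2 (hι p).symm).symm
        rw [he]
        refine RingHom.Flat.comp ?_ (RingHom.Flat.of_bijective e.symm.bijective)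
        rw [← Polynomial.algebraMap_eq, RingHom.flat_algebraMap_iff]
        infer_instance
      · simp [σ', t]
      · induction p using MvPolynomial.induction_on with
        | C r => exact ⟨0, by simp [σ', ι']⟩
        | add p q hp hq =>
          obtain ⟨x, hx⟩ := hp
          obtain ⟨y, hy⟩ := hq
          exact ⟨x + y, by rw [mul_add, hx, hy, map_add, map_add]; ring⟩
        | mul_X p i hp =>
          obtain ⟨x, hx⟩ := hp
          obtain ⟨y, hy⟩ : ∃ y, t * y = MvPolynomial.X i - ι' (σ' (MvPolynomial.X i)) := by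
            refine Fin.cases ⟨1, by simp [σ', ι', t]⟩ (fun j => ⟨0, by simp [σ', ι']⟩) i
          refine ⟨x * MvPolynomial.X i + ι' (σ' p) * y, ?_⟩
          rw [mul_add, ← mul_assoc, hx, mul_left_comm, hy, map_mul, map_mul]
          ring
      · apply e.injective
        refine (Polynomial.monic_X_sub_C (MvPolynomial.C (a 0))).isRegular.left ?_
        show (Polynomial.X - Polynomial.C (MvPolynomial.C (a 0))) * e b = _ * e c
        rw [← het, ← map_mul, ← map_mul, h]
    have h : SecShift (ι'.comp MvPolynomial.C) ((MvPolynomial.eval fun i => a i.succ).comp σ') ((m : ℤ) + 1) :=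
      SecShift.comp (ih (fun i => a i.succ)) h1
    have hC : ι'.comp MvPolynomial.C = MvPolynomial.C := RingHom.ext fun r => MvPolynomial.rename_C Fin.succ r
    have hev : (MvPolynomial.eval fun i => a i.succ).comp σ' = MvPolynomial.eval a := by
      refine MvPolynomial.ringHom_ext (fun r => by simp [σ']) fun i => ?_
      refine Fin.cases ?_ (fun j => ?_) i <;> simp [σ']
    rw [hC, hev] at h
    rw [Nat.cast_succ]
    exact @h

end Groth.L10.Shriek
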