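import Groth.Agent.L10.Shriek.Comp
import Groth.Agent.L10.Shriek.PerfectDual
import Groth.Agent.L29.Shriek.Epi

/-! The upper shriek along a surjection written with no variables, and along the identity. -/

universe u

open CategoryTheory CategoryTheory.Limits

attribute [local instance] HasDerivedCategory.standard

set_option backward.defeqAttrib.useBackward true
set_option backward.isDefEq.respectTransparency false
set_option linter.style.haveILetI false

namespace Groth.L10.Shriek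

variable {S B : Type u} [CommRing S] [CommRing B]

/-- no variables: the shriek is the right adjoint of restriction -/
theorem nonempty_shriek_zero [Algebra S B] (χ : MvPolynomial (Fin 0) S →ₐ[S] B)
    [DRing.HasLBaseChange (algebraMap S (MvPolynomial (Fin 0) S))]
    {Rχ : Dual.D (MvPolynomial (Fin 0) S) ⥤ Dual.D B} (adjχ : DRing.restrictD χ.toRingHom ⊣ Rχ)
    {Rμ : Dual.D S ⥤ Dual.D B} (adjμ : DRing.restrictD (algebraMap S B) ⊣ Rμ) (X : Dual.D S) :
    Nonempty (Dual2.shriekVia 0 Rχ X ≅ Rμ.obj X) := by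
  obtain ⟨Rσ, ⟨adjσ⟩⟩ := exists_rightAdjoint (MvPolynomial.eval (Fin.elim0 : Fin 0 → S))
  have h : χ.toRingHom = (algebraMap S B).comp (MvPolynomial.eval (Fin.elim0 : Fin 0 → S)) :=
    MvPolynomial.ringHom_ext (fun r => by
      rw [RingHom.comp_apply, MvPolynomial.eval_C]
      exact χ.commutes r) fun i => i.elim0
  obtain ⟨c⟩ := nonempty_comp_rightAdjoint h adjσ adjμ adjχ
  haveI : DRing.HasLBaseChange (MvPolynomial.C : S →+* MvPolynomial (Fin 0) S) := ‹_›
  obtain ⟨e⟩ := secShift_eval S 0 Fin.elim0 Rσ adjσ X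
  exact ⟨(shiftFunctorZero (Dual.D B) ℤ).app _ ≪≫ c.app _ ≪≫
    Rμ.mapIso (Rσ.mapIso ((shiftFunctorZero (Dual.D _) ℤ).app _).symm ≪≫ e)⟩

/-- the shriek along the identity -/
theorem nonempty_shriek_id (χ : MvPolynomial (Fin 0) B →ₐ[B] B)
    [DRing.HasLBaseChange (algebraMap B (MvPolynomial (Fin 0) B))]
    {Rχ : Dual.D (MvPolynomial (Fin 0) B) ⥤ Dual.D B} (adjχ : DRing.restrictD χ.toRingHom ⊣ Rχ) (X : Dual.D B) :
    Nonempty (Dual2.shriekVia 0 Rχ X ≅ X) :=
  nonempty_shriek_zero χ adjχ (Adjunction.id.ofNatIsoLeft (Groth.L29.ShriekEpi.restrictDId B).symm) X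

/-- base change along an automorphism fixing a map -/
theorem nonempty_swap {T : Type u} [CommRing T] (σ : T →+* T) (hσ : ∀ x, σ (σ x) = x) (μ : T →+* B)
    (hμ : μ = μ.comp σ) [DRing.HasLBaseChange σ] {Rμ : Dual.D T ⥤ Dual.D B} (adjμ : DRing.restrictD μ ⊣ Rμ)
    (X : Dual.D T) : Nonempty (Rμ.obj ((DRing.LBaseChange σ).obj X) ≅ Rμ.obj X) := by
  obtain ⟨Rσ, ⟨adjσ⟩⟩ := exists_rightAdjoint σ
  have hb : Function.Bijective σ :=
    ⟨fun a b h => by rw [← hσ a, h, hσ b], fun x => ⟨σ x, hσ x⟩⟩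
  obtain ⟨e⟩ := SecShift.of_bijective σ σ (RingHom.Flat.of_bijective hb) hσ hσ Rσ adjσ X
  obtain ⟨c⟩ := nonempty_comp_rightAdjoint (φ := σ) (ψ := μ) (χ := μ) hμ adjσ adjμ adjμ
  exact ⟨c.app _ ≪≫ Rμ.mapIso (Rσ.mapIso ((shiftFunctorZero (Dual.D T) ℤ).app _).symm ≪≫ e)⟩

end Groth.L10.Shriek
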