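import Groth.Agent.L29.Dual.Coind
import Groth.Agent.L10.DRing.TorDim

/-!
Biduality with respect to an injective model of the ring for finite modules of finite tor dimension;
endomorphisms of the right adjoint of restriction along a perfect finite algebra.
-/

universe u

open CategoryTheory CategoryTheory.Limits CategoryTheory.Pretriangulated Opposite

attribute [local instance] HasDerivedCategory.standard

set_option backward.defeqAttrib.useBackward true
set_option backward.isDefEq.respectTransparency false
set_option linter.style.haveILetI false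

namespace Groth.L10.Shriek

open Groth.L29.HomD Groth.L10.DR Groth.L02.PC

variable {A : Type u} [CommRing A]

theorem amp_shrink {M : Type u} [AddCommGroup M] [Module A M] {a b : ℤ}
    (h : DRing.HasTorAmplitudeIn A a b (Dual.inD A M)) : DRing.HasTorAmplitudeIn A a 0 (Dual.inD A M) := by
  let R := projectiveResolution (ModuleCat.of A M)
  obtain ⟨e⟩ := res_toD R
  have hv : DRing.VanishesAbove _ (max b 0) := fun i hi => res_vanishesAbove R i (lt_of_le_of_lt (le_max_right _ _) hi)
  exact (amp_iff e (res_vanishesAbove R) (res_flat R) a 0).2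
    ⟨fun i hi N => ((amp_iff e hv (res_flat R) a _).1 (amp_mono h le_rfl (le_max_left b 0))).1 i hi N,
      LEH_inD M⟩

variable (I : DRing.Cx A) [I.IsKInjective] [IsNoetherianRing A] [∀ n, Injective (I.X n)]
  (hbij : Function.Bijective (fun x : A => x • 𝟙 (DRing.toD I)))
  (hself : ∀ i : ℤ, i ≠ 0 → Subsingleton (DRing.toD I ⟶ (DRing.toD I)⟦i⟧))

include hself in
/-- finite projectives -/
theorem subsingleton_G_projective (M : ModuleCat.{u} A) [Module.Finite A M] [Module.Projective A M] (l : ℤ)
    (hl : l ≠ 0) : Subsingleton (G I M l) := by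
  obtain ⟨n, f, hf⟩ := Module.Finite.exists_fin' A M
  obtain ⟨s, hs⟩ := Module.projective_lifting_property f LinearMap.id hf
  haveI := subsingleton_G_free I hself n l hl
  refine subsingleton_of_forall_eq 0 fun φ => ?_
  have e : gmap I (ModuleCat.ofHom f) l (gmap I (ModuleCat.ofHom s) l φ) = φ := by
    rw [← gmap_comp, show (ModuleCat.ofHom s ≫ ModuleCat.ofHom f : M ⟶ M) = 𝟙 M from ModuleCat.hom_ext hs,
      gmap_id]
  rw [← e, Subsingleton.elim (gmap I (ModuleCat.ofHom s) l φ) 0, map_zero]

include hbij hself in
/-- biduality for finite modules of finite tor dimension -/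
theorem biduality_perfect : ∀ (d : ℕ) (M : ModuleCat.{u} A), Module.Finite A M →
    DRing.HasTorAmplitudeIn A (-(d : ℤ)) 0 (Dual.inD A M) → ∀ (l : ℤ),
      (l ≠ 0 → Subsingleton (G I M l)) ∧ (l = 0 → Function.Bijective (theta I M)) := by
  have pres : ∀ M : ModuleCat.{u} A, Module.Finite A M → ∃ (n : ℕ) (S : ShortComplex (ModuleCat.{u} A)),
      S.ShortExact ∧ Module.Finite A S.X₁ ∧ S.X₂ = ModuleCat.of A (Fin n → A) ∧ S.X₃ = M := by
    intro M hM
    obtain ⟨n, g, hg⟩ := Module.Finite.exists_fin' A M
    exact ⟨n, sc (LinearMap.ker g).subtype g g.exact_subtype_ker_map,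
      sc_shortExact _ _ Subtype.val_injective hg _,
      Module.Finite.iff_fg.2 (IsNoetherian.noetherian _), rfl, rfl⟩
  have hfree : ∀ n : ℕ, DRing.HasTorAmplitudeIn A 0 0 (Dual.inD A (Fin n → A)) := fun n => by
    simpa using (hasTorDimLE_iff_amp (A := A) (M := Fin n → A) 0).1 (hasTorDimLE_zero_iff.2 inferInstance)
  intro d
  induction d with
  | zero =>
    intro M hM h l
    haveI : Module.Flat A M := flat_of_amp (by simpa using h)
    haveI : Module.FinitePresentation A M := Module.finitePresentation_of_finite A M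
    haveI : Module.Projective A M := Module.Flat.projective_of_finitePresentation
    refine ⟨subsingleton_G_projective I hself M l, fun _ => ?_⟩
    obtain ⟨n, f, hf⟩ := Module.Finite.exists_fin' A M
    obtain ⟨s, hs⟩ := Module.projective_lifting_property f LinearMap.id hf
    have hb := theta_free_bijective I hbij hself n
    have hid : (ModuleCat.ofHom s ≫ ModuleCat.ofHom f : M ⟶ M) = 𝟙 M := ModuleCat.hom_ext hs
    constructor
    · intro x y hxy
      have h1 := congrArg (gmap I (ModuleCat.ofHom s) 0) hxy
      rw [theta_natural, theta_natural] at h1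
      have h2 := congrArg (fun z => f z) (hb.1 h1)
      exact (LinearMap.congr_fun hs x).symm.trans (h2.trans (LinearMap.congr_fun hs y))
    · intro φ
      obtain ⟨x, hx⟩ := hb.2 (gmap I (ModuleCat.ofHom s) 0 φ)
      refine ⟨f x, ?_⟩
      rw [← gmap_id I M 0 φ, ← hid, gmap_comp, ← hx, theta_natural]
      rfl
  | succ d ih =>
    intro M hM h
    obtain ⟨n, S, hS, h1, h2, rfl⟩ := pres M hM
    have hamp : DRing.HasTorAmplitudeIn A (-(d : ℤ)) 0 (Dual.inD A S.X₁) := by
      refine amp_shrink (b := 1) ?_
      have hf : DRing.HasTorAmplitudeIn A (-((d + 1 : ℕ) : ℤ) + 1) (0 + 1) (Dual.inD A S.X₂) := by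
        refine amp_mono (a := 0) (b := 0) ?_ (by omega) (by omega)
        rw [h2]; exact hfree n
      have := amp_first _ hS.singleTriangle_distinguished hf h
      simpa [show -((d + 1 : ℕ) : ℤ) + 1 = -(d : ℤ) by omega] using this
    have ih1 := ih S.X₁ h1 hamp
    have hb : Function.Bijective (theta I S.X₂) := by
      rw [h2]; exact theta_free_bijective I hbij hself n
    have hsurj : Function.Surjective (theta I S.X₃) := by
      intro φ
      haveI := (ih1 1).1 one_ne_zero
      obtain ⟨χ, rfl⟩ := surjective_of_next I hS 0 (fun ψ _ => Subsingleton.elim (α := G I S.X₁ 1) ψ 0) φ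
      obtain ⟨x, rfl⟩ := hb.2 χ
      exact ⟨S.g x, (theta_natural I _ _).symm⟩
    intro l
    refine ⟨fun hl => ?_, fun _ => ⟨?_, hsurj⟩⟩
    · haveI : Subsingleton (G I S.X₂ l) := by
        rw [h2]; exact subsingleton_G_free I hself n l hl
      refine (surjective_of_next I hS l fun ψ hψ => ?_).subsingleton
      by_cases hl1 : l + 1 = 0
      · obtain rfl : l = -1 := by omega
        obtain ⟨y, hy⟩ := ((ih1 0).2 rfl).2 (show G I S.X₁ 0 from ψ)
        subst hy
        have hy0 : theta I S.X₂ (S.f y) = 0 := (theta_natural I S.f y).symm.trans hψ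
        haveI := hS.mono_f
        have hy1 : y = 0 := (ModuleCat.mono_iff_injective S.f).1 inferInstance
          ((hb.1 (hy0.trans (map_zero _).symm)).trans (map_zero S.f.hom).symm)
        rw [hy1]; exact map_zero _
      · haveI := (ih1 (l + 1)).1 hl1
        exact Subsingleton.elim ψ 0
    · rw [injective_iff_map_eq_zero]
      intro m hm
      haveI := hS.epi_g
      obtain ⟨x, rfl⟩ := (ModuleCat.epi_iff_surjective S.g).1 inferInstance m
      rw [← theta_natural] at hm
      obtain ⟨ψ, hψ⟩ := (gexact_mid I hS 0 _).1 hm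
      obtain ⟨y, rfl⟩ := ((ih1 0).2 rfl).2 ψ
      rw [theta_natural] at hψ
      rw [← hb.1 hψ, ← ModuleCat.comp_apply, S.zero]
      rfl

end Groth.L10.Shriek
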