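import Groth.Agent.L06.AffineRTrdeg
import Groth.Agent.L22.AffineDim
import Groth.Prelude.Def_Dual3
import Mathlib.RingTheory.Spectrum.Prime.RingHom
import Mathlib.RingTheory.TensorProduct.MvPolynomial
import Mathlib.RingTheory.Ideal.Height

/-!
Height of the kernel of a presentation from the transcendence degrees at the minimal primes.
-/

set_option autoImplicit false
set_option linter.style.haveILetI false

universe u

open CategoryTheory AlgebraicGeometry TensorProduct

namespace Groth.L10.Shriek.CMHeight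

variable {R A : Type u} [CommRing R] [CommRing A] [Algebra R A]

/-- comap along `R[x] → κ(p)[x]` is strictly monotone -/
theorem strictMono_comap_map (n : ℕ) (p : PrimeSpectrum R) :
    StrictMono (PrimeSpectrum.comap (MvPolynomial.map (σ := Fin n) (algebraMap R p.asIdeal.ResidueField))) := by
  let P := MvPolynomial (Fin n) R
  let k := p.asIdeal.ResidueField
  let e₀ : p.asIdeal.Fiber P ≃+* MvPolynomial (Fin n) k :=
    (MvPolynomial.algebraTensorAlgEquiv R k (σ := Fin n)).toRingEquiv
  let φ := MvPolynomial.map (σ := Fin n) (algebraMap R k)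
  let O := PrimeSpectrum.preimageOrderIsoFiber R P p
  have hφ : φ = (e₀ : p.asIdeal.Fiber P →+* MvPolynomial (Fin n) k).comp
      (Algebra.TensorProduct.includeRight (R := R) (A := k) (B := P)).toRingHom := by
    refine RingHom.ext fun c => ?_
    show MvPolynomial.map (algebraMap R k) c = MvPolynomial.algebraTensorAlgEquiv R k ((1 : k) ⊗ₜ[R] c)
    rw [MvPolynomial.algebraTensorAlgEquiv_tmul, one_smul]
  have key : ∀ z, PrimeSpectrum.comap φ z =
      (O.symm (PrimeSpectrum.comap (e₀ : p.asIdeal.Fiber P →+* MvPolynomial (Fin n) k) z)).1 := fun z => by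
    rw [hφ, PrimeSpectrum.comap_comp_apply]
    rfl
  intro a b hab
  show PrimeSpectrum.comap φ a < PrimeSpectrum.comap φ b
  rw [key, key, Subtype.coe_lt_coe]
  refine O.symm.strictMono (lt_of_le_of_ne (Ideal.comap_mono hab.le) fun h => hab.ne ?_)
  exact PrimeSpectrum.comap_injective_of_surjective _ e₀.surjective h

/-- the kernel of a presentation has height at least `n - r` -/
theorem height_comap_ge [IsNoetherianRing R] {n : ℕ} (ψ : MvPolynomial (Fin n) R →ₐ[R] A)
    (hψ : Function.Surjective ψ) (q : PrimeSpectrum A) (r : ℕ)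
    (hr : Dual3.resTrdeg (Spec.map (CommRingCat.ofHom (algebraMap R A))) q ≤ (r : Cardinal.{u})) :
    ((n - r : ℕ) : ℕ∞) ≤ (q.asIdeal.comap ψ.toRingHom).height := by
  let p := PrimeSpectrum.comap (algebraMap R A) q
  let k := p.asIdeal.ResidueField
  let L := q.asIdeal.ResidueField
  letI : Algebra k L := (Ideal.ResidueField.map p.asIdeal q.asIdeal (algebraMap R A) rfl).toAlgebra
  have hr' : Algebra.trdeg k L ≤ (r : Cardinal.{u}) := (Groth.L06.AffineRTrdeg.rtrdeg_spec R A q).symm.trans_le hr
  let χ : MvPolynomial (Fin n) k →ₐ[k] L := MvPolynomial.aeval fun i => algebraMap A L (ψ (MvPolynomial.X i))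
  let φ := MvPolynomial.map (σ := Fin n) (algebraMap R k)
  have hχ : ∀ x, χ (φ x) = algebraMap A L (ψ x) := fun x => by
    refine RingHom.congr_fun (f := χ.toRingHom.comp φ) (g := (algebraMap A L).comp ψ.toRingHom)
      (MvPolynomial.ringHom_ext (fun a => ?_) fun i => ?_) x
    · show χ (MvPolynomial.map (algebraMap R k) (MvPolynomial.C a)) = algebraMap A L (ψ (MvPolynomial.C a))
      rw [MvPolynomial.map_C, MvPolynomial.algHom_C]
      rw [show ψ (MvPolynomial.C a) = algebraMap R A a from ψ.commutes a]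
      show Ideal.ResidueField.map p.asIdeal q.asIdeal (algebraMap R A) rfl (algebraMap R k a) = _
      exact Ideal.ResidueField.map_algebraMap _ _ _ _ a
    · show χ (MvPolynomial.map (algebraMap R k) (MvPolynomial.X i)) = _
      rw [MvPolynomial.map_X, MvPolynomial.aeval_X]
      rfl
  let Qb : PrimeSpectrum (MvPolynomial (Fin n) k) := ⟨RingHom.ker χ, RingHom.ker_isPrime χ⟩
  have hQb : PrimeSpectrum.comap φ Qb = ⟨q.asIdeal.comap ψ.toRingHom, inferInstance⟩ := by
    ext x
    show χ (φ x) = 0 ↔ ψ x ∈ q.asIdeal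
    rw [hχ, Ideal.algebraMap_residueField_eq_zero]
  have hle : Qb.asIdeal.height ≤ (q.asIdeal.comap ψ.toRingHom).height := by
    have h := Order.height_le_height_apply_of_strictMono _ (strictMono_comap_map n p) Qb
    rw [hQb, ← PrimeSpectrum.height_eq_orderHeight, ← PrimeSpectrum.height_eq_orderHeight] at h
    exact h
  haveI : Qb.asIdeal.IsPrime := Qb.2
  obtain ⟨h, e, d, hh, he, hd, hsum⟩ :=
    Groth.L22.AffineDim.dim_formula k (MvPolynomial (Fin n) k) Qb.asIdeal
  have hdn : d = n := by
    have hn : ringKrullDim (MvPolynomial (Fin n) k) = (n : WithBot ℕ∞) := by simp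
    exact_mod_cast hd.symm.trans hn
  let B := MvPolynomial (Fin n) k ⧸ RingHom.ker χ
  let ι : B →ₐ[k] L := Ideal.kerLiftAlg χ
  letI : Algebra B L := ι.toRingHom.toAlgebra
  haveI : IsScalarTower k B L := IsScalarTower.of_algebraMap_eq fun a => (ι.commutes a).symm
  haveI : IsDomain B := Ideal.Quotient.isDomain _
  haveI : FaithfulSMul B L := (faithfulSMul_iff_algebraMap_injective B L).2 (Ideal.kerLiftAlg_injective χ)
  haveI : IsFractionRing B L := IsFractionRing.of_field B L fun z => by
    obtain ⟨⟨a, s⟩, rfl⟩ := IsLocalization.mk'_surjective (nonZeroDivisors (A ⧸ q.asIdeal)) z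
    obtain ⟨a, rfl⟩ := Ideal.Quotient.mk_surjective a
    obtain ⟨s', hs'⟩ := Ideal.Quotient.mk_surjective (s : A ⧸ q.asIdeal)
    obtain ⟨a, rfl⟩ := hψ a
    obtain ⟨s', rfl⟩ := hψ s'
    refine ⟨Ideal.Quotient.mk _ (φ a), Ideal.Quotient.mk _ (φ s'), ?_⟩
    show _ = χ (φ a) / χ (φ s')
    show IsLocalization.mk' L _ s = _
    rw [IsFractionRing.mk'_eq_div, hχ, hχ, ← hs']
    rfl
  have htr := Groth.L22.AffineDim.trdeg_fractionRing k B L (d := e) he
  have her : e ≤ r := by
    rw [htr] at hr'
    exact_mod_cast hr'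
  refine le_trans ?_ hle
  rw [hh]
  exact_mod_cast (show n - r ≤ h by omega)

/-- primes above the kernel of the presentation have height at least `n - r` -/
theorem height_ge_of_minimal [IsNoetherianRing R] {n : ℕ} (ψ : MvPolynomial (Fin n) R →ₐ[R] A)
    (hψ : Function.Surjective ψ) (r : ℕ)
    (hr : ∀ q : PrimeSpectrum A, q.asIdeal ∈ minimalPrimes A →
      Dual3.resTrdeg (Spec.map (CommRingCat.ofHom (algebraMap R A))) q ≤ (r : Cardinal.{u})) :
    ((n - r : ℕ) : ℕ∞) ≤ (RingHom.ker ψ.toRingHom).height := by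
  rw [Ideal.height_eq_inf_minimalPrimes]
  refine le_iInf₂ fun J hJ => ?_
  haveI := hJ.isPrime
  have hJ' : J ∈ (⊥ : Ideal A).minimalPrimes.image (Ideal.comap ψ.toRingHom) := by
    rw [← Ideal.comap_minimalPrimes_eq_of_surjective hψ]
    exact hJ
  obtain ⟨q, hq, rfl⟩ := hJ'
  haveI := hq.isPrime
  exact height_comap_ge ψ hψ ⟨q, inferInstance⟩ r (hr ⟨q, inferInstance⟩ hq)

end Groth.L10.Shriek.CMHeight
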