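import Groth.Agent.L03.FibreLocalDim
import Groth.Agent.L04.FibreDepth
import Groth.Agent.L04.CMLoc
import Groth.Agent.L02.CMMor.Local
import Groth.Agent.L06.DiffCotBase
import Mathlib.RingTheory.RegularLocalRing.Polynomial
import Mathlib.RingTheory.TensorProduct.MvPolynomial
import Mathlib.RingTheory.LocalRing.ResidueField.Fiber

/-!
The grade of the kernel of a polynomial presentation, bounded below by the codimension in the fibre.
-/

set_option autoImplicit false
set_option backward.isDefEq.respectTransparency false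
set_option linter.style.haveILetI false

universe u

open IsLocalRing TensorProduct

namespace Groth.L10.Shriek.FibreDepth

theorem isMaximal_comap_algHom {k B C : Type*} [Field k] [CommRing B] [CommRing C] [Algebra k B] [Algebra k C]
    [Algebra.FiniteType k C] (f : B →ₐ[k] C) (M : Ideal C) [M.IsMaximal] : (M.comap f).IsMaximal := by
  letI := Ideal.Quotient.field M
  haveI : Algebra.FiniteType k (C ⧸ M) :=
    Algebra.FiniteType.of_surjective (Ideal.Quotient.mkₐ k M) Ideal.Quotient.mk_surjective
  haveI : Module.Finite k (C ⧸ M) := finite_of_finite_type_of_isJacobsonRing k _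
  let g : B →ₐ[k] C ⧸ M := (Ideal.Quotient.mkₐ k M).comp f
  have hker : RingHom.ker g = M.comap f := by
    ext x
    simp only [RingHom.mem_ker, Ideal.mem_comap, g, AlgHom.comp_apply, Ideal.Quotient.mkₐ_eq_mk,
      Ideal.Quotient.eq_zero_iff_mem]
  haveI : Algebra.IsIntegral k g.range := Algebra.IsIntegral.of_injective g.range.val Subtype.val_injective
  have hf : IsField g.range := isField_of_isIntegral_of_isField' (Field.toIsField k)
  rw [← hker]
  exact Ideal.Quotient.maximal_of_isField _
    ((Ideal.quotientKerEquivRange g).toMulEquiv.isField hf)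

variable {R A : Type u} [CommRing R] [CommRing A] [Algebra R A]

/-- the dimension and Cohen–Macaulayness of the fibre of a polynomial ring at a closed point of a fibre -/
theorem fibre_poly {n : ℕ} (p : Ideal R) [p.IsPrime]
    (M : Ideal (p.Fiber (MvPolynomial (Fin n) R))) [M.IsMaximal]
    (Q : Ideal (MvPolynomial (Fin n) R)) [Q.IsPrime]
    (hQ : M.comap (Algebra.TensorProduct.includeRight (R := R) (A := p.ResidueField)) = Q)
    [IsNoetherianRing R] :
    LocCoh.IsCohenMacaulayLocalRing
        (Localization.AtPrime Q ⧸ p.map (algebraMap R (Localization.AtPrime Q))) ∧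
      ringKrullDim (Localization.AtPrime Q ⧸ p.map (algebraMap R (Localization.AtPrime Q))) = n := by
  subst hQ
  haveI : (M.comap (Algebra.TensorProduct.includeRight (R := R) (A := p.ResidueField)
    (B := MvPolynomial (Fin n) R))).LiesOver p := ⟨(Ideal.over_def M p).trans
      (Ideal.ext fun x => by
        simp only [Ideal.under_def, Ideal.mem_comap]
        rw [AlgHom.commutes])⟩
  letI := Localization.AtPrime.algebraOfLiesOver p
    (M.comap (Algebra.TensorProduct.includeRight (R := R) (A := p.ResidueField) (B := MvPolynomial (Fin n) R)))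
  let e := (Ideal.Fiber.localizationAlgEquivQuotient p M).toRingEquiv
  let ε := (MvPolynomial.algebraTensorAlgEquiv R p.ResidueField (σ := Fin n)).toRingEquiv
  haveI : IsRegularRing (MvPolynomial (Fin n) p.ResidueField) := inferInstance
  haveI : IsRegularRing (p.Fiber (MvPolynomial (Fin n) R)) := IsRegularRing.of_ringEquiv ε.symm
  haveI : IsRegularLocalRing (Localization.AtPrime M) := inferInstance
  have hcm := Groth.L04.isCohenMacaulayLocalRing_of_regular (Localization.AtPrime M)
  have hM : M.height = n := by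
    haveI : (M.map ε).IsMaximal := Ideal.map_isMaximal_of_equiv ε
    rw [← ε.height_map M]
    exact Groth.L06.DiffCot.height_mvPolynomial _ n _
  have hdim : ringKrullDim (Localization.AtPrime M) = n := by
    refine (IsLocalization.AtPrime.ringKrullDim_eq_height M (Localization.AtPrime M)).trans ?_
    rw [hM]
    rfl
  exact ⟨L02.CMMor.cm_of_ringEquiv e hcm, (ringKrullDim_eq_of_ringEquiv e).symm.trans hdim⟩

/-- near `q` the kernel of a presentation has grade at least the codimension of the fibre -/
theorem exists_prime_idealDepth [IsNoetherianRing R] {n : ℕ}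
    (ψ : MvPolynomial (Fin n) R →ₐ[R] A) (hψ : Function.Surjective ψ) (q : PrimeSpectrum A) (d : ℕ)
    (hd : FlatMor.fibreDimAt
      (AlgebraicGeometry.Spec.map (CommRingCat.ofHom (algebraMap R A))) q ≤ (d : WithBot ℕ∞)) :
    ∃ q' : PrimeSpectrum A, q.asIdeal ≤ q'.asIdeal ∧
      ((n - d : ℕ) : ℕ∞) ≤ LocCoh.idealDepth
        ((RingHom.ker ψ.toRingHom).map (algebraMap (MvPolynomial (Fin n) R)
          (Localization.AtPrime (q'.asIdeal.comap ψ.toRingHom))))
        (Localization.AtPrime (q'.asIdeal.comap ψ.toRingHom)) := by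
  let P := MvPolynomial (Fin n) R
  haveI : Algebra.FiniteType R A := Algebra.FiniteType.of_surjective ψ hψ
  obtain ⟨g, hg, hdim⟩ := Groth.L03.FibreLocalDim.exists_basic_fibre_le q (d : WithBot ℕ∞) hd
  let A' := Localization.Away g
  let p := PrimeSpectrum.comap (algebraMap R A) q
  haveI : Algebra.FiniteType R A' := (inferInstance : Algebra.FiniteType R A).trans
    (IsLocalization.finiteType_of_monoid_fg (Submonoid.powers g) A')
  let ι := IsScalarTower.toAlgHom R A A'
  let φ : p.asIdeal.Fiber P →ₐ[p.asIdeal.ResidueField] p.asIdeal.Fiber A' :=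
    Algebra.TensorProduct.map (AlgHom.id _ _) (ι.comp ψ)
  obtain ⟨w, hw⟩ : q ∈ Set.range (PrimeSpectrum.comap (algebraMap A A')) := by
    rw [PrimeSpectrum.localization_away_comap_range A' g]; exact hg
  have hwp : PrimeSpectrum.comap (algebraMap R A') w = p := by
    rw [IsScalarTower.algebraMap_eq R A A', PrimeSpectrum.comap_comp_apply, hw]
  let O := PrimeSpectrum.preimageOrderIsoFiber R A' p
  obtain ⟨M, hM, hMle⟩ := Ideal.exists_le_maximal (O ⟨w, hwp⟩).asIdeal (O ⟨w, hwp⟩).2.ne_top
  let M' := M.comap φ
  haveI : M'.IsMaximal := isMaximal_comap_algHom φ M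
  let mz := O.symm ⟨M, hM.isPrime⟩
  let q' : PrimeSpectrum A := PrimeSpectrum.comap (algebraMap A A') mz.1
  have hwm : (⟨w, hwp⟩ : {z | PrimeSpectrum.comap (algebraMap R A') z = p}) ≤ mz :=
    (O.le_symm_apply).2 hMle
  have hqq : q.asIdeal ≤ q'.asIdeal := by
    rw [← hw]
    exact Ideal.comap_mono hwm
  refine ⟨q', hqq, ?_⟩
  let I : Ideal P := RingHom.ker ψ.toRingHom
  let Q : Ideal P := q'.asIdeal.comap ψ.toRingHom
  let S := Localization.AtPrime Q
  show ((n - d : ℕ) : ℕ∞) ≤ LocCoh.idealDepth (I.map (algebraMap P S)) S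
  have hQ : M'.comap (Algebra.TensorProduct.includeRight (R := R) (A := p.asIdeal.ResidueField)) = Q := by
    ext x
    show φ (1 ⊗ₜ[R] x) ∈ M ↔ (1 : p.asIdeal.ResidueField) ⊗ₜ[R] (algebraMap A A' (ψ x)) ∈ M
    rw [Algebra.TensorProduct.map_tmul]
    rfl
  obtain ⟨hCM, hn⟩ := fibre_poly p.asIdeal M' Q hQ
  have hQp : Q.comap (algebraMap R P) = p.asIdeal := by
    show Ideal.comap _ (Ideal.comap ψ.toRingHom (Ideal.comap (algebraMap A A') mz.1.asIdeal)) = _
    rw [Ideal.comap_comap, Ideal.comap_comap]
    have : (algebraMap A A').comp (ψ.toRingHom.comp (algebraMap R P)) = algebraMap R A' := by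
      rw [IsScalarTower.algebraMap_eq R A A']
      congr 1
      exact AlgHom.comp_algebraMap ψ
    rw [this]
    exact congrArg PrimeSpectrum.asIdeal mz.2
  haveI : Q.LiesOver p.asIdeal := ⟨hQp.symm⟩
  letI := Localization.AtPrime.algebraOfLiesOver p.asIdeal Q
  haveI : IsLocalHom (algebraMap (Localization.AtPrime p.asIdeal) S) := inferInstance
  haveI : Module.Flat R P := Module.Flat.of_free
  haveI : Module.Flat P S := IsLocalization.flat S Q.primeCompl
  haveI : Module.Flat R S := Module.Flat.trans R P S
  haveI : Module.Flat (Localization.AtPrime p.asIdeal) S :=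
    (Module.flat_iff_of_isLocalization (Localization.AtPrime p.asIdeal) p.asIdeal.primeCompl S).mpr inferInstance
  haveI : IsNoetherianRing S := IsLocalization.isNoetherianRing Q.primeCompl S inferInstance
  haveI : IsNoetherianRing (Localization.AtPrime p.asIdeal) :=
    IsLocalization.isNoetherianRing p.asIdeal.primeCompl _ inferInstance
  have hJ : (maximalIdeal (Localization.AtPrime p.asIdeal)).map (algebraMap _ S) =
      p.asIdeal.map (algebraMap R S) := by
    rw [← Localization.AtPrime.map_eq_maximalIdeal, Ideal.map_map, ← IsScalarTower.algebraMap_eq]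
  have hIQ : I ≤ Q := Ideal.comap_mono bot_le
  have hItop : I.map (algebraMap P S) ≠ ⊤ := by
    refine ne_top_of_le_ne_top (maximalIdeal.isMaximal S).ne_top ?_
    rw [← IsLocalization.AtPrime.map_eq_maximalIdeal Q S]
    exact Ideal.map_mono hIQ
  have key := Groth.L04.ringKrullDim_fibre_le_add_idealDepth (R := Localization.AtPrime p.asIdeal)
    (by rw [hJ]; exact hCM) hItop
  rw [hJ, hn] at key
  -- the fibre of `A` near `q` bounds the dimension of the quotient
  let J := p.asIdeal.map (algebraMap R S) ⊔ I.map (algebraMap P S)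
  have hle : ringKrullDim (S ⧸ J) ≤ (d : WithBot ℕ∞) := by
    refine le_trans ?_ hdim
    have hz : ∀ z : PrimeSpectrum (S ⧸ J), ∀ {Z : Ideal P},
        Z = z.asIdeal.comap ((Ideal.Quotient.mk J).comp (algebraMap P S)) →
        I ≤ Z ∧ Z ≤ Q ∧ p.asIdeal ≤ Z.comap (algebraMap R P) := by
      rintro z Z rfl
      refine ⟨fun x hx => ?_, ?_, fun r hr => ?_⟩
      · show Ideal.Quotient.mk J (algebraMap P S x) ∈ z.asIdeal
        rw [Ideal.Quotient.eq_zero_iff_mem.2 (Ideal.mem_sup_right (Ideal.mem_map_of_mem _ hx))]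
        exact zero_mem _
      · rw [← Ideal.comap_comap]
        exact (Ideal.comap_mono (le_maximalIdeal (z.2.comap (Ideal.Quotient.mk J)).ne_top)).trans
          (IsLocalization.AtPrime.comap_maximalIdeal S Q).le
      · show Ideal.Quotient.mk J (algebraMap P S (algebraMap R P r)) ∈ z.asIdeal
        rw [← IsScalarTower.algebraMap_apply,
          Ideal.Quotient.eq_zero_iff_mem.2 (Ideal.mem_sup_left (Ideal.mem_map_of_mem _ hr))]
        exact zero_mem _
    have hker : ∀ z : PrimeSpectrum (S ⧸ J),
        RingHom.ker ψ.toRingHom ≤ z.asIdeal.comap ((Ideal.Quotient.mk J).comp (algebraMap P S)) :=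
      fun z => (hz z rfl).1
    let toA : PrimeSpectrum (S ⧸ J) → PrimeSpectrum A := fun z =>
      ⟨(z.asIdeal.comap ((Ideal.Quotient.mk J).comp (algebraMap P S))).map ψ.toRingHom,
        Ideal.map_isPrime_of_surjective hψ (hker z)⟩
    have htoA : ∀ z, (toA z).asIdeal.comap ψ.toRingHom =
        z.asIdeal.comap ((Ideal.Quotient.mk J).comp (algebraMap P S)) := fun z => by
      show Ideal.comap ψ.toRingHom (Ideal.map ψ.toRingHom _) = _
      refine (Ideal.comap_map_of_surjective ψ.toRingHom hψ _).trans ?_
      exact sup_eq_left.2 (hker z)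
    have hsub : ∀ z, (toA z).asIdeal ≤ q'.asIdeal := fun z => by
      refine (Ideal.comap_le_comap_iff_of_surjective ψ.toRingHom hψ _ _).1 ?_
      rw [htoA]
      exact (hz z rfl).2.1
    have hgq' : g ∉ q'.asIdeal := fun h => mz.1.2.ne_top <|
      Ideal.eq_top_of_isUnit_mem _ h (IsLocalization.Away.algebraMap_isUnit g)
    let toA' : PrimeSpectrum (S ⧸ J) → PrimeSpectrum A' := fun z =>
      ⟨(toA z).asIdeal.map (algebraMap A A'), IsLocalization.isPrime_of_isPrime_disjoint (Submonoid.powers g) _ _
        (toA z).2 (by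
          rw [Set.disjoint_left]
          rintro x ⟨k, rfl⟩ hx
          exact hgq' (hsub z ((toA z).2.mem_of_pow_mem k hx)))⟩
    have htoA' : ∀ z, (toA' z).asIdeal.comap (algebraMap A A') = (toA z).asIdeal := fun z =>
      IsLocalization.comap_map_of_isPrime_disjoint (Submonoid.powers g) _ (toA z).2 (by
          rw [Set.disjoint_left]
          rintro x ⟨k, rfl⟩ hx
          exact hgq' (hsub z ((toA z).2.mem_of_pow_mem k hx)))
    have hover : ∀ z, PrimeSpectrum.comap (algebraMap R A') (toA' z) = p := fun z => by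
      refine PrimeSpectrum.ext ?_
      show (toA' z).asIdeal.comap (algebraMap R A') = p.asIdeal
      rw [IsScalarTower.algebraMap_eq R A A', ← Ideal.comap_comap, htoA']
      rw [← AlgHom.comp_algebraMap ψ, ← Ideal.comap_comap]
      erw [htoA]
      exact le_antisymm (hQp ▸ Ideal.comap_mono (hz z rfl).2.1) (hz z rfl).2.2
    refine Order.krullDim_le_of_strictMono (fun z => O ⟨toA' z, hover z⟩) (Monotone.strictMono_of_injective ?_ ?_)
    · intro z z' h
      exact O.monotone (show (toA' z).asIdeal ≤ (toA' z').asIdeal from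
        Ideal.map_mono (Ideal.map_mono (Ideal.comap_mono h)))
    · intro z z' h
      have h1 := congrArg (fun t => t.1.asIdeal.comap (algebraMap A A')) (O.injective h)
      simp only [htoA'] at h1
      have h2 : z.asIdeal.comap ((Ideal.Quotient.mk J).comp (algebraMap P S)) =
          z'.asIdeal.comap ((Ideal.Quotient.mk J).comp (algebraMap P S)) := by
        rw [← htoA z, ← htoA z', h1]
      rw [← Ideal.comap_comap, ← Ideal.comap_comap] at h2
      refine PrimeSpectrum.ext (Ideal.comap_injective_of_surjective _ Ideal.Quotient.mk_surjective ?_)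
      exact ((IsLocalization.map_comap Q.primeCompl S (z.asIdeal.comap (Ideal.Quotient.mk J))).symm.trans
        (congrArg (Ideal.map (algebraMap P S)) h2)).trans
        (IsLocalization.map_comap Q.primeCompl S (z'.asIdeal.comap (Ideal.Quotient.mk J)))
  have key' : (n : WithBot ℕ∞) ≤ (d : WithBot ℕ∞) + ((LocCoh.idealDepth (I.map (algebraMap P S)) S : ℕ∞) : WithBot ℕ∞) :=
    key.trans (add_le_add hle le_rfl)
  have key'' : (n : ℕ∞) ≤ (d : ℕ∞) + LocCoh.idealDepth (I.map (algebraMap P S)) S := by exact_mod_cast key'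
  rw [ENat.coe_sub]
  exact tsub_le_iff_left.2 key''

end Groth.L10.Shriek.FibreDepth
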