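import Groth.Agent.L10.Shriek.FiniteFree
import Groth.Prelude.Def_DualSh
import Mathlib.RingTheory.AdjoinRoot
import Mathlib.RingTheory.IntegralClosure.IsIntegralClosure.Basic
import Mathlib.RingTheory.TensorProduct.Free
import Mathlib.RingTheory.TensorProduct.MvPolynomial

/-! The upper shriek of a finite algebra. -/

universe u

open CategoryTheory CategoryTheory.Limits TensorProduct

attribute [local instance] HasDerivedCategory.standard

set_option backward.defeqAttrib.useBackward true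
set_option backward.isDefEq.respectTransparency false
set_option linter.style.haveILetI false

namespace Groth.L10.Shriek

variable {R A : Type u} [CommRing R] [CommRing A] [Algebra R A]

/-- a finite free algebra covering given integral elements -/
theorem exists_free_cover : ∀ (n : ℕ) (x : Fin n → A), (∀ i, IsIntegral R (x i)) →
    ∃ (B : Type u) (_ : CommRing B) (_ : Algebra R B), Module.Free R B ∧ Module.Finite R B ∧
      ∃ π : B →ₐ[R] A, ∀ i, ∃ b, π b = x i
  | 0, _, _ => ⟨R, inferInstance, inferInstance, inferInstance, inferInstance, Algebra.ofId R A, fun i => i.elim0⟩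
  | n + 1, x, hx => by
    obtain ⟨B, hB, hBA, hfree, hfin, π, hπ⟩ := exists_free_cover n (fun i => x i.succ) fun i => hx i.succ
    obtain ⟨f, hf, hf0⟩ := hx 0
    haveI := hf.free_adjoinRoot
    haveI := hf.finite_adjoinRoot
    let g : AdjoinRoot f →ₐ[R] A := AdjoinRoot.liftAlgHom f (Algebra.ofId R A) (x 0) hf0
    refine ⟨AdjoinRoot f ⊗[R] B, inferInstance, inferInstance, inferInstance, inferInstance,
      Algebra.TensorProduct.lift g π fun _ _ => Commute.all _ _, fun i => ?_⟩
    refine Fin.cases ⟨AdjoinRoot.root f ⊗ₜ 1, ?_⟩ (fun j => ?_) i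
    · rw [Algebra.TensorProduct.lift_tmul, map_one, mul_one]
      exact AdjoinRoot.liftAlgHom_root ..
    · obtain ⟨b, hb⟩ := hπ j
      exact ⟨1 ⊗ₜ b, by rw [Algebra.TensorProduct.lift_tmul, map_one, one_mul, hb]⟩

/-- the upper shriek of a finite algebra is the right adjoint of restriction -/
theorem nonempty_finite [Module.Finite R A] (n : ℕ) (ψ : MvPolynomial (Fin n) R →ₐ[R] A)
    [DRing.HasLBaseChange (algebraMap R (MvPolynomial (Fin n) R))]
    {Rψ : Dual.D (MvPolynomial (Fin n) R) ⥤ Dual.D A} (adj : DRing.restrictD ψ.toRingHom ⊣ Rψ)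
    {R' : Dual.D R ⥤ Dual.D A} (adjR : DRing.restrictD (algebraMap R A) ⊣ R') (K : Dual.D R) :
    Nonempty (Dual2.shriekVia n Rψ K ≅ R'.obj K) := by
  obtain ⟨B, _, _, hfree, hfin, π, hπ⟩ := exists_free_cover n (fun i => ψ (MvPolynomial.X i))
    fun i => IsIntegral.of_finite R _
  choose b hb using hπ
  let T := MvPolynomial (Fin n) B
  letI : Algebra (MvPolynomial (Fin n) R) T := MvPolynomial.algebraMvPolynomial
  obtain ⟨R1, ⟨adj1⟩⟩ := exists_rightAdjoint (algebraMap (MvPolynomial (Fin n) R) T)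
  obtain ⟨RB, ⟨adjB⟩⟩ := exists_rightAdjoint (algebraMap R B)
  obtain ⟨Rev, ⟨adjev⟩⟩ := exists_rightAdjoint (MvPolynomial.eval b : T →+* B)
  obtain ⟨Rπ, ⟨adjπ⟩⟩ := exists_rightAdjoint π.toRingHom
  obtain ⟨Rf, ⟨adjf⟩⟩ := exists_rightAdjoint
    ((MvPolynomial.eval b).comp (algebraMap (MvPolynomial (Fin n) R) T))
  haveI := KFlatLBC.hasLBaseChange (algebraMap B T)
  have hψ : ψ.toRingHom = π.toRingHom.comp ((MvPolynomial.eval b).comp (algebraMap (MvPolynomial (Fin n) R) T)) := by
    refine MvPolynomial.ringHom_ext (fun r => ?_) fun i => ?_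
    · show ψ (MvPolynomial.C r) = π (MvPolynomial.eval b (MvPolynomial.map (algebraMap R B) (MvPolynomial.C r)))
      rw [MvPolynomial.map_C, MvPolynomial.eval_C, π.commutes]
      exact ψ.commutes r
    · show ψ (MvPolynomial.X i) = π (MvPolynomial.eval b (MvPolynomial.map (algebraMap R B) (MvPolynomial.X i)))
      rw [MvPolynomial.map_X, MvPolynomial.eval_X, hb]
  obtain ⟨c1⟩ := nonempty_comp_rightAdjoint (φ := algebraMap (MvPolynomial (Fin n) R) T)
    (ψ := MvPolynomial.eval b) rfl adj1 adjev adjf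
  obtain ⟨c2⟩ := nonempty_comp_rightAdjoint hψ adjf adjπ adj
  obtain ⟨c3⟩ := nonempty_comp_rightAdjoint (φ := algebraMap R B) (ψ := π.toRingHom)
    (RingHom.ext fun r => (π.commutes r).symm) adjB adjπ adjR
  obtain ⟨bc⟩ := nonempty_bc_rightAdjoint R (MvPolynomial (Fin n) R) B T adjB adj1 K
  obtain ⟨s1⟩ := nonempty_shift adjπ (Rev.obj (R1.obj ((DRing.LBaseChange (algebraMap R (MvPolynomial (Fin n) R))).obj K))) n
  obtain ⟨s2⟩ := nonempty_shift adjev ((DRing.LBaseChange (algebraMap B T)).obj (RB.obj K)) n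
  have hev : SecShift (algebraMap B T) (MvPolynomial.eval b) n := by
    rw [MvPolynomial.algebraMap_eq]
    exact @secShift_eval B _ n b
  obtain ⟨e⟩ := hev Rev adjev (RB.obj K)
  exact ⟨(shiftFunctor (Dual.D A) (n : ℤ)).mapIso (c2.app _ ≪≫ Rπ.mapIso (c1.app _)) ≪≫ s1.symm ≪≫
    Rπ.mapIso ((shiftFunctor (Dual.D B) (n : ℤ)).mapIso (Rev.mapIso bc.symm) ≪≫ s2.symm ≪≫ e) ≪≫ (c3.app K).symm⟩

end Groth.L10.Shriek
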