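import Groth.Agent.L10.Shriek.Section
import Groth.Agent.L10.Shriek.Adjoint
import Groth.Agent.L10.Shriek.Poly
import Groth.Agent.L10.RelPC.BC
import Mathlib.Algebra.Homology.ShortComplex.ExactFunctor
import Mathlib.LinearAlgebra.FreeModule.Basic

/-!
Flat base change of the right adjoint of restriction along a finite free algebra.
-/

universe u

open CategoryTheory CategoryTheory.Limits CategoryTheory.Pretriangulated TensorProduct

attribute [local instance] HasDerivedCategory.standard

set_option backward.defeqAttrib.useBackward true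
set_option backward.isDefEq.respectTransparency false
set_option linter.style.haveILetI false

namespace Groth.L10.Shriek

section Coext

variable {R S : Type u} [CommRing R] [CommRing S] (φ : R →+* S)

theorem preservesFiniteColimits_coext
    (hp : Module.Projective R ((ModuleCat.restrictScalars.{u} φ).obj (ModuleCat.of S S))) :
    PreservesFiniteColimits (ModuleCat.coextendScalars.{u, u, u} φ) := by
  let G := ModuleCat.coextendScalars.{u, u, u} φ
  haveI : G.IsRightAdjoint := (ModuleCat.restrictCoextendScalarsAdj φ).isRightAdjoint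
  haveI : PreservesFiniteLimits G := inferInstance
  refine (Functor.preservesFiniteColimits_iff_forall_exact_map_and_epi G).2 fun T hT => ⟨?_, ?_⟩
  · have h30 : PreservesFiniteLimits G ↔ ∀ (T : ShortComplex (ModuleCat.{u} R)), T.ShortExact →
        (T.map G).Exact ∧ Mono (G.map T.f) := (Functor.preservesFiniteLimits_tfae G).out 3 0
    exact (h30.1 inferInstance T hT).1
  · refine ConcreteCategory.epi_of_surjective _ fun h => ?_
    haveI := hT.epi_g
    haveI := hp
    obtain ⟨k, hk⟩ := Module.projective_lifting_property T.g.hom (ModuleCat.CoextendScalars.equiv φ T.X₃ h)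
      ((ModuleCat.epi_iff_surjective T.g).1 inferInstance)
    exact ⟨(ModuleCat.CoextendScalars.equiv φ T.X₂).symm k, ModuleCat.CoextendScalars.ext hk⟩

variable [PreservesFiniteLimits (ModuleCat.coextendScalars.{u, u, u} φ)]
  [PreservesFiniteColimits (ModuleCat.coextendScalars.{u, u, u} φ)]

noncomputable def coextAdjC : (ModuleCat.restrictScalars.{u} φ).mapHomologicalComplex (ComplexShape.up ℤ) ⊣
    (ModuleCat.coextendScalars.{u, u, u} φ).mapHomologicalComplex (ComplexShape.up ℤ) :=
  Adjunction.mkOfUnitCounit
    { unit :=
        { app := fun K =>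
            { f := fun n => (ModuleCat.restrictCoextendScalarsAdj φ).unit.app (K.X n)
              comm' := fun i j _ => ((ModuleCat.restrictCoextendScalarsAdj φ).unit.naturality (K.d i j)).symm }
          naturality := fun K L f => by
            ext n : 1
            exact (ModuleCat.restrictCoextendScalarsAdj φ).unit.naturality (f.f n) }
      counit :=
        { app := fun K =>
            { f := fun n => (ModuleCat.restrictCoextendScalarsAdj φ).counit.app (K.X n)
              comm' := fun i j _ => ((ModuleCat.restrictCoextendScalarsAdj φ).counit.naturality (K.d i j)).symm }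
          naturality := fun K L f => by
            ext n : 1
            exact (ModuleCat.restrictCoextendScalarsAdj φ).counit.naturality (f.f n) }
      left_triangle := by
        ext K n : 3
        simpa using (ModuleCat.restrictCoextendScalarsAdj φ).left_triangle_components (K.X n)
      right_triangle := by
        ext K n : 3
        simpa using (ModuleCat.restrictCoextendScalarsAdj φ).right_triangle_components (K.X n) }

noncomputable instance : CatCommSq ((ModuleCat.coextendScalars.{u, u, u} φ).mapHomologicalComplex (ComplexShape.up ℤ))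
    DerivedCategory.Q DerivedCategory.Q (ModuleCat.coextendScalars.{u, u, u} φ).mapDerivedCategory :=
  ⟨((ModuleCat.coextendScalars.{u, u, u} φ).mapDerivedCategoryFactors).symm⟩

noncomputable instance : CatCommSq ((ModuleCat.restrictScalars.{u} φ).mapHomologicalComplex (ComplexShape.up ℤ))
    DerivedCategory.Q DerivedCategory.Q (DRing.restrictD φ) :=
  ⟨((ModuleCat.restrictScalars.{u} φ).mapDerivedCategoryFactors).symm⟩

/-- the adjunction with coinduction -/
noncomputable def coextAdjD : DRing.restrictD φ ⊣ (ModuleCat.coextendScalars.{u, u, u} φ).mapDerivedCategory :=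
  (coextAdjC φ).localization DerivedCategory.Q (HomologicalComplex.quasiIso (ModuleCat.{u} S) (ComplexShape.up ℤ))
    DerivedCategory.Q (HomologicalComplex.quasiIso (ModuleCat.{u} R) (ComplexShape.up ℤ)) _ _

end Coext

section BC

variable (A A' S S' : Type u) [CommRing A] [CommRing A'] [CommRing S] [CommRing S']
  [Algebra A A'] [Algebra A S] [Algebra A' S'] [Algebra S S'] [Algebra A S']
  [IsScalarTower A A' S'] [IsScalarTower A S S'] [Algebra.IsPushout A A' S S']

/-- comparison of coinductions -/
noncomputable def coextComp : ModuleCat.coextendScalars.{u, u, u} (algebraMap A S) ⋙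
      ModuleCat.extendScalars.{u, u, u} (algebraMap S S') ⟶
    ModuleCat.extendScalars.{u, u, u} (algebraMap A A') ⋙
      ModuleCat.coextendScalars.{u, u, u} (algebraMap A' S') where
  app M := (ModuleCat.restrictCoextendScalarsAdj (algebraMap A' S')).homEquiv _ _
    ((RelPC.extResNat A A' S S').inv.app _ ≫ (ModuleCat.extendScalars.{u, u, u} (algebraMap A A')).map
      ((ModuleCat.restrictCoextendScalarsAdj (algebraMap A S)).counit.app M))
  naturality M N f := by
    simp only [Functor.comp_map]
    erw [← Adjunction.homEquiv_naturality_left, ← Adjunction.homEquiv_naturality_right]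
    congr 1
    have hn := (RelPC.extResNat A A' S S').inv.naturality ((ModuleCat.coextendScalars.{u, u, u} (algebraMap A S)).map f)
    simp only [Functor.comp_map] at hn
    erw [reassoc_of% hn]
    rw [Category.assoc, ← Functor.map_comp, ← Functor.map_comp]
    congr 2

theorem isIso_coextComp [Module.Free A S] [Module.Finite A S] (M : ModuleCat.{u} A) :
    IsIso ((coextComp A A' S S').app M) := by
  classical
  let b := Module.Free.chooseBasis A S
  let b' := (Algebra.TensorProduct.basis A' b).map (Algebra.IsPushout.equiv A A' S S').toLinearEquiv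
  have hb' : ∀ i, b' i = algebraMap S S' (b i) := fun i => by
    simp [b', Algebra.IsPushout.equiv_tmul]
  let H := (ModuleCat.coextendScalars.{u, u, u} (algebraMap A S)).obj M
  let H₀ := (ModuleCat.restrictScalars.{u} (algebraMap A S)).obj H
  let hA : (ModuleCat.restrictScalars.{u} (algebraMap A S)).obj (ModuleCat.of S S) ≃ₗ[A] S :=
    { AddEquiv.refl S with map_smul' := fun a x => (Algebra.smul_def a (show S from x)).symm }
  let hA' : (ModuleCat.restrictScalars.{u} (algebraMap A' S')).obj (ModuleCat.of S' S') ≃ₗ[A'] S' :=
    { AddEquiv.refl S' with map_smul' := fun a x => (Algebra.smul_def a (show S' from x)).symm }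
  let E := (ModuleCat.extendScalars.{u, u, u} (algebraMap A A')).obj M
  -- coordinates on coinduced modules
  let ψ₀ : H₀ →ₗ[A] (Module.Free.ChooseBasisIndex A S → M) :=
    { toFun := fun h i => ModuleCat.CoextendScalars.equiv (algebraMap A S) M h (hA.symm (b i))
      map_add' := fun _ _ => rfl
      map_smul' := fun a h => funext fun i => by
        let f := ModuleCat.CoextendScalars.equiv (algebraMap A S) M h
        show f (show S from b i * algebraMap A S a) = a • f (hA.symm (b i))
        rw [← map_smul f, mul_comm]
        rfl }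
  have hψ₀ : Function.Bijective ψ₀ := by
    refine ⟨fun h h' hh => ModuleCat.CoextendScalars.ext ?_, fun v => ?_⟩
    · exact (b.map hA.symm).ext fun i => by
        rw [Module.Basis.map_apply]
        exact congrFun hh i
    · refine ⟨(ModuleCat.CoextendScalars.equiv (algebraMap A S) M).symm
        ((b.constr A v).comp hA.toLinearMap), funext fun i => ?_⟩
      show (b.constr A v) (hA (hA.symm (b i))) = v i
      rw [LinearEquiv.apply_symm_apply, Module.Basis.constr_basis]
  let ψ₁ : (ModuleCat.coextendScalars.{u, u, u} (algebraMap A' S')).obj E →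
      (Module.Free.ChooseBasisIndex A S → E) :=
    fun f i => ModuleCat.CoextendScalars.equiv (algebraMap A' S') E f (hA'.symm (b' i))
  have hψ₁ : Function.Injective ψ₁ := fun f f' hff => ModuleCat.CoextendScalars.ext
    ((b'.map hA'.symm).ext fun i => by simpa using congrFun hff i)
  letI : Algebra A A' := ‹Algebra A A'›
  let Φ : A' ⊗[A] H₀ ≃ₗ[A] (Module.Free.ChooseBasisIndex A S → A' ⊗[A] M) :=
    (TensorProduct.congr (LinearEquiv.refl A A') (LinearEquiv.ofBijective ψ₀ hψ₀)).trans
      ((TensorProduct.piRight A A A' fun _ => M).restrictScalars A)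
  let g := (coextComp A A' S S').app M
  let e := (RelPC.extResNat A A' S S').app H
  let xM := Groth.L29.FlatBC.extEquiv A A' M
  let xH := Groth.L29.FlatBC.extEquiv A A' H₀
  have key : ∀ (y : A' ⊗[A] H₀) i, xM (ψ₁ (g.hom (e.hom.hom (xH.symm y))) i) = Φ y i := by
    intro y i
    induction y using TensorProduct.induction_on with
    | zero =>
      rw [map_zero xH.symm, map_zero Φ]
      erw [map_zero]
      first | rfl | exact map_zero xM
    | add x y hx hy =>
      erw [map_add, map_add, map_add]
      rw [map_add, Pi.add_apply, ← hx, ← hy]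
      exact map_add xM _ _
    | tmul a h =>
      let p : S := b i
      let x₀ : (ModuleCat.extendScalars.{u, u, u} (algebraMap A A')).obj H₀ :=
        xH.symm (a ⊗ₜ[A] (show H₀ from (p • (show H from h) : H)))
      letI : Module A H := Module.compHom H (algebraMap A S)
      haveI : IsScalarTower A S H := IsScalarTower.of_algebraMap_smul fun _ _ => rfl
      let xS := Groth.L29.FlatBC.extEquiv S S' H
      have he' : ∀ m : H₀, (show (ModuleCat.extendScalars.{u, u, u} (algebraMap S S')).obj H from
          e.hom.hom (xH.symm (a ⊗ₜ[A] m))) = xS.symm (algebraMap A' S' a ⊗ₜ[S] (show H from m)) := fun m => by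
        change xS.symm ((Algebra.IsPushout.cancelBaseChange A A' S S' H).symm (xH (xH.symm (a ⊗ₜ[A] m)))) = _
        rw [LinearEquiv.apply_symm_apply]
        congr 1
        exact Algebra.IsPushout.cancelBaseChange_symm_tmul A A' S S' H a m
      have h1 : (b' i) • (show (ModuleCat.extendScalars.{u, u, u} (algebraMap S S')).obj H from
          e.hom.hom (xH.symm (a ⊗ₜ[A] h))) = e.hom.hom x₀ := by
        rw [he' h]
        refine Eq.trans ?_ (he' _).symm
        rw [← map_smul, hb', TensorProduct.smul_tmul', algebraMap_smul]
        exact congrArg xS.symm (TensorProduct.smul_tmul p (algebraMap A' S' a) (show H from h))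
      have h2 : ψ₁ (g.hom (e.hom.hom (xH.symm (a ⊗ₜ[A] h)))) i =
          ((ModuleCat.extendScalars.{u, u, u} (algebraMap A A')).map
            ((ModuleCat.restrictCoextendScalarsAdj (algebraMap A S)).counit.app M)).hom
            (((RelPC.extResNat A A' S S').inv.app H).hom (e.hom.hom x₀)) := by
        rw [← h1]
        rfl
      rw [h2]
      erw [Iso.hom_inv_id_app_apply]
      show a ⊗ₜ[A] _ = a ⊗ₜ[A] _
      congr 1
      show ModuleCat.CoextendScalars.equiv (algebraMap A S) M h (hA.symm ((1 : S) * p)) = _
      rw [one_mul]
      rfl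
  refine (ConcreteCategory.isIso_iff_bijective _).2 ?_
  have he : Function.Bijective (fun y => e.hom.hom (xH.symm y)) :=
    ((ConcreteCategory.isIso_iff_bijective e.hom).1 inferInstance).comp xH.symm.bijective
  refine ⟨fun x y hxy => ?_, fun z => ?_⟩
  · obtain ⟨x, rfl⟩ := he.2 x
    obtain ⟨y, rfl⟩ := he.2 y
    refine congrArg (fun y => e.hom.hom (xH.symm y)) (Φ.injective (funext fun i => ?_))
    exact (key x i).symm.trans ((congrArg (fun z => xM (ψ₁ z i)) hxy).trans (key y i))
  · obtain ⟨x, hx⟩ := Φ.surjective fun i => xM (ψ₁ z i)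
    refine ⟨e.hom.hom (xH.symm x), hψ₁ (funext fun i => xM.injective ?_)⟩
    exact (key x i).trans (congrFun hx i)

/-- flat base change of the right adjoint along a finite free algebra -/
theorem nonempty_bc_rightAdjoint [Module.Free A S] [Module.Finite A S] [Module.Flat A A']
    [DRing.HasLBaseChange (algebraMap A A')] [DRing.HasLBaseChange (algebraMap S S')]
    {Rφ : Dual.D A ⥤ Dual.D S} (adj : DRing.restrictD (algebraMap A S) ⊣ Rφ)
    {Rφ' : Dual.D A' ⥤ Dual.D S'} (adj' : DRing.restrictD (algebraMap A' S') ⊣ Rφ') (K : Dual.D A) :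
    Nonempty ((DRing.LBaseChange (algebraMap S S')).obj (Rφ.obj K) ≅
      Rφ'.obj ((DRing.LBaseChange (algebraMap A A')).obj K)) := by
  let b' := (Algebra.TensorProduct.basis A' (Module.Free.chooseBasis A S)).map
    (Algebra.IsPushout.equiv A A' S S').toLinearEquiv
  haveI : Module.Flat S S' := by
    have := Algebra.IsPushout.symm ‹Algebra.IsPushout A A' S S'›
    exact Module.Flat.of_linearEquiv (Algebra.IsPushout.equiv A S A' S').toLinearEquiv.symm
  haveI : PreservesFiniteLimits (ModuleCat.extendScalars.{u, u, u} (algebraMap A A')) :=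
    preservesFiniteLimits_ext _ (RingHom.flat_algebraMap_iff.2 inferInstance)
  haveI : PreservesFiniteLimits (ModuleCat.extendScalars.{u, u, u} (algebraMap S S')) :=
    preservesFiniteLimits_ext _ (RingHom.flat_algebraMap_iff.2 inferInstance)
  haveI : (ModuleCat.coextendScalars.{u, u, u} (algebraMap A S)).IsRightAdjoint :=
    (ModuleCat.restrictCoextendScalarsAdj _).isRightAdjoint
  haveI : (ModuleCat.coextendScalars.{u, u, u} (algebraMap A' S')).IsRightAdjoint :=
    (ModuleCat.restrictCoextendScalarsAdj _).isRightAdjoint
  haveI := preservesFiniteColimits_coext (algebraMap A S) (Module.Projective.of_equiv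
    (LinearEquiv.symm ({ AddEquiv.refl S with map_smul' := fun a x => (Algebra.smul_def a (show S from x)).symm } :
      (ModuleCat.restrictScalars.{u} (algebraMap A S)).obj (ModuleCat.of S S) ≃ₗ[A] S)))
  haveI : Module.Projective A' S' := Module.Projective.of_basis b'
  haveI := preservesFiniteColimits_coext (algebraMap A' S') (Module.Projective.of_equiv
    (LinearEquiv.symm ({ AddEquiv.refl S' with map_smul' := fun a x => (Algebra.smul_def a (show S' from x)).symm } :
      (ModuleCat.restrictScalars.{u} (algebraMap A' S')).obj (ModuleCat.of S' S') ≃ₗ[A'] S')))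
  let u := adj.rightAdjointUniq (coextAdjD (algebraMap A S))
  let u' := adj'.rightAdjointUniq (coextAdjD (algebraMap A' S'))
  let K₀ := DerivedCategory.Q.objPreimage K
  let eK : DerivedCategory.Q.obj K₀ ≅ K := DerivedCategory.Q.objObjPreimageIso K
  haveI : ∀ M, IsIso ((coextComp A A' S S').app M) := isIso_coextComp A A' S S'
  haveI : IsIso (coextComp A A' S S') := NatIso.isIso_of_isIso_app _
  let ec : ((ModuleCat.extendScalars.{u, u, u} (algebraMap S S')).mapHomologicalComplex (ComplexShape.up ℤ)).obj
        (((ModuleCat.coextendScalars.{u, u, u} (algebraMap A S)).mapHomologicalComplex (ComplexShape.up ℤ)).obj K₀) ≅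
      ((ModuleCat.coextendScalars.{u, u, u} (algebraMap A' S')).mapHomologicalComplex (ComplexShape.up ℤ)).obj
        (((ModuleCat.extendScalars.{u, u, u} (algebraMap A A')).mapHomologicalComplex (ComplexShape.up ℤ)).obj K₀) :=
    HomologicalComplex.Hom.isoOfComponents (fun i => (asIso (coextComp A A' S S')).app (K₀.X i))
      (fun i j _ => ((coextComp A A' S S').naturality (K₀.d i j)).symm)
  obtain ⟨l₁⟩ := nonempty_lbc_iso_ED (algebraMap S S')
    ((ModuleCat.coextendScalars.{u, u, u} (algebraMap A S)).mapDerivedCategory.obj (DerivedCategory.Q.obj K₀))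
  obtain ⟨l₂⟩ := nonempty_lbc_iso_ED (algebraMap A A') K
  exact ⟨(DRing.LBaseChange (algebraMap S S')).mapIso (Rφ.mapIso eK.symm ≪≫ u.app _) ≪≫ l₁ ≪≫
    (ED (algebraMap S S')).mapIso ((ModuleCat.coextendScalars.{u, u, u} (algebraMap A S)).mapDerivedCategoryFactors.app K₀) ≪≫
    (ModuleCat.extendScalars.{u, u, u} (algebraMap S S')).mapDerivedCategoryFactors.app _ ≪≫
    DerivedCategory.Q.mapIso ec ≪≫
    ((ModuleCat.coextendScalars.{u, u, u} (algebraMap A' S')).mapDerivedCategoryFactors.app _).symm ≪≫
    (ModuleCat.coextendScalars.{u, u, u} (algebraMap A' S')).mapDerivedCategory.mapIso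
      (((ModuleCat.extendScalars.{u, u, u} (algebraMap A A')).mapDerivedCategoryFactors.app K₀).symm ≪≫
        (ED (algebraMap A A')).mapIso eK ≪≫ l₂.symm) ≪≫ (u'.app _).symm⟩

end BC

end Groth.L10.Shriek
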