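import Groth.Agent.L29.Dual.Coind
import Groth.Agent.L02.PC.BaseChange
import Mathlib.Algebra.Homology.DerivedCategory.ShortExact
import Mathlib.Algebra.Homology.HomologicalComplexAbelian
import Mathlib.Algebra.Category.ModuleCat.ChangeOfRings
import Mathlib.CategoryTheory.Localization.Adjunction

/-!
A section cut out by one regular element: the right adjoint of restriction along the section, on extended objects.
-/

universe u

open CategoryTheory CategoryTheory.Limits CategoryTheory.Pretriangulated TensorProduct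

attribute [local instance] HasDerivedCategory.standard

set_option backward.defeqAttrib.useBackward true
set_option backward.isDefEq.respectTransparency false
set_option linter.style.haveILetI false

namespace Groth.L10.Shriek

variable {R P : Type u} [CommRing R] [CommRing P] (ι : R →+* P) (σ : P →+* R) (hσι : ∀ r, σ (ι r) = r)


include hσι in
/-- a module is its own restriction along the two maps -/
noncomputable def resIdApp (M : ModuleCat.{u} R) : M ≅ (ModuleCat.restrictScalars.{u} ι).obj ((ModuleCat.restrictScalars.{u} σ).obj M) :=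
  LinearEquiv.toModuleIso (X₂ := (ModuleCat.restrictScalars.{u} ι).obj ((ModuleCat.restrictScalars.{u} σ).obj M))
    { AddEquiv.refl M with
      map_smul' := fun r x => by
        show r • x = σ (ι r) • x
        rw [hσι] }

/-- the projection to the section -/
noncomputable def πM : (ModuleCat.extendScalars.{u, u, u} ι) ⟶ ModuleCat.restrictScalars.{u} σ where
  app M := ((ModuleCat.extendRestrictScalarsAdj ι).homEquiv M ((ModuleCat.restrictScalars.{u} σ).obj M)).symm (resIdApp ι σ hσι M).hom
  naturality M N f := by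
    rw [← Adjunction.homEquiv_naturality_left_symm, ← Adjunction.homEquiv_naturality_right_symm]
    rfl

theorem unit_πM (M : ModuleCat.{u} R) :
    (ModuleCat.extendRestrictScalarsAdj ι).unit.app M ≫ (ModuleCat.restrictScalars.{u} ι).map ((πM ι σ hσι).app M) =
      (resIdApp ι σ hσι M).hom :=
  ((ModuleCat.extendRestrictScalarsAdj ι).homEquiv_unit _ _ _).symm.trans
    (Equiv.apply_symm_apply _ _)

/-- base change of complexes -/
noncomputable abbrev extC : DRing.Cx R ⥤ DRing.Cx P := (ModuleCat.extendScalars.{u, u, u} ι).mapHomologicalComplex (ComplexShape.up ℤ)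

/-- restriction of complexes to the section -/
noncomputable abbrev secC : DRing.Cx R ⥤ DRing.Cx P := (ModuleCat.restrictScalars.{u} σ).mapHomologicalComplex (ComplexShape.up ℤ)

/-- restriction of complexes to the base -/
noncomputable abbrev resC : DRing.Cx P ⥤ DRing.Cx R := (ModuleCat.restrictScalars.{u} ι).mapHomologicalComplex (ComplexShape.up ℤ)

noncomputable def πC : extC ι ⟶ secC σ := NatTrans.mapHomologicalComplex (πM ι σ hσι) _

/-- the adjunction on complexes -/
noncomputable def adjC : extC ι ⊣ resC ι :=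
  Adjunction.mkOfUnitCounit
    { unit :=
        { app := fun K =>
            { f := fun n => (ModuleCat.extendRestrictScalarsAdj ι).unit.app (K.X n)
              comm' := fun i j _ => ((ModuleCat.extendRestrictScalarsAdj ι).unit.naturality (K.d i j)).symm }
          naturality := fun K L f => by
            ext n : 1
            exact (ModuleCat.extendRestrictScalarsAdj ι).unit.naturality (f.f n) }
      counit :=
        { app := fun K =>
            { f := fun n => (ModuleCat.extendRestrictScalarsAdj ι).counit.app (K.X n)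
              comm' := fun i j _ => ((ModuleCat.extendRestrictScalarsAdj ι).counit.naturality (K.d i j)).symm }
          naturality := fun K L f => by
            ext n : 1
            exact (ModuleCat.extendRestrictScalarsAdj ι).counit.naturality (f.f n) }
      left_triangle := by
        ext K n : 3
        simpa using (ModuleCat.extendRestrictScalarsAdj ι).left_triangle_components (K.X n)
      right_triangle := by
        ext K n : 3
        simpa using (ModuleCat.extendRestrictScalarsAdj ι).right_triangle_components (K.X n) }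

instance : (ModuleCat.extendScalars.{u, u, u} ι).IsLeftAdjoint := (ModuleCat.extendRestrictScalarsAdj.{u, u, u} ι).isLeftAdjoint

variable [PreservesFiniteLimits (ModuleCat.extendScalars.{u, u, u} ι)]

/-- derived base change along a flat map -/
noncomputable abbrev ED : Dual.D R ⥤ Dual.D P := (ModuleCat.extendScalars.{u, u, u} ι).mapDerivedCategory


noncomputable instance : CatCommSq (extC ι) DerivedCategory.Q DerivedCategory.Q (ED ι) :=
  ⟨((ModuleCat.extendScalars.{u, u, u} ι).mapDerivedCategoryFactors).symm⟩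

noncomputable instance : CatCommSq (resC ι) DerivedCategory.Q DerivedCategory.Q (DRing.restrictD ι) :=
  ⟨((ModuleCat.restrictScalars.{u} ι).mapDerivedCategoryFactors).symm⟩

/-- the adjunction on derived categories -/
noncomputable def adjD : ED ι ⊣ DRing.restrictD ι :=
  (adjC ι).localization DerivedCategory.Q (HomologicalComplex.quasiIso (ModuleCat.{u} R) (ComplexShape.up ℤ)) DerivedCategory.Q (HomologicalComplex.quasiIso (ModuleCat.{u} P) (ComplexShape.up ℤ)) (ED ι) (DRing.restrictD ι)

noncomputable instance : Localization.Lifting DerivedCategory.Q (HomologicalComplex.quasiIso (ModuleCat.{u} R) (ComplexShape.up ℤ)) (secC σ ⋙ DerivedCategory.Q)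
    (DRing.restrictD σ) :=
  ⟨(ModuleCat.restrictScalars.{u} σ).mapDerivedCategoryFactors⟩

/-- the projection on derived categories -/
noncomputable def πD : ED ι ⟶ DRing.restrictD σ :=
  Localization.liftNatTrans DerivedCategory.Q (HomologicalComplex.quasiIso (ModuleCat.{u} R) (ComplexShape.up ℤ)) (extC ι ⋙ DerivedCategory.Q) (secC σ ⋙ DerivedCategory.Q)
    (ED ι) (DRing.restrictD σ) (Functor.whiskerRight (πC ι σ hσι) DerivedCategory.Q)

theorem πD_app (K : DRing.Cx R) :
    (πD ι σ hσι).app (DerivedCategory.Q.obj K) = (ModuleCat.extendScalars.{u, u, u} ι).mapDerivedCategoryFactors.hom.app K ≫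
      DerivedCategory.Q.map ((πC ι σ hσι).app K) ≫ (ModuleCat.restrictScalars.{u} σ).mapDerivedCategoryFactors.inv.app K :=
  Localization.liftNatTrans_app ..

/-- the unit followed by the projection -/
noncomputable def cD : 𝟭 (Dual.D R) ⟶ DRing.restrictD σ ⋙ DRing.restrictD ι :=
  (adjD ι).unit ≫ Functor.whiskerRight (πD ι σ hσι) (DRing.restrictD ι)

theorem cD_app (X : Dual.D R) :
    (cD ι σ hσι).app X = (adjD ι).unit.app X ≫ (DRing.restrictD ι).map ((πD ι σ hσι).app X) := rfl

instance isIso_cD_app (X : Dual.D R) : IsIso ((cD ι σ hσι).app X) := by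
  rw [← NatTrans.isIso_app_iff_of_iso (cD ι σ hσι) (DerivedCategory.Q.objObjPreimageIso X)]
  generalize DerivedCategory.Q.objPreimage X = K
  haveI : IsIso ((adjC ι).unit.app K ≫ (resC ι).map ((πC ι σ hσι).app K)) := by
    haveI : ∀ n, IsIso (((adjC ι).unit.app K ≫ (resC ι).map ((πC ι σ hσι).app K)).f n) := fun n => by
      show IsIso ((ModuleCat.extendRestrictScalarsAdj ι).unit.app (K.X n) ≫ (ModuleCat.restrictScalars.{u} ι).map ((πM ι σ hσι).app (K.X n)))
      rw [unit_πM]
      infer_instance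
    exact HomologicalComplex.Hom.isIso_of_components _
  have h1 : (adjD ι).unit.app (DerivedCategory.Q.obj K) =
      DerivedCategory.Q.map ((adjC ι).unit.app K) ≫
        (ModuleCat.restrictScalars.{u} ι).mapDerivedCategoryFactors.inv.app ((extC ι).obj K) ≫
        (DRing.restrictD ι).map ((ModuleCat.extendScalars.{u, u, u} ι).mapDerivedCategoryFactors.inv.app K) :=
    Adjunction.localization_unit_app ..
  have h2 : (cD ι σ hσι).app (DerivedCategory.Q.obj K) =
      DerivedCategory.Q.map ((adjC ι).unit.app K ≫ (resC ι).map ((πC ι σ hσι).app K)) ≫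
        (ModuleCat.restrictScalars.{u} ι).mapDerivedCategoryFactors.inv.app ((secC σ).obj K) ≫
        (DRing.restrictD ι).map ((ModuleCat.restrictScalars.{u} σ).mapDerivedCategoryFactors.inv.app K) := by
    rw [cD_app, h1, πD_app]
    simp only [Category.assoc]
    have hn := (ModuleCat.restrictScalars.{u} ι).mapDerivedCategoryFactors.inv.naturality ((πC ι σ hσι).app K)
    simp only [Functor.comp_map] at hn
    simp only [← Functor.map_comp, Iso.inv_hom_id_app_assoc]
    erw [Functor.map_comp, Functor.map_comp, Category.assoc]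
    exact congrArg (DerivedCategory.Q.map ((adjC ι).unit.app K) ≫ ·) ((reassoc_of% hn) _).symm
  rw [h2]
  infer_instance

include hσι in
/-- maps into the section are maps of the base -/
theorem bijective_π (X Y : Dual.D R) :
    Function.Bijective fun u : X ⟶ Y => (πD ι σ hσι).app X ≫ (DRing.restrictD σ).map u := by
  have h : ∀ u : X ⟶ Y, (adjD ι).homEquiv X ((DRing.restrictD σ).obj Y)
      ((πD ι σ hσι).app X ≫ (DRing.restrictD σ).map u) = u ≫ (cD ι σ hσι).app Y := fun u => by
    rw [Adjunction.homEquiv_unit, Functor.map_comp, ← Category.assoc]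
    exact ((cD ι σ hσι).naturality u).symm
  refine (((adjD ι).homEquiv X ((DRing.restrictD σ).obj Y)).comp_bijective _).1 ?_
  rw [show (⇑((adjD ι).homEquiv X ((DRing.restrictD σ).obj Y)) ∘
      fun u : X ⟶ Y => (πD ι σ hσι).app X ≫ (DRing.restrictD σ).map u) =
      fun u => u ≫ (cD ι σ hσι).app Y from funext h]
  exact ((asIso ((cD ι σ hσι).app Y)).homToEquiv).bijective

include hσι in
/-- the case of an isomorphism -/
theorem nonempty_iso_rightAdjoint_of_isIso [∀ M, IsIso ((πM ι σ hσι).app M)]
    {Rσ : Dual.D P ⥤ Dual.D R} (adj : DRing.restrictD σ ⊣ Rσ) (Y : Dual.D R) :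
    Nonempty (Rσ.obj ((ED ι).obj Y) ≅ Y) := by
  have hπ : ∀ X, IsIso ((πD ι σ hσι).app X) := fun X => by
    rw [← NatTrans.isIso_app_iff_of_iso (πD ι σ hσι) (DerivedCategory.Q.objObjPreimageIso X), πD_app]
    haveI : IsIso ((πC ι σ hσι).app (DerivedCategory.Q.objPreimage X)) := by
      haveI : ∀ n, IsIso (((πC ι σ hσι).app (DerivedCategory.Q.objPreimage X)).f n) := fun n =>
        inferInstanceAs (IsIso ((πM ι σ hσι).app _))
      exact HomologicalComplex.Hom.isIso_of_components _
    infer_instance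
  haveI := hπ Y
  let θ := adj.homEquiv _ _ (inv ((πD ι σ hσι).app Y))
  suffices h : ∀ X, Function.Bijective fun u : X ⟶ Y => u ≫ θ by
    haveI : IsIso θ := by
      obtain ⟨g, hg⟩ := (h _).2 (𝟙 _)
      exact ⟨g, (h _).1 (by
        show (θ ≫ g) ≫ θ = 𝟙 _ ≫ θ
        rw [Category.assoc]
        exact (congrArg (θ ≫ ·) hg).trans ((Category.comp_id _).trans (Category.id_comp _).symm)), hg⟩
    exact ⟨(asIso θ).symm⟩
  intro X
  haveI := hπ X
  have e : (fun u : X ⟶ Y => u ≫ θ) = adj.homEquiv _ _ ∘
      ((fun g => (inv ((πD ι σ hσι).app X) ≫ g) ≫ inv ((πD ι σ hσι).app Y)) ∘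
        fun u : X ⟶ Y => (πD ι σ hσι).app X ≫ (DRing.restrictD σ).map u) := funext fun u => by
    simp only [Function.comp_apply, IsIso.inv_hom_id_assoc]
    exact (adj.homEquiv_naturality_left u _).symm
  rw [e]
  refine (adj.homEquiv _ _).bijective.comp (Function.Bijective.comp ?_ (bijective_π ι σ hσι X Y))
  refine ⟨fun g g' h => ?_, fun g => ⟨(πD ι σ hσι).app X ≫ g ≫ (πD ι σ hσι).app Y, by simp⟩⟩
  simpa using h

section Element

variable (t : P)
variable (hses : ∀ (M : ModuleCat.{u} R) (w : (t • 𝟙 ((ModuleCat.extendScalars.{u, u, u} ι).obj M)) ≫ (πM ι σ hσι).app M = 0),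
  (ShortComplex.mk (t • 𝟙 ((ModuleCat.extendScalars.{u, u, u} ι).obj M)) ((πM ι σ hσι).app M) w).ShortExact)
variable (ht : σ t = 0)

include ht in
theorem smul_πM (M : ModuleCat.{u} R) : (t • 𝟙 ((ModuleCat.extendScalars.{u, u, u} ι).obj M)) ≫ (πM ι σ hσι).app M = 0 := by
  refine ModuleCat.hom_ext (LinearMap.ext fun x => ?_)
  rw [Linear.smul_comp, Category.id_comp]
  show σ t • (show M from ((πM ι σ hσι).app M).hom x) = 0
  rw [ht, zero_smul]

include ht in
theorem smul_πC (K : DRing.Cx R) : (t • 𝟙 ((extC ι).obj K)) ≫ (πC ι σ hσι).app K = 0 := by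
  ext n : 1
  exact smul_πM ι σ hσι t ht (K.X n)

/-- the short complex of complexes -/
noncomputable abbrev sesC (K : DRing.Cx R) : ShortComplex (DRing.Cx P) :=
  ShortComplex.mk (t • 𝟙 ((extC ι).obj K)) ((πC ι σ hσι).app K) (smul_πC ι σ hσι t ht K)

/-- functoriality of the short complex -/
noncomputable def sesMap {K L : DRing.Cx R} (f : K ⟶ L) : sesC ι σ hσι t ht K ⟶ sesC ι σ hσι t ht L where
  τ₁ := (extC ι).map f
  τ₂ := (extC ι).map f
  τ₃ := (secC σ).map f
  comm₁₂ := by
    show (extC ι).map f ≫ (t • 𝟙 _) = (t • 𝟙 _) ≫ (extC ι).map f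
    rw [Linear.comp_smul, Linear.smul_comp, Category.comp_id, Category.id_comp]
  comm₂₃ := (πC ι σ hσι).naturality f

include hses in
theorem sesC_shortExact (K : DRing.Cx R) : (sesC ι σ hσι t ht K).ShortExact :=
  HomologicalComplex.shortExact_of_degreewise_shortExact _ fun n => hses (K.X n) (smul_πM ι σ hσι t ht _)

/-- the connecting map on derived categories -/
noncomputable def δD : DRing.restrictD σ ⟶ ED ι ⋙ shiftFunctor (Dual.D P) (1 : ℤ) :=
  Localization.liftNatTrans DerivedCategory.Q (HomologicalComplex.quasiIso (ModuleCat.{u} R) (ComplexShape.up ℤ)) (secC σ ⋙ DerivedCategory.Q)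
    ((extC ι ⋙ DerivedCategory.Q) ⋙ shiftFunctor (Dual.D P) (1 : ℤ))
    (DRing.restrictD σ) (ED ι ⋙ shiftFunctor (Dual.D P) (1 : ℤ))
    { app := fun K => DerivedCategory.triangleOfSESδ (sesC_shortExact ι σ hσι t hses ht K)
      naturality := fun K L f => (DerivedCategory.triangleOfSESδ_naturality _ _ (sesMap ι σ hσι t ht f)).symm }

theorem δD_app (K : DRing.Cx R) :
    (δD ι σ hσι t hses ht).app (DerivedCategory.Q.obj K) = (ModuleCat.restrictScalars.{u} σ).mapDerivedCategoryFactors.hom.app K ≫
      DerivedCategory.triangleOfSESδ (sesC_shortExact ι σ hσι t hses ht K) ≫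
        ((ModuleCat.extendScalars.{u, u, u} ι).mapDerivedCategoryFactors.inv.app K)⟦(1 : ℤ)⟧' :=
  Localization.liftNatTrans_app ..

/-- the natural triangle -/
theorem tri (X : Dual.D R) :
    Triangle.mk (t • 𝟙 ((ED ι).obj X)) ((πD ι σ hσι).app X) ((δD ι σ hσι t hses ht).app X) ∈ distTriang _ := by
  let K := DerivedCategory.Q.objPreimage X
  let e : DerivedCategory.Q.obj K ≅ X := DerivedCategory.Q.objObjPreimageIso X
  refine isomorphic_distinguished _ (DerivedCategory.triangleOfSES_distinguished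
    (sesC_shortExact ι σ hσι t hses ht K)) _ ?_
  refine Triangle.isoMk _ _ ((ED ι).mapIso e.symm ≪≫ (ModuleCat.extendScalars.{u, u, u} ι).mapDerivedCategoryFactors.app K)
    ((ED ι).mapIso e.symm ≪≫ (ModuleCat.extendScalars.{u, u, u} ι).mapDerivedCategoryFactors.app K)
    ((DRing.restrictD σ).mapIso e.symm ≪≫ (ModuleCat.restrictScalars.{u} σ).mapDerivedCategoryFactors.app K) ?_ ?_ ?_
  · show (t • 𝟙 ((ED ι).obj X)) ≫ _ = _ ≫ DerivedCategory.Q.map (t • 𝟙 _)
    rw [DerivedCategory.Q.map_smul, CategoryTheory.Functor.map_id, Linear.smul_comp, Linear.comp_smul,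
      Category.id_comp, Category.comp_id]
  · show (πD ι σ hσι).app X ≫ ((DRing.restrictD σ).map e.inv ≫ (ModuleCat.restrictScalars.{u} σ).mapDerivedCategoryFactors.hom.app K) =
      ((ED ι).map e.inv ≫ (ModuleCat.extendScalars.{u, u, u} ι).mapDerivedCategoryFactors.hom.app K) ≫ DerivedCategory.Q.map ((πC ι σ hσι).app K)
    erw [← (πD ι σ hσι).naturality_assoc e.inv, πD_app]
    simp only [Category.assoc, Iso.inv_hom_id_app, Category.comp_id]
    rfl
  · show (δD ι σ hσι t hses ht).app X ≫ ((ED ι).map e.inv ≫ (ModuleCat.extendScalars.{u, u, u} ι).mapDerivedCategoryFactors.hom.app K)⟦(1 : ℤ)⟧' =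
      ((DRing.restrictD σ).map e.inv ≫ (ModuleCat.restrictScalars.{u} σ).mapDerivedCategoryFactors.hom.app K) ≫
        DerivedCategory.triangleOfSESδ (sesC_shortExact ι σ hσι t hses ht K)
    rw [Functor.map_comp]
    erw [← (δD ι σ hσι t hses ht).naturality_assoc e.inv, δD_app]
    simp only [Category.assoc, ← Functor.map_comp, Iso.inv_hom_id_app]
    erw [CategoryTheory.Functor.map_id, Category.comp_id]

include hses ht hσι in
/-- multiplication by the element is injective on maps of extended objects -/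
theorem eq_zero_of_smul (X Y : Dual.D R) (v : (ED ι).obj X ⟶ (ED ι).obj Y) (hv : t • v = 0) : v = 0 := by
  apply (shiftFunctor (Dual.D P) (1 : ℤ)).map_injective
  rw [Functor.map_zero]
  have hT := tri ι σ hσι t hses ht Y
  obtain ⟨w, hw⟩ := Triangle.coyoneda_exact₁ _ hT (v⟦(1 : ℤ)⟧') (by
    show v⟦(1 : ℤ)⟧' ≫ (t • 𝟙 ((ED ι).obj Y))⟦(1 : ℤ)⟧' = 0
    rw [← Functor.map_comp, Linear.comp_smul, Category.comp_id, hv, Functor.map_zero])
  obtain ⟨u, hu⟩ := (bijective_π ι σ hσι (X⟦(1 : ℤ)⟧) Y).2 (((ED ι).commShiftIso (1 : ℤ)).hom.app X ≫ w)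
  have hw' : w = ((ED ι).commShiftIso (1 : ℤ)).inv.app X ≫ (ED ι).map u ≫ (πD ι σ hσι).app Y := by
    rw [(πD ι σ hσι).naturality u]
    exact ((Iso.app ((ED ι).commShiftIso (1 : ℤ)) X).eq_inv_comp).2 hu.symm
  rw [hw, hw', Category.assoc, Category.assoc]
  erw [comp_distTriang_mor_zero₂₃ _ hT, comp_zero, comp_zero]

include hses ht hσι in
theorem δ_injective (X Y : Dual.D R) (u : X ⟶ Y)
    (hu : (DRing.restrictD σ).map u ≫ (δD ι σ hσι t hses ht).app Y = 0) : u = 0 := by
  have hT := tri ι σ hσι t hses ht Y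
  obtain ⟨g, hg⟩ := Triangle.coyoneda_exact₃ _ hT ((DRing.restrictD σ).map u) hu
  have h0 : (πD ι σ hσι).app X ≫ g = 0 := by
    refine eq_zero_of_smul ι σ hσι t hses ht X Y _ ?_
    have h : (t • 𝟙 ((ED ι).obj X)) ≫ (πD ι σ hσι).app X = 0 :=
      comp_distTriang_mor_zero₁₂ _ (tri ι σ hσι t hses ht X)
    have h' := congrArg (· ≫ g) h
    simpa only [Category.assoc, zero_comp, Linear.smul_comp, Category.id_comp] using h'
  refine (bijective_π ι σ hσι X Y).1 ?_
  show (πD ι σ hσι).app X ≫ (DRing.restrictD σ).map u = (πD ι σ hσι).app X ≫ (DRing.restrictD σ).map 0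
  rw [hg, Functor.map_zero, comp_zero]
  erw [← Category.assoc, h0, zero_comp]

include hses ht hσι in
theorem δ_surjective (X Y : Dual.D R)
    (g : (DRing.restrictD σ).obj X ⟶ ((ED ι).obj Y)⟦(1 : ℤ)⟧) :
    ∃ u : X ⟶ Y, (DRing.restrictD σ).map u ≫ (δD ι σ hσι t hses ht).app Y = g := by
  have hX := tri ι σ hσι t hses ht X
  have hY := tri ι σ hσι t hses ht Y
  let cY := ((ED ι).commShiftIso (1 : ℤ)).app Y
  have h0 : (πD ι σ hσι).app X ≫ g = 0 := by
    rw [← cancel_mono cY.inv, zero_comp]
    refine eq_zero_of_smul ι σ hσι t hses ht X (Y⟦(1 : ℤ)⟧) _ ?_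
    have h : (t • 𝟙 ((ED ι).obj X)) ≫ (πD ι σ hσι).app X = 0 := comp_distTriang_mor_zero₁₂ _ hX
    have h' := congrArg (· ≫ g ≫ cY.inv) h
    simpa only [Category.assoc, zero_comp, Linear.smul_comp, Category.id_comp] using h'
  obtain ⟨h', hh'⟩ := Triangle.yoneda_exact₃ _ hX g h0
  obtain ⟨h, rfl⟩ : ∃ h : (ED ι).obj X ⟶ (ED ι).obj Y, h⟦(1 : ℤ)⟧' = h' :=
    (shiftFunctor (Dual.D P) (1 : ℤ)).map_surjective h'
  obtain ⟨u, hu⟩ := (bijective_π ι σ hσι X Y).2 (h ≫ (πD ι σ hσι).app Y)
  refine ⟨u, ?_⟩
  have hv : (h - (ED ι).map u) ≫ (πD ι σ hσι).app Y = 0 := by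
    rw [Preadditive.sub_comp, (πD ι σ hσι).naturality u, sub_eq_zero]
    exact hu.symm
  obtain ⟨z, hz⟩ := Triangle.coyoneda_exact₂ _ hY _ hv
  have h1 : (δD ι σ hσι t hses ht).app X ≫ (h - (ED ι).map u)⟦(1 : ℤ)⟧' = 0 := by
    have h2 : h - (ED ι).map u = (t • 𝟙 ((ED ι).obj X)) ≫ z := by
      rw [hz, Linear.smul_comp, Category.id_comp]
      show z ≫ (t • 𝟙 _) = _
      rw [Linear.comp_smul]
      exact congrArg (t • ·) (Category.comp_id z)
    rw [h2, Functor.map_comp, ← Category.assoc]
    erw [comp_distTriang_mor_zero₃₁ _ hX]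
    rw [zero_comp]
  rw [Functor.map_sub, Preadditive.comp_sub, sub_eq_zero] at h1
  rw [(δD ι σ hσι t hses ht).naturality u]
  exact h1.symm.trans hh'.symm

include hses ht hσι in
/-- the right adjoint of restriction along the section, on extended objects -/
theorem nonempty_iso_rightAdjoint {Rσ : Dual.D P ⥤ Dual.D R} (adj : DRing.restrictD σ ⊣ Rσ) (Y : Dual.D R) :
    Nonempty (Rσ.obj (((ED ι).obj Y)⟦(1 : ℤ)⟧) ≅ Y) := by
  let θ := adj.homEquiv _ _ ((δD ι σ hσι t hses ht).app Y)
  suffices h : ∀ X, Function.Bijective fun u : X ⟶ Y => u ≫ θ by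
    haveI : IsIso θ := by
      obtain ⟨g, hg⟩ := (h _).2 (𝟙 _)
      exact ⟨g, (h _).1 (by
        show (θ ≫ g) ≫ θ = 𝟙 _ ≫ θ
        rw [Category.assoc]
        exact (congrArg (θ ≫ ·) hg).trans ((Category.comp_id _).trans (Category.id_comp _).symm)), hg⟩
    exact ⟨(asIso θ).symm⟩
  intro X
  have e : (fun u : X ⟶ Y => u ≫ θ) = adj.homEquiv _ _ ∘
      fun u : X ⟶ Y => (DRing.restrictD σ).map u ≫ (δD ι σ hσι t hses ht).app Y :=
    funext fun u => (adj.homEquiv_naturality_left u _).symm
  rw [e]
  refine (adj.homEquiv _ _).bijective.comp ⟨fun u v huv => ?_, fun g => δ_surjective ι σ hσι t hses ht X Y g⟩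
  refine sub_eq_zero.1 (δ_injective ι σ hσι t hses ht X Y _ ?_)
  rw [Functor.map_sub, Preadditive.sub_comp, sub_eq_zero]
  exact huv

end Element

end Groth.L10.Shriek
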